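import Mathlib
set_option linter.all false

/-!
# ODD half, D4, sporadic components: the fact sheet

`X` is a finite simple group (the component `K ≅ X`, `Z(K) = 1`). All facts are about `X` and `Aut(X)`.

`Sheet X` = everything the row "D4, `K ≅ X`" needs (see `Spor/Main.lean`):
`out`, `schreier`, `sylAut`, `z1`, `bal` : general facts;
`out2` : only if `|Out(X)|₂ = 2` (vacuous otherwise: `out2_of_inn`);
`tab` : about the subgroups `B` normalized by `C(b)` for all involutions `b ∈ B` (`BadB B D`). Mostly the element form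
is enough (`tab_of_not_bad`, `tab_of_elt`): for every involution `w` which is not 2-central, a normal subgroup `N` of
`C(w)` with `w ∈ N`, `4 ∣ |N|`, contains a 2-central involution (then `Bad w N` is impossible and `tab` is vacuous:
`tab_of_not_bad`), or `N` is as in `VFacts` (J2, Suz, Co1, Ru: `Sig`; He, M24: `SwapIn`). For the Baby Monster (`w` in
2C) use `tab_of_not_badB`.

If all the involutions of `X` are 2-central, `out2` and `tab` are vacuous (`Sheet.of_all_cen`).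
-/

set_option autoImplicit false

namespace Cfsg.Agent.OddHalf.D4.Spor

open Subgroup

variable {X : Type*} [Group X]

/-- `w` centralizes a Sylow 2-subgroup. -/
def Cen (w : X) : Prop := ∃ S : Sylow 2 X, ∀ s ∈ S, s * w = w * s

/-- `α` is an inner automorphism. -/
def Inn (α : MulAut X) : Prop := ∃ k : X, α = MulAut.conj k

/-- `w` is an involution, `N` is a normal subgroup of `C(w)` containing `w`, of order divisible by 4, and no
involution of `N` is 2-central. -/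
structure Bad (w : X) (N : Subgroup X) : Prop where
  sq : w * w = 1
  ne : w ≠ 1
  mem : w ∈ N
  le : ∀ n ∈ N, n * w = w * n
  norm : ∀ c : X, c * w = w * c → ∀ n ∈ N, c * n * c⁻¹ ∈ N
  four : 4 ∣ Nat.card ↥N
  non : ∀ b ∈ N, b * b = 1 → b ≠ 1 → ¬ Cen b

/-- `B` has order divisible by 4, no involution of `B` is 2-central, `B` is normalized by `D`, and `D` contains the
centralizers of the involutions of `B`, but no Sylow 2-subgroup. -/
structure BadB (B D : Subgroup X) : Prop where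
  four : 4 ∣ Nat.card ↥B
  non : ∀ b ∈ B, b * b = 1 → b ≠ 1 → ¬ Cen b
  cent : ∀ b ∈ B, b * b = 1 → b ≠ 1 → ∀ c : X, c * b = b * c → c ∈ D
  norm : ∀ d ∈ D, ∀ n ∈ B, d * n * d⁻¹ ∈ B
  noSyl : ∀ S : Sylow 2 X, ¬ (S : Subgroup X) ≤ D
  /-- if all automorphisms are inner, `B` contains a four-group -/
  four_group : (∀ α : MulAut X, Inn α) → ∃ a ∈ B, ∃ b ∈ B, a * a = 1 ∧ a ≠ 1 ∧ b * b = 1 ∧ b ≠ 1 ∧ a ≠ b ∧
    a * b = b * a

/-- kill by a swap: some `v ∈ V ∩ L` is a commutator `[c, v']`, `c ∈ C(v)`, `v' ∈ V`. -/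
def SwapIn (V L : Subgroup X) : Prop :=
  ∃ v ∈ V, v ≠ 1 ∧ v ∈ L ∧ ∃ v' ∈ V, ∃ c : X, c * v = v * c ∧ c * v' * c⁻¹ * v'⁻¹ = v

/-- kill by one element: every involution `v` of `V` is conjugate to some `v l`, `l ∈ L` a 2-central involution of
`L`; the 2-central involutions of `L` are 2-central in `X`. -/
structure Sig (V L : Subgroup X) : Prop where
  conj : ∀ v ∈ V, v * v = 1 → v ≠ 1 → ∃ k : X, ∃ l : ↥L, (l : X) ≠ 1 ∧ k * v * k⁻¹ = v * l ∧ Cen l
  cen : ∀ l : ↥L, l * l = 1 → l ≠ 1 → Cen l → Cen (l : X)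

/-- `V` is abelian, `L` is the largest perfect subgroup of `C(V)`. -/
structure VFacts (V L : Subgroup X) : Prop where
  comm : ∀ a ∈ V, ∀ b ∈ V, a * b = b * a
  perf : ⁅L, L⁆ = L
  cent : ∀ l ∈ L, ∀ v ∈ V, l * v = v * l
  max : ∀ P : Subgroup X, ⁅P, P⁆ = P → (∀ l ∈ P, ∀ v ∈ V, l * v = v * l) → P ≤ L
  kill : SwapIn V L ∨ Sig V L

/-- The fact sheet. -/
structure Sheet (X : Type*) [Group X] : Prop where
  /-- `|Out(X)|₂ ≤ 2` -/
  out : ¬ 4 ∣ (MulAut.conj : X →* MulAut X).range.index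
  /-- perfect groups of automorphisms are inner -/
  schreier : ∀ P : Subgroup (MulAut X), ⁅P, P⁆ = P → P ≤ (MulAut.conj : X →* MulAut X).range
  /-- a 2-element of `Aut(X)` centralizing a Sylow 2-subgroup is inner -/
  sylAut : ∀ S : Sylow 2 X, ∀ α : MulAut X, IsPGroup 2 ↥(zpowers α) → (∀ x ∈ S, α x = x) → Inn α
  /-- the centre of a Sylow 2-subgroup contains only one involution -/
  z1 : ∀ S : Sylow 2 X, ∀ a ∈ S, a * a = 1 → a ≠ 1 → (∀ s ∈ S, s * a = a * s) →
    ∀ b ∈ S, b * b = 1 → b ≠ 1 → (∀ s ∈ S, s * b = b * s) → a = b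
  /-- `O(C(a)) = 1` -/
  bal : ∀ a : X, a * a = 1 → a ≠ 1 → ∀ I : Subgroup X, (∀ i ∈ I, i * a = a * i) →
    (∀ c : X, c * a = a * c → ∀ i ∈ I, c * i * c⁻¹ ∈ I) → Odd (Nat.card ↥I) → I = ⊥
  /-- no outer involution `α` and no involution `w`, not 2-central, with: `α` fixes or multiplies by `w` every element
  of `C(w)`; some normal subgroup `N` of `C(α)` with `w ∈ N` has order `≡ 2 (mod 4)` (any of the hypotheses may be
  used) -/
  out2 : ∀ α : MulAut X, ¬ Inn α → α * α = 1 → ∀ w : X, w * w = 1 → w ≠ 1 → ¬ Cen w → α w = w →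
    (∀ c : X, c * w = w * c → α c = c ∨ α c = w * c) →
    ∀ N : Subgroup X, w ∈ N → (∀ n ∈ N, α n = n) → (∀ c : X, α c = c → ∀ n ∈ N, c * n * c⁻¹ ∈ N) →
    Nat.card ↥N % 4 = 2 → False
  /-- the involutions which are not 2-central; `V` is a Sylow 2-subgroup of `B` (use `tab_of_not_bad`, `tab_of_elt`) -/
  tab : ∀ B D : Subgroup X, BadB B D → ∀ V : Subgroup X, V ≤ B → IsPGroup 2 ↥V →
    (∀ P : Subgroup X, IsPGroup 2 ↥P → V ≤ P → P ≤ B → P = V) → 4 ∣ Nat.card ↥V →
    ∃ L : Subgroup X, VFacts V L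

/-- `out2` if all automorphisms are inner -/
theorem out2_of_inn (h : ∀ α : MulAut X, Inn α) :
    ∀ α : MulAut X, ¬ Inn α → α * α = 1 → ∀ w : X, w * w = 1 → w ≠ 1 → ¬ Cen w → α w = w →
    (∀ c : X, c * w = w * c → α c = c ∨ α c = w * c) →
    ∀ N : Subgroup X, w ∈ N → (∀ n ∈ N, α n = n) → (∀ c : X, α c = c → ∀ n ∈ N, c * n * c⁻¹ ∈ N) →
    Nat.card ↥N % 4 = 2 → False :=
  fun α h1 => absurd (h α) h1

/-- `out2` if all involutions are 2-central -/
theorem out2_of_all_cen (h : ∀ w : X, w * w = 1 → w ≠ 1 → Cen w) :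
    ∀ α : MulAut X, ¬ Inn α → α * α = 1 → ∀ w : X, w * w = 1 → w ≠ 1 → ¬ Cen w → α w = w →
    (∀ c : X, c * w = w * c → α c = c ∨ α c = w * c) →
    ∀ N : Subgroup X, w ∈ N → (∀ n ∈ N, α n = n) → (∀ c : X, α c = c → ∀ n ∈ N, c * n * c⁻¹ ∈ N) →
    Nat.card ↥N % 4 = 2 → False :=
  fun _ _ _ w h1 h2 h3 => absurd (h w h1 h2) h3

/-- the element form of `tab`: if `w` is an involution of `B` with `4 ∣ |C_B(w)|`, then `Bad w (C_B(w))` -/
theorem BadB.bad {B D : Subgroup X} (h : BadB B D) {w : X} (hwB : w ∈ B) (hw : w * w = 1) (hw1 : w ≠ 1)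
    (h4 : 4 ∣ Nat.card ↥(B ⊓ centralizer ({w} : Set X))) : Bad w (B ⊓ centralizer ({w} : Set X)) where
  sq := hw
  ne := hw1
  mem := ⟨hwB, mem_centralizer_singleton_iff.mpr rfl⟩
  le := fun n hn => mem_centralizer_singleton_iff.mp hn.2
  norm := fun c hc n hn => by
    have hcw : c * w * c⁻¹ = w := by rw [hc, mul_inv_cancel_right]
    have hnw : n * w = w * n := mem_centralizer_singleton_iff.mp hn.2
    refine ⟨h.norm c (h.cent w hwB hw hw1 c hc) n hn.1, mem_centralizer_singleton_iff.mpr ?_⟩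
    calc c * n * c⁻¹ * w = c * n * c⁻¹ * (c * w * c⁻¹) := by rw [hcw]
      _ = c * (n * w) * c⁻¹ := by group
      _ = c * (w * n) * c⁻¹ := by rw [hnw]
      _ = (c * w * c⁻¹) * (c * n * c⁻¹) := by group
      _ = w * (c * n * c⁻¹) := by rw [hcw]
  four := h4
  non := fun b hb => h.non b hb.1

/-- a 2-group of order divisible by 4 has a central involution -/
theorem exists_central_invol [Finite X] {V : Subgroup X} (hV : IsPGroup 2 ↥V) (h4 : 4 ∣ Nat.card ↥V) :
    ∃ w ∈ V, w * w = 1 ∧ w ≠ 1 ∧ ∀ v ∈ V, v * w = w * v := by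
  have : Fact (Nat.Prime 2) := ⟨Nat.prime_two⟩
  have : Nontrivial ↥V := by
    rw [← Finite.one_lt_card_iff_nontrivial]
    exact lt_of_lt_of_le (by norm_num) (Nat.le_of_dvd Nat.card_pos h4)
  have := hV.center_nontrivial
  have h1 : 1 < Nat.card ↥(center ↥V) := Finite.one_lt_card_iff_nontrivial.mpr inferInstance
  obtain ⟨n, hn⟩ := IsPGroup.iff_card.mp (hV.to_subgroup (center ↥V))
  have h2 : 2 ∣ Nat.card ↥(center ↥V) := by
    rw [hn] at h1 ⊢
    rcases n with _ | n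
    · norm_num at h1
    · exact dvd_pow_self 2 (Nat.succ_ne_zero n)
  obtain ⟨w, hw⟩ := exists_prime_orderOf_dvd_card' 2 h2
  have hww : w * w = 1 := by
    have := pow_orderOf_eq_one w
    rw [hw, pow_two] at this
    exact this
  have hw1 : w ≠ 1 := by
    rintro rfl
    rw [orderOf_one] at hw
    norm_num at hw
  refine ⟨((w : ↥V) : X), (w : ↥V).2, ?_, ?_, ?_⟩
  · have := congrArg (fun x : ↥(center ↥V) => ((x : ↥V) : X)) hww
    simpa using this
  · intro h
    apply hw1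
    apply Subtype.ext
    apply Subtype.ext
    exact h
  · intro v hv
    have := mem_center_iff.mp w.2 ⟨v, hv⟩
    exact congrArg Subtype.val this

/-- **`tab` from the element form**: `w ∈ N` normal in `C(w)`, `V` a Sylow 2-subgroup of `N` centralizing `w`. -/
theorem tab_of_elt [Finite X]
    (h : ∀ (w : X) (N : Subgroup X), Bad w N → ∀ V : Subgroup X, V ≤ N → IsPGroup 2 ↥V → w ∈ V →
      (∀ v ∈ V, v * w = w * v) → (∀ P : Subgroup X, IsPGroup 2 ↥P → V ≤ P → P ≤ N → P = V) →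
      4 ∣ Nat.card ↥V → ∃ L : Subgroup X, VFacts V L) :
    ∀ B D : Subgroup X, BadB B D → ∀ V : Subgroup X, V ≤ B → IsPGroup 2 ↥V →
      (∀ P : Subgroup X, IsPGroup 2 ↥P → V ≤ P → P ≤ B → P = V) → 4 ∣ Nat.card ↥V →
      ∃ L : Subgroup X, VFacts V L := by
  intro B D hB V hVB hV hmax h4
  obtain ⟨w, hwV, hw, hw1, hwc⟩ := exists_central_invol hV h4
  have hVC : V ≤ B ⊓ centralizer ({w} : Set X) := fun v hv => ⟨hVB hv, mem_centralizer_singleton_iff.mpr (hwc v hv)⟩
  refine h w (B ⊓ centralizer ({w} : Set X)) (hB.bad (hVB hwV) hw hw1 (h4.trans (card_dvd_of_le hVC))) V hVC hV hwV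
    hwc (fun P hP hVP hPB => hmax P hP hVP (hPB.trans inf_le_left)) h4

/-- `tab` if `BadB` is impossible -/
theorem tab_of_not_badB (h : ∀ B D : Subgroup X, ¬ BadB B D) :
    ∀ B D : Subgroup X, BadB B D → ∀ V : Subgroup X, V ≤ B → IsPGroup 2 ↥V →
      (∀ P : Subgroup X, IsPGroup 2 ↥P → V ≤ P → P ≤ B → P = V) → 4 ∣ Nat.card ↥V →
      ∃ L : Subgroup X, VFacts V L :=
  fun B D hB => absurd hB (h B D)

/-- `tab` if `Bad` is impossible -/
theorem tab_of_not_bad [Finite X] (h : ∀ (w : X) (N : Subgroup X), ¬ Bad w N) :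
    ∀ B D : Subgroup X, BadB B D → ∀ V : Subgroup X, V ≤ B → IsPGroup 2 ↥V →
      (∀ P : Subgroup X, IsPGroup 2 ↥P → V ≤ P → P ≤ B → P = V) → 4 ∣ Nat.card ↥V →
      ∃ L : Subgroup X, VFacts V L :=
  tab_of_elt fun w N hN => absurd hN (h w N)

/-- `Bad` is impossible if all involutions are 2-central -/
theorem not_bad_of_all_cen (h : ∀ w : X, w * w = 1 → w ≠ 1 → Cen w) (w : X) (N : Subgroup X) : ¬ Bad w N :=
  fun hN => hN.non w hN.mem hN.sq hN.ne (h w hN.sq hN.ne)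

/-- sheet of a group all of whose involutions are 2-central -/
theorem Sheet.of_all_cen [Finite X] (out : ¬ 4 ∣ (MulAut.conj : X →* MulAut X).range.index)
    (schreier : ∀ P : Subgroup (MulAut X), ⁅P, P⁆ = P → P ≤ (MulAut.conj : X →* MulAut X).range)
    (sylAut : ∀ S : Sylow 2 X, ∀ α : MulAut X, IsPGroup 2 ↥(zpowers α) → (∀ x ∈ S, α x = x) → Inn α)
    (z1 : ∀ S : Sylow 2 X, ∀ a ∈ S, a * a = 1 → a ≠ 1 → (∀ s ∈ S, s * a = a * s) →
      ∀ b ∈ S, b * b = 1 → b ≠ 1 → (∀ s ∈ S, s * b = b * s) → a = b)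
    (bal : ∀ a : X, a * a = 1 → a ≠ 1 → ∀ I : Subgroup X, (∀ i ∈ I, i * a = a * i) →
      (∀ c : X, c * a = a * c → ∀ i ∈ I, c * i * c⁻¹ ∈ I) → Odd (Nat.card ↥I) → I = ⊥)
    (h : ∀ w : X, w * w = 1 → w ≠ 1 → Cen w) : Sheet X where
  out := out
  schreier := schreier
  sylAut := sylAut
  z1 := z1
  bal := bal
  out2 := out2_of_all_cen h
  tab := tab_of_not_bad (not_bad_of_all_cen h)

/-- `sylAut` if all automorphisms are inner -/
theorem sylAut_of_inn (h : ∀ α : MulAut X, Inn α) :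
    ∀ S : Sylow 2 X, ∀ α : MulAut X, IsPGroup 2 ↥(zpowers α) → (∀ x ∈ S, α x = x) → Inn α :=
  fun _ α _ _ => h α

/-- `out`, `schreier` if all automorphisms are inner -/
theorem range_eq_top_of_inn (h : ∀ α : MulAut X, Inn α) : (MulAut.conj : X →* MulAut X).range = ⊤ := by
  rw [eq_top_iff]
  intro α _
  obtain ⟨k, hk⟩ := h α
  exact ⟨k, hk.symm⟩

theorem out_of_inn (h : ∀ α : MulAut X, Inn α) : ¬ 4 ∣ (MulAut.conj : X →* MulAut X).range.index := by
  rw [range_eq_top_of_inn h, index_top]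
  omega

theorem schreier_of_inn (h : ∀ α : MulAut X, Inn α) :
    ∀ P : Subgroup (MulAut X), ⁅P, P⁆ = P → P ≤ (MulAut.conj : X →* MulAut X).range := by
  intro P _
  rw [range_eq_top_of_inn h]
  exact le_top

/-- `schreier` if a term of the derived series of `Aut(X)` is inner (in the form of the sheets of D8: `dser` is
the iteration of `H ↦ ⁅H, H⁆`) -/
theorem schreier_of_iterate {n : ℕ}
    (h : (fun L : Subgroup (MulAut X) => ⁅L, L⁆)^[n] ⊤ ≤ (MulAut.conj : X →* MulAut X).range) :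
    ∀ P : Subgroup (MulAut X), ⁅P, P⁆ = P → P ≤ (MulAut.conj : X →* MulAut X).range := by
  intro P hP
  refine le_trans ?_ h
  clear h
  have key : ∀ n : ℕ, ∀ Q : Subgroup (MulAut X), P ≤ Q → P ≤ (fun L : Subgroup (MulAut X) => ⁅L, L⁆)^[n] Q := by
    intro n
    induction n with
    | zero => intro Q hQ; exact hQ
    | succ n ih =>
      intro Q hQ
      rw [Function.iterate_succ_apply]
      apply ih
      calc P = ⁅P, P⁆ := hP.symm
        _ ≤ ⁅Q, Q⁆ := commutator_mono hQ hQ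
  exact key n ⊤ le_top

end Cfsg.Agent.OddHalf.D4.Spor
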