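import Mathlib
import Cfsg.Agent.R08.X4Gamma_m3
import Cfsg.Agent.KFacts.FiTT.AllPairs
import Cfsg.Agent.OddHalf.Clean
import Cfsg.Agent.OddHalf.D8.Sheet
import Cfsg.Agent.KFacts.FiTT.Final
import Cfsg.Agent.StdFi22.MainFi22Aux
import Cfsg.Agent.R01.GlueAbs
import Cfsg.Agent.OddHalf.D4.Spor.OfBasic
import Cfsg.Agent.OddHalf.D4.Spor.Transport
import Cfsg.Agent.FastGrp
import Cfsg.Agent.Prune
set_option linter.all false

section
prune_inst 0x7ffefefbaff8bddfffff7fffffdfdffdfdf87fffeffff9cbffecefff5fff4b0ecfe7fbef8fead2fe5ff7e29c94f87b53fffffeffeb6bfc7ffffd5ff41ffbff8ffdf7b50971df9cbe1fbe2fff83f07f8e7f3fffffffffffffffffffffffffffbeffffffffffff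

-- part: OddHalf/D8/Fi22/KAll
section
prune_inst 0x10100100140000000000000200002000680001000063000111000a00020713010041070052c01a000102222000088000001000490018000020008e004005002084aa60c202001004050007c0f807180c00000000000000000000000000041000000000000
set_option linter.all false
open scoped Cfsg.Agent.FastGrp

-- part: OddHalf/D8/Fi22/Geo
section
/-!
# ODD half, D8, `K = Fi₂₂`: the facts on the class of transpositions (helper956)

`Geo T`: the facts on `Fi₂₂` and its class `T` of 3510 transpositions used in the swapped case; `KF K T` the same for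
a subgroup `K` of `G` and a subset `T` of `K`. `KF.of_geo` transports.
-/

set_option autoImplicit false

namespace Cfsg.Agent.OddHalf.D8.Fi22

open Subgroup

/-- facts on `Fi₂₂` and its class of transpositions -/
structure Geo {X : Type*} [Group X] (T : Set X) : Prop where
  sq : ∀ c ∈ T, c * c = 1
  one : (1 : X) ∉ T
  conj : ∀ k : X, ∀ c ∈ T, k * c * k⁻¹ ∈ T
  three : ∀ x ∈ T, ∀ y ∈ T, x * y = y * x ∨ x * y * x = y * x * y
  gen : closure T = ⊤
  /-- transitive on ordered commuting pairs -/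
  trans : ∀ x ∈ T, ∀ y ∈ T, ∀ x' ∈ T, ∀ y' ∈ T, x ≠ y → x' ≠ y' → x * y = y * x → x' * y' = y' * x' →
    ∃ k : X, k * x * k⁻¹ = x' ∧ k * y * k⁻¹ = y'
  /-- a common neighbour -/
  nbr : ∀ x ∈ T, ∀ y ∈ T, ∃ c ∈ T, c ≠ x ∧ c ≠ y ∧ c * x = x * c ∧ c * y = y * c
  /-- `C(a)` is generated by its transpositions and has centre `{1, a}` -/
  genJ : ∀ a ∈ T, ∀ k : X, k * a = a * k → k ∈ closure {c | c ∈ T ∧ c * a = a * c}
  cenJ : ∀ a ∈ T, ∀ g : X, g * a = a * g → (∀ j : X, j * a = a * j → g * j = j * g) → g = 1 ∨ g = a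
  /-- `C(a, b)` is perfect -/
  perfP : ∀ a ∈ T, ∀ b ∈ T, a ≠ b → a * b = b * a →
    ⁅centralizer ({a} : Set X) ⊓ centralizer ({b} : Set X),
      centralizer ({a} : Set X) ⊓ centralizer ({b} : Set X)⁆ =
      centralizer ({a} : Set X) ⊓ centralizer ({b} : Set X)
  /-- (g5): in the graph of `C(a)`, points opposite to `b` with the same neighbours in `C(b)` -/
  opp : ∀ a ∈ T, ∀ b ∈ T, a ≠ b → a * b = b * a → ∀ c ∈ T, ∀ c' ∈ T, c * a = a * c → c' * a = a * c' →
    c * b ≠ b * c → c' * b ≠ b * c' →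
    (∀ d ∈ T, d * a = a * d → d * b = b * d → (d * c = c * d ↔ d * c' = c' * d)) →
    c' = c ∨ c' = b * c * b
  /-- (g6): the points of `C(a)` opposite to `b` are connected under commuting -/
  conn : ∀ a ∈ T, ∀ b ∈ T, a ≠ b → a * b = b * a → ∀ S : Set X, S.Nonempty →
    (∀ c ∈ S, c ∈ T ∧ c * a = a * c ∧ c * b ≠ b * c) →
    (∀ c ∈ S, ∀ c' ∈ T, c' * a = a * c' → c' * b ≠ b * c' → c * c' = c' * c → c' ∈ S) →
    ∀ c ∈ T, c * a = a * c → c * b ≠ b * c → c ∈ S

variable {G : Type*} [Group G]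

/-- the same for a subgroup `K` of `G` -/
structure KF (K : Subgroup G) (T : Set G) : Prop where
  TK : ∀ c ∈ T, c ∈ K
  sq : ∀ c ∈ T, c * c = 1
  one : (1 : G) ∉ T
  conj : ∀ k ∈ K, ∀ c ∈ T, k * c * k⁻¹ ∈ T
  three : ∀ x ∈ T, ∀ y ∈ T, x * y = y * x ∨ x * y * x = y * x * y
  gen : closure T = K
  trans : ∀ x ∈ T, ∀ y ∈ T, ∀ x' ∈ T, ∀ y' ∈ T, x ≠ y → x' ≠ y' → x * y = y * x → x' * y' = y' * x' →
    ∃ k ∈ K, k * x * k⁻¹ = x' ∧ k * y * k⁻¹ = y'
  nbr : ∀ x ∈ T, ∀ y ∈ T, ∃ c ∈ T, c ≠ x ∧ c ≠ y ∧ c * x = x * c ∧ c * y = y * c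
  genJ : ∀ a ∈ T, ∀ k ∈ K, k * a = a * k → k ∈ closure {c | c ∈ T ∧ c * a = a * c}
  cenJ : ∀ a ∈ T, ∀ g ∈ K, g * a = a * g → (∀ j ∈ K, j * a = a * j → g * j = j * g) → g = 1 ∨ g = a
  perfP : ∀ a ∈ T, ∀ b ∈ T, a ≠ b → a * b = b * a →
    ⁅K ⊓ centralizer ({a} : Set G) ⊓ centralizer ({b} : Set G),
      K ⊓ centralizer ({a} : Set G) ⊓ centralizer ({b} : Set G)⁆ =
      K ⊓ centralizer ({a} : Set G) ⊓ centralizer ({b} : Set G)
  opp : ∀ a ∈ T, ∀ b ∈ T, a ≠ b → a * b = b * a → ∀ c ∈ T, ∀ c' ∈ T, c * a = a * c → c' * a = a * c' →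
    c * b ≠ b * c → c' * b ≠ b * c' →
    (∀ d ∈ T, d * a = a * d → d * b = b * d → (d * c = c * d ↔ d * c' = c' * d)) →
    c' = c ∨ c' = b * c * b
  conn : ∀ a ∈ T, ∀ b ∈ T, a ≠ b → a * b = b * a → ∀ S : Set G, S.Nonempty →
    (∀ c ∈ S, c ∈ T ∧ c * a = a * c ∧ c * b ≠ b * c) →
    (∀ c ∈ S, ∀ c' ∈ T, c' * a = a * c' → c' * b ≠ b * c' → c * c' = c' * c → c' ∈ S) →
    ∀ c ∈ T, c * a = a * c → c * b ≠ b * c → c ∈ S

/-- transport along an injective homomorphism -/
theorem KF.of_geo {X : Type*} [Group X] {T : Set X} (h : Geo T) (f : X →* G)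
    (hf : Function.Injective f) : KF f.range (f '' T) := by
  have hc : ∀ x y : X, f x * f y = f y * f x ↔ x * y = y * x := by
    intro x y
    rw [← map_mul, ← map_mul, hf.eq_iff]
  have hmem : ∀ x : X, f x ∈ f '' T ↔ x ∈ T := by
    intro x
    constructor
    · rintro ⟨y, hy, e⟩
      rwa [← hf e]
    · intro hx
      exact ⟨x, hx, rfl⟩
  refine
    { TK := ?_, sq := ?_, one := ?_, conj := ?_, three := ?_, gen := ?_, trans := ?_, nbr := ?_,
      genJ := ?_, cenJ := ?_, perfP := ?_, opp := ?_, conn := ?_ }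
  · rintro _ ⟨x, -, rfl⟩
    exact ⟨x, rfl⟩
  · rintro _ ⟨x, hx, rfl⟩
    rw [← map_mul, h.sq x hx, map_one]
  · rintro ⟨x, hx, e⟩
    have : x = 1 := hf (by rw [e, map_one])
    exact h.one (this ▸ hx)
  · rintro _ ⟨k, rfl⟩ _ ⟨x, hx, rfl⟩
    rw [← map_inv, ← map_mul, ← map_mul, hmem]
    exact h.conj k x hx
  · rintro _ ⟨x, hx, rfl⟩ _ ⟨y, hy, rfl⟩
    rw [hc]
    rcases h.three x hx y hy with h1 | h1
    · exact Or.inl h1
    · right
      rw [← map_mul, ← map_mul, ← map_mul, ← map_mul, h1]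
  · rw [← MonoidHom.map_closure, h.gen, ← MonoidHom.range_eq_map]
  · rintro _ ⟨x, hx, rfl⟩ _ ⟨y, hy, rfl⟩ _ ⟨x', hx', rfl⟩ _ ⟨y', hy', rfl⟩ h1 h2 h3 h4
    rw [hc] at h3 h4
    obtain ⟨k, hk1, hk2⟩ := h.trans x hx y hy x' hx' y' hy' (fun e => h1 (by rw [e]))
      (fun e => h2 (by rw [e])) h3 h4
    refine ⟨f k, ⟨k, rfl⟩, ?_, ?_⟩
    · rw [← map_inv, ← map_mul, ← map_mul, hk1]
    · rw [← map_inv, ← map_mul, ← map_mul, hk2]
  · rintro _ ⟨x, hx, rfl⟩ _ ⟨y, hy, rfl⟩
    obtain ⟨c, h1, h2, h3, h4, h5⟩ := h.nbr x hx y hy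
    exact ⟨f c, ⟨c, h1, rfl⟩, fun e => h2 (hf e), fun e => h3 (hf e), (hc _ _).2 h4, (hc _ _).2 h5⟩
  · rintro _ ⟨a, ha, rfl⟩ _ ⟨k, rfl⟩ hka
    rw [hc] at hka
    have h1 : f k ∈ (closure {c | c ∈ T ∧ c * a = a * c}).map f := ⟨k, h.genJ a ha k hka, rfl⟩
    rw [MonoidHom.map_closure] at h1
    refine closure_mono ?_ h1
    rintro _ ⟨c, ⟨hc1, hc2⟩, rfl⟩
    exact ⟨⟨c, hc1, rfl⟩, (hc _ _).2 hc2⟩
  · rintro _ ⟨a, ha, rfl⟩ _ ⟨g, rfl⟩ hga hj
    rw [hc] at hga
    rcases h.cenJ a ha g hga (fun j hja => (hc _ _).1 (hj (f j) ⟨j, rfl⟩ ((hc _ _).2 hja))) with h1 | h1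
    · left; rw [h1, map_one]
    · right; rw [h1]
  · rintro _ ⟨a, ha, rfl⟩ _ ⟨b, hb, rfl⟩ hne hab
    rw [hc] at hab
    have e : f.range ⊓ centralizer ({f a} : Set G) ⊓ centralizer ({f b} : Set G) =
        (centralizer ({a} : Set X) ⊓ centralizer ({b} : Set X)).map f := by
      ext y
      constructor
      · rintro ⟨⟨⟨x, rfl⟩, h1⟩, h2⟩
        refine ⟨x, ⟨?_, ?_⟩, rfl⟩
        · exact mem_centralizer_singleton_iff.2 ((hc _ _).1 (mem_centralizer_singleton_iff.1 h1))
        · exact mem_centralizer_singleton_iff.2 ((hc _ _).1 (mem_centralizer_singleton_iff.1 h2))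
      · rintro ⟨x, ⟨h1, h2⟩, rfl⟩
        refine ⟨⟨⟨x, rfl⟩, ?_⟩, ?_⟩
        · exact mem_centralizer_singleton_iff.2 ((hc _ _).2 (mem_centralizer_singleton_iff.1 h1))
        · exact mem_centralizer_singleton_iff.2 ((hc _ _).2 (mem_centralizer_singleton_iff.1 h2))
    rw [e, ← map_commutator, h.perfP a ha b hb (fun e => hne (by rw [e])) hab]
  · rintro _ ⟨a, ha, rfl⟩ _ ⟨b, hb, rfl⟩ hne hab _ ⟨c, hc1, rfl⟩ _ ⟨c', hc1', rfl⟩ h1 h2 h3 h4 h5
    rw [hc] at hab h1 h2
    rw [ne_eq, hc] at h3 h4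
    rcases h.opp a ha b hb (fun e => hne (by rw [e])) hab c hc1 c' hc1' h1 h2 h3 h4 (by
      intro d hd hda hdb
      have := h5 (f d) ⟨d, hd, rfl⟩ ((hc _ _).2 hda) ((hc _ _).2 hdb)
      rwa [hc, hc] at this) with h6 | h6
    · left; rw [h6]
    · right; rw [h6, map_mul, map_mul]
  · rintro _ ⟨a, ha, rfl⟩ _ ⟨b, hb, rfl⟩ hne hab S hS h1 h2 _ ⟨c, hc1, rfl⟩ h3 h4
    rw [hc] at hab h3
    rw [ne_eq, hc] at h4
    refine h.conn a ha b hb (fun e => hne (by rw [e])) hab (f ⁻¹' S) ?_ ?_ ?_ c hc1 h3 h4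
    · obtain ⟨y, hy⟩ := hS
      obtain ⟨⟨x, hx, rfl⟩, -⟩ := h1 y hy
      exact ⟨x, hy⟩
    · intro x hx
      obtain ⟨h5, h6, h7⟩ := h1 (f x) hx
      rw [hmem] at h5
      rw [hc] at h6
      rw [ne_eq, hc] at h7
      exact ⟨h5, h6, h7⟩
    · intro x hx x' hx' h5 h6 h7
      exact h2 (f x) hx (f x') ⟨x', hx', rfl⟩ ((hc _ _).2 h5) (by rw [ne_eq, hc]; exact h6)
        ((hc _ _).2 h7)

end Cfsg.Agent.OddHalf.D8.Fi22
end

-- part: OddHalf/D8/Fi22/Rigid
section
/-!
# ODD half, D8, `K = Fi₂₂`: the rigidity lemma (helper956)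

`P` a class of 3-transpositions of a group `L`, `b ∈ P`. An automorphism of `L` that fixes every member of `P`
commuting with `b` is `1` or conjugation by `b`.
-/

set_option autoImplicit false

namespace Cfsg.Agent.OddHalf.D8.Fi22

open Subgroup
open scoped commutatorElement

/-- the geometric facts -/
structure Rig {L : Type*} [Group L] (P : Set L) (b : L) : Prop where
  sq : ∀ x ∈ P, x * x = 1
  bP : b ∈ P
  conj : ∀ k : L, ∀ x ∈ P, k * x * k⁻¹ ∈ P
  one : ∀ x ∈ P, ∃ k : L, k * b * k⁻¹ = x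
  three : ∀ x ∈ P, ∀ y ∈ P, x * y = y * x ∨ x * y * x = y * x * y
  gen : closure P = ⊤
  opp : ∀ c ∈ P, ∀ c' ∈ P, c * b ≠ b * c → c' * b ≠ b * c' →
    (∀ d ∈ P, d * b = b * d → (d * c = c * d ↔ d * c' = c' * d)) → c' = c ∨ c' = b * c * b
  conn : ∀ S : Set L, S.Nonempty → (∀ c ∈ S, c ∈ P ∧ c * b ≠ b * c) →
    (∀ c ∈ S, ∀ c' ∈ P, c' * b ≠ b * c' → c * c' = c' * c → c' ∈ S) → ∀ c ∈ P, c * b ≠ b * c → c ∈ S

namespace Rig

variable {L : Type*} [Group L] {P : Set L} {b : L}

theorem hom_mem (h : Rig P b) {τ : L →* L} (hb : τ b = b) {x : L} (hx : x ∈ P) : τ x ∈ P := by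
  obtain ⟨k, rfl⟩ := h.one x hx
  rw [map_mul, map_mul, map_inv, hb]
  exact h.conj _ b h.bP

/-- an element commuting with `c` and `b c b` commutes with `b` -/
theorem comm_of_two (h : Rig P b) {c e : L} (hc : c ∈ P) (hcb : c * b ≠ b * c)
    (h1 : e * c = c * e) (h2 : e * (b * c * b) = b * c * b * e) : e * b = b * e := by
  have h3 : c * b * c = b * c * b := (h.three c hc b h.bP).resolve_left hcb
  have h4 : b = c * (b * c * b) * c := by
    rw [← h3]
    calc b = (c * c) * b * (c * c) := by rw [h.sq c hc]; group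
      _ = c * (c * b * c) * c := by group
  have h5 : Commute e (c * (b * c * b) * c) :=
    ((show Commute e c from h1).mul_right (show Commute e (b * c * b) from h2)).mul_right h1
  rw [← h4] at h5
  exact h5

theorem conj_bcb (h : Rig P b) (c : L) : b * (b * c * b) * b = c := by
  calc b * (b * c * b) * b = (b * b) * c * (b * b) := by group
    _ = c := by rw [h.sq b h.bP]; group

/-- the case where some opposite point is fixed -/
theorem fix_all (h : Rig P b) {τ : L →* L} (hinj : Function.Injective τ)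
    (hfix : ∀ c ∈ P, c * b = b * c → τ c = c) {c0 : L} (hc0 : c0 ∈ P) (hcb : c0 * b ≠ b * c0)
    (h0 : τ c0 = c0) : ∀ x : L, τ x = x := by
  have hb : τ b = b := hfix b h.bP rfl
  have hcomm : ∀ x y : L, τ x * τ y = τ y * τ x ↔ x * y = y * x := by
    intro x y
    rw [← map_mul, ← map_mul]
    exact hinj.eq_iff
  have hop : ∀ c ∈ P, c * b ≠ b * c → τ c = c ∨ τ c = b * c * b := by
    intro c hc hcb
    apply h.opp c hc (τ c) (h.hom_mem hb hc) hcb
    · intro h1
      apply hcb
      rw [← hcomm, hb]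
      exact h1
    · intro d hd hdb
      have hd1 := hfix d hd hdb
      rw [← hcomm d c, hd1]
  have hS := h.conn {c | c ∈ P ∧ c * b ≠ b * c ∧ τ c = c} ⟨c0, hc0, hcb, h0⟩
    (fun c hc => ⟨hc.1, hc.2.1⟩) (by
      rintro c ⟨hc, hcb, hτ⟩ c' hc' hcb' hcc
      refine ⟨hc', hcb', ?_⟩
      rcases hop c' hc' hcb' with h1 | h1
      · exact h1
      · exfalso
        apply hcb
        apply h.comm_of_two hc' hcb' hcc
        rw [← h1, ← hτ, hcomm]
        exact hcc)
  have hP : ∀ c ∈ P, τ c = c := by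
    intro c hc
    by_cases hcb : c * b = b * c
    · exact hfix c hc hcb
    · exact (hS c hc hcb).2.2
  intro x
  have hx : x ∈ closure P := by rw [h.gen]; exact mem_top x
  induction hx using closure_induction with
  | mem x hx => exact hP x hx
  | one => exact map_one τ
  | mul x y _ _ h1 h2 => rw [map_mul, h1, h2]
  | inv x _ h1 => rw [map_inv, h1]

/-- **The rigidity lemma** -/
theorem rigid (h : Rig P b) {τ : L →* L} (hinj : Function.Injective τ)
    (hfix : ∀ c ∈ P, c * b = b * c → τ c = c) :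
    (∀ x : L, τ x = x) ∨ ∀ x : L, τ x = b * x * b⁻¹ := by
  have hb : τ b = b := hfix b h.bP rfl
  have hb' : b⁻¹ = b := inv_eq_of_mul_eq_one_right (h.sq b h.bP)
  by_cases hex : ∃ c ∈ P, c * b ≠ b * c
  · obtain ⟨c0, hc0, hcb⟩ := hex
    have hcomm : ∀ x y : L, τ x * τ y = τ y * τ x ↔ x * y = y * x := by
      intro x y
      rw [← map_mul, ← map_mul]
      exact hinj.eq_iff
    have hop : τ c0 = c0 ∨ τ c0 = b * c0 * b := by
      apply h.opp c0 hc0 (τ c0) (h.hom_mem hb hc0) hcb
      · intro h1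
        apply hcb
        rw [← hcomm, hb]
        exact h1
      · intro d hd hdb
        have hd1 := hfix d hd hdb
        rw [← hcomm d c0, hd1]
    rcases hop with h1 | h1
    · left
      exact h.fix_all hinj hfix hc0 hcb h1
    · right
      have hinj' : Function.Injective ((MulAut.conj b).toMonoidHom.comp τ) :=
        (MulAut.conj b).injective.comp hinj
      have h2 := h.fix_all (τ := (MulAut.conj b).toMonoidHom.comp τ) hinj' (by
        intro c hc hcb
        show b * τ c * b⁻¹ = c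
        rw [hfix c hc hcb, ← hcb]; group) hc0 hcb (by
        show b * τ c0 * b⁻¹ = c0
        rw [h1, hb']
        exact h.conj_bcb c0)
      intro x
      have h3 : b * τ x * b⁻¹ = x := h2 x
      calc τ x = (b * b) * τ x * (b * b) := by rw [h.sq b h.bP]; group
        _ = b * (b * τ x * b⁻¹) * b⁻¹ := by rw [hb']; group
        _ = b * x * b⁻¹ := by rw [h3]
  · left
    push Not at hex
    intro x
    have hx : x ∈ closure P := by rw [h.gen]; exact mem_top x
    induction hx using closure_induction with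
    | mem x hx => exact hfix x hx (hex x hx)
    | one => exact map_one τ
    | mul x y _ _ h1 h2 => rw [map_mul, h1, h2]
    | inv x _ h1 => rw [map_inv, h1]

/-- an endomorphism of a perfect group which is trivial modulo the centre is trivial -/
theorem eq_of_central {D : Type*} [Group D] (hperf : commutator D = ⊤) {f g : D →* D}
    (h : ∀ x : D, f x * (g x)⁻¹ ∈ center D) : ∀ x : D, f x = g x := by
  have hle : commutator D ≤ f.eqLocus g := by
    rw [commutator_def, commutator_le]
    intro x _ y _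
    show f ⁅x, y⁆ = g ⁅x, y⁆
    have hx := mem_center_iff.1 (h x)
    have hy := mem_center_iff.1 (h y)
    obtain ⟨a, ha⟩ : ∃ a, a = f x * (g x)⁻¹ := ⟨_, rfl⟩
    obtain ⟨c, hc⟩ : ∃ c, c = f y * (g y)⁻¹ := ⟨_, rfl⟩
    rw [← ha] at hx
    rw [← hc] at hy
    have hfx : f x = a * g x := by rw [ha]; group
    have hfy : f y = c * g y := by rw [hc]; group
    rw [map_commutatorElement, map_commutatorElement, commutatorElement_def, commutatorElement_def,
      hfx, hfy]
    have e1 : (a * g x)⁻¹ = (g x)⁻¹ * a⁻¹ := by group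
    have e2 : (c * g y)⁻¹ = (g y)⁻¹ * c⁻¹ := by group
    have ca : ∀ w : D, Commute a w := fun w => (hx w).symm
    have cc : ∀ w : D, Commute c w := fun w => (hy w).symm
    calc a * g x * (c * g y) * (a * g x)⁻¹ * (c * g y)⁻¹
        = a * (g x * c) * (g y * (g x)⁻¹) * a⁻¹ * ((g y)⁻¹ * c⁻¹) := by rw [e1, e2]; group
      _ = a * (c * g x) * (g y * (g x)⁻¹) * a⁻¹ * (c⁻¹ * (g y)⁻¹) := by
          rw [(cc (g x)).eq, ((cc (g y)⁻¹).inv_left).eq]
      _ = a * (c * g x * (g y * (g x)⁻¹) * a⁻¹) * (c⁻¹ * (g y)⁻¹) := by group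
      _ = a * (a⁻¹ * (c * g x * (g y * (g x)⁻¹))) * (c⁻¹ * (g y)⁻¹) := by
          rw [((ca (c * g x * (g y * (g x)⁻¹))).inv_left).eq]
      _ = c * (g x * g y * (g x)⁻¹ * c⁻¹) * (g y)⁻¹ := by group
      _ = c * (c⁻¹ * (g x * g y * (g x)⁻¹)) * (g y)⁻¹ := by
          rw [((cc (g x * g y * (g x)⁻¹)).inv_left).eq]
      _ = g x * g y * (g x)⁻¹ * (g y)⁻¹ := by group
  intro x
  have hx : x ∈ commutator D := by rw [hperf]; exact mem_top x
  exact hle hx

/-- the rigidity lemma for a perfect central extension -/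
theorem rigid_cover (h : Rig P b) {D : Type*} [Group D] (hperf : commutator D = ⊤) {ψ : D →* L}
    (hψ : Function.Surjective ψ) (hker : ψ.ker = center D) {m : D} (hm : ψ m = b) (τ : D ≃* D)
    (hfix : ∀ c ∈ P, c * b = b * c → ∃ x : D, ψ x = c ∧ τ x = x) :
    (∀ x : D, τ x = x) ∨ ∀ x : D, τ x = m * x * m⁻¹ := by
  have hcen : ∀ x : D, x ∈ center D ↔ τ x ∈ center D := by
    intro x
    constructor
    · intro hx
      rw [mem_center_iff] at hx ⊢
      intro g
      have := congrArg τ (hx (τ.symm g))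
      rwa [map_mul, map_mul, τ.apply_symm_apply] at this
    · intro hx
      rw [mem_center_iff] at hx ⊢
      intro g
      apply τ.injective
      rw [map_mul, map_mul]
      exact hx (τ g)
  have hle : ψ.ker ≤ (ψ.comp τ.toMonoidHom).ker := by
    intro x hx
    rw [hker] at hx
    have h1 : τ x ∈ ψ.ker := by rw [hker]; exact (hcen x).1 hx
    exact h1
  let σ : L →* L := MonoidHom.liftOfSurjective ψ hψ ⟨ψ.comp τ.toMonoidHom, hle⟩
  have hσ : ∀ x : D, σ (ψ x) = ψ (τ x) := fun x =>
    MonoidHom.liftOfRightInverse_comp_apply ψ _ _ ⟨ψ.comp τ.toMonoidHom, hle⟩ x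
  have hinj : Function.Injective σ := by
    rw [injective_iff_map_eq_one]
    intro y hy
    obtain ⟨x, rfl⟩ := hψ y
    rw [hσ] at hy
    have h1 : τ x ∈ ψ.ker := hy
    rw [hker, ← hcen, ← hker] at h1
    exact h1
  have hf : ∀ c ∈ P, c * b = b * c → σ c = c := by
    intro c hc hcb
    obtain ⟨x, rfl, hx⟩ := hfix c hc hcb
    rw [hσ, hx]
  rcases h.rigid hinj hf with h1 | h1
  · left
    apply eq_of_central hperf (f := τ.toMonoidHom) (g := MonoidHom.id D)
    intro x
    rw [← hker, MonoidHom.mem_ker, map_mul, map_inv]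
    show ψ (τ x) * (ψ x)⁻¹ = 1
    rw [← hσ, h1, mul_inv_cancel]
  · right
    apply eq_of_central hperf (f := τ.toMonoidHom) (g := (MulAut.conj m).toMonoidHom)
    intro x
    rw [← hker, MonoidHom.mem_ker, map_mul, map_inv]
    show ψ (τ x) * (ψ (m * x * m⁻¹))⁻¹ = 1
    rw [← hσ, h1, map_mul, map_mul, map_inv, hm, mul_inv_cancel]

end Rig

end Cfsg.Agent.OddHalf.D8.Fi22
end

-- part: OddHalf/D8/Fi22/KAll
section
-- merged: Cfsg.Agent.OddHalf.D8.Fi22.GeoOf
section

/-!
# ODD half, D8, `K = Fi22`: `Geo T` (helper368)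

`geo e : Geo (e.symm '' Fi22Facts.T)`, and (cJ): an automorphism of `K` centralising `C_K(a)` is `1` or
conjugation by `a`.
-/

set_option autoImplicit false

namespace Cfsg.Agent.OddHalf.D8.Fi22

open Cfsg Cfsg.Agent.R01 Subgroup

universe v

variable {K : Type v} [Group K]

theorem pair_eq (a b : K) : centralizer ({a} : Set K) ⊓ centralizer ({b} : Set K) =
    centralizer ({a, b} : Set K) := by
  ext x
  rw [mem_inf, mem_centralizer_singleton_iff, mem_centralizer_singleton_iff, mem_centralizer_iff]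
  constructor
  · rintro ⟨h1, h2⟩ y hy
    rcases hy with rfl | rfl
    · exact h1.symm
    · exact h2.symm
  · intro h
    exact ⟨(h a (Or.inl rfl)).symm, (h b (Or.inr rfl)).symm⟩

/-- **The facts consumed in the swapped case.** -/
theorem geo (e : K ≃* Spor.Fi22) : Geo (e.symm '' Fi22Facts.T) := by
  have h := kTrans e
  have hF : ∀ a ∈ e.symm '' Fi22Facts.T, ∀ b ∈ e.symm '' Fi22Facts.T, a ≠ b → a * b = b * a →
      ∃ R : Subgroup K, KFacts.FiTT.Facts K a b R := fun a ha b hb =>
    KFacts.FiTT.facts_of_iso e ha hb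
  refine
    { sq := h.sq, one := fun h1 => h.ne1 1 h1 rfl, conj := h.conj, three := h.three, gen := h.gen,
      trans := h.trans2, nbr := h.nb, genJ := ?_, cenJ := ?_, perfP := ?_, opp := ?_, conn := ?_ }
  · intro a ha k hk
    rw [h.cent a ha]
    exact mem_centralizer_singleton_iff.2 hk
  · intro a ha g hga hj
    obtain ⟨b, hb, n1, -, h1, -⟩ := h.nb a ha a ha
    obtain ⟨R, hR⟩ := hF a ha b hb n1.symm h1.symm
    exact hR.cc g hj
  · intro a ha b hb n c
    obtain ⟨R, hR⟩ := hF a ha b hb n c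
    have h1 := hR.perfect
    rw [pair_eq]
    have h2 := congrArg (Subgroup.map (centralizer ({a, b} : Set K)).subtype) h1
    rw [commutator_def, map_commutator, ← MonoidHom.range_eq_map, range_subtype] at h2
    exact h2
  · intro a ha b hb n c c1 hc1 c2 hc2 h1 h2 h3 h4 h5
    exact h.same a ha b hb c1 hc1 c2 hc2 c.symm h1 h2 h3 h4 fun d hd k1 k2 k3 => (h5 d hd k1 k2).1 k3
  · intro a ha b hb n c S hne hS hcl x hx h1 h2
    obtain ⟨y, hy⟩ := hne
    obtain ⟨k1, k2, k3⟩ := hS y hy
    exact h.conn a ha b hb c.symm S (fun u hu v hv m1 m2 m3 => hcl u hu v hv m1 m2 m3) y k1 x hx k2 h1 k3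
      h2 hy

/-- the whole class is rigid at each of its members -/
theorem KTrans.rig {T : Set K} (h : KTrans K T) {b : K} (hb : b ∈ T) : Rig T b where
  sq := h.sq
  bP := hb
  conj := h.conj
  one _ hx := h.trans b hb _ hx
  three := h.three
  gen := h.gen
  opp c hc c' hc' n n' hd := h.sameK b hb c hc c' hc' n n' fun d h1 h2 h3 => (hd d h1 h2).1 h3
  conn := by
    intro S hne hS hcl x hx h1
    obtain ⟨y, hy⟩ := hne
    exact h.connK b hb S (fun u hu v hv m1 m2 => hcl u hu v hv m1 m2) y (hS y hy).1 x hx (hS y hy).2 h1 hy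

/-- **(cJ)** an automorphism of `K` fixing the transpositions which commute with `a` is `1` or conjugation by `a` -/
theorem KTrans.cJ {T : Set K} (h : KTrans K T) {a : K} (ha : a ∈ T) (α : MulAut K)
    (hα : ∀ c ∈ T, c * a = a * c → α c = c) : α = 1 ∨ α = MulAut.conj a := by
  rcases (h.rig ha).rigid (τ := α.toMonoidHom) α.injective hα with h1 | h1
  · left
    ext x
    exact h1 x
  · right
    ext x
    exact h1 x

end Cfsg.Agent.OddHalf.D8.Fi22

end

-- merged: Cfsg.Agent.OddHalf.D8.Fi22.OutIdx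
section

/-!
# Groups with `|Out| ≤ 2` (helper921)

If the product of two outer automorphisms of `X` is inner, then `|Aut X : Inn X| ≤ 2` and `Aut(X)' ≤ Inn X`.
-/

set_option autoImplicit false

namespace Cfsg.Agent.OddHalf.D8.Fi22.OutIdx

open Subgroup

/-- the product of two outer automorphisms is inner -/
def MulOuter (X : Type*) [Group X] : Prop :=
  ∀ a b : MulAut X, (∀ x : X, a ≠ MulAut.conj x) → (∀ x : X, b ≠ MulAut.conj x) →
    ∃ x : X, a * b = MulAut.conj x

theorem MulOuter.congr {X Q : Type*} [Group X] [Group Q] (e : X ≃* Q) (h : MulOuter Q) : MulOuter X := by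
  have hg : ∀ x : X, MulAut.congr e (MulAut.conj x) = MulAut.conj (e x) := by
    intro x
    ext y
    simp [MulAut.congr]
  have hout : ∀ a : MulAut X, (∀ x : X, a ≠ MulAut.conj x) → ∀ q : Q, MulAut.congr e a ≠ MulAut.conj q := by
    intro a ha q hq
    apply ha (e.symm q)
    apply (MulAut.congr e).injective
    rw [hg, e.apply_symm_apply, hq]
  intro a b ha hb
  obtain ⟨q, hq⟩ := h _ _ (hout a ha) (hout b hb)
  refine ⟨e.symm q, (MulAut.congr e).injective ?_⟩
  rw [map_mul, hq, hg, e.apply_symm_apply]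

variable {X : Type*} [Group X]

theorem MulOuter.index_le (h : MulOuter X) : (MulAut.conj : X →* MulAut X).range.index = 1 ∨
    (MulAut.conj : X →* MulAut X).range.index = 2 := by
  classical
  set I : Subgroup (MulAut X) := (MulAut.conj : X →* MulAut X).range with hI
  have hmem : ∀ a : MulAut X, a ∉ I → ∀ x : X, a ≠ MulAut.conj x := fun a ha x hx => ha ⟨x, hx.symm⟩
  by_cases htop : I = ⊤
  · left
    rw [htop, index_top]
  · right
    obtain ⟨a, -, ha⟩ := SetLike.exists_of_lt (lt_top_iff_ne_top.2 htop)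
    rw [index_eq_two_iff]
    refine ⟨a, fun b => ?_⟩
    by_cases hb : b ∈ I
    · right
      refine ⟨hb, fun hba => ha ?_⟩
      have := I.mul_mem (I.inv_mem hb) hba
      rwa [inv_mul_cancel_left] at this
    · left
      obtain ⟨x, hx⟩ := h b a (hmem b hb) (hmem a ha)
      exact ⟨⟨x, hx.symm⟩, hb⟩

theorem MulOuter.out (h : MulOuter X) : ¬ 4 ∣ (MulAut.conj : X →* MulAut X).range.index := by
  rcases h.index_le with h1 | h1 <;> rw [h1] <;> decide

theorem MulOuter.schreier (h : MulOuter X) :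
    ∃ n, TR.dser n (⊤ : Subgroup (MulAut X)) ≤ (MulAut.conj : X →* MulAut X).range := by
  set I : Subgroup (MulAut X) := (MulAut.conj : X →* MulAut X).range with hI
  refine ⟨1, ?_⟩
  change ⁅(⊤ : Subgroup (MulAut X)), (⊤ : Subgroup (MulAut X))⁆ ≤ I
  rcases h.index_le with h1 | h1
  · rw [show I = ⊤ from index_eq_one.1 h1]
    exact le_top
  · rw [commutator_le]
    intro a _ b _
    have hm : ∀ x y : MulAut X, x * y ∈ I ↔ (x ∈ I ↔ y ∈ I) := fun x y => mul_mem_iff_of_index_two h1
    change a * b * a⁻¹ * b⁻¹ ∈ I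
    rw [hm, hm, hm, inv_mem_iff, inv_mem_iff]
    tauto

end Cfsg.Agent.OddHalf.D8.Fi22.OutIdx

end

-- merged: Cfsg.Agent.OddHalf.D8.Fi22.Sheet22
section

/-!
# ODD half, D8, `K = Fi22`: the sheet (helper921)

`Basic (d d') (C_K(d, d'))` from the facts `FiTT.Facts` on `K` and the facts on automorphisms.
-/

set_option autoImplicit false

namespace Cfsg.Agent.OddHalf.D8.Fi22.Sheet22

open Subgroup Cfsg.Agent.KFacts.FiTT Cfsg.Agent.OddHalf.D8.Sheet

variable {K : Type*} [Group K] {d d' : K} {R : Subgroup K}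

theorem mem_P {x : K} : x ∈ centralizer ({d, d'} : Set K) ↔ x * d = d * x ∧ x * d' = d' * x := by
  rw [mem_centralizer_iff]
  constructor
  · intro h
    exact ⟨(h d (by simp)).symm, (h d' (by simp)).symm⟩
  · rintro ⟨h1, h2⟩ y hy
    rcases hy with rfl | hy
    · exact h1.symm
    · rw [Set.mem_singleton_iff.1 hy]
      exact h2.symm

/-- the facts on automorphisms of `K` -/
structure AutFacts (K : Type*) [Group K] (z : K) : Prop where
  out : ¬ 4 ∣ (MulAut.conj : K →* MulAut K).range.index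
  schreier : ∃ n, TR.dser n (⊤ : Subgroup (MulAut K)) ≤ (MulAut.conj : K →* MulAut K).range
  sylAut : ∀ S : Sylow 2 K, (∀ x ∈ S, x * z = z * x) → ∀ α : MulAut K, IsPGroup 2 (zpowers α) →
    (∀ x ∈ S, α x = x) → ∃ k : K, α = MulAut.conj k

theorem z_comm {x : K} (hx : x ∈ centralizer ({d, d'} : Set K)) :
    x * (d * d') = d * d' * x := by
  obtain ⟨h1, h2⟩ := mem_P.1 hx
  calc x * (d * d') = (x * d) * d' := by group
    _ = d * (x * d') := by rw [h1]; group
    _ = d * d' * x := by rw [h2]; group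

theorem zz (F : Facts K d d' R) : d * d' * (d * d') = 1 := by
  calc d * d' * (d * d') = d * (d' * d) * d' := by group
    _ = d * (d * d') * d' := by rw [F.comm]
    _ = (d * d) * (d' * d') := by group
    _ = 1 := by rw [F.dd, F.dd', one_mul]

theorem z_ne (F : Facts K d d' R) : d * d' ≠ 1 := by
  intro h
  apply F.ne
  have h1 := F.dd'
  calc d = d * (d' * d') := by rw [h1, mul_one]
    _ = d * d' * d' := by group
    _ = d' := by rw [h, one_mul]

theorem finite (F : Facts K d d' R) : Finite K :=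
  Nat.finite_of_card_ne_zero (by rw [F.card]; norm_num)

/-- **the sheet of `Fi22`** -/
theorem basic (F : Facts K d d' R) (A : AutFacts K (d * d')) :
    Basic (d * d') (centralizer ({d, d'} : Set K)) where
  zz := zz F
  z1 := z_ne F
  syl := by
    have := finite F
    obtain ⟨S', hS'⟩ : ∃ S : Sylow 2 K, (S : Subgroup K) ≤ centralizer ({d * d'} : Set K) := by
      obtain ⟨U⟩ : Nonempty (Sylow 2 (centralizer ({d * d'} : Set K))) := inferInstance
      have hU : IsPGroup 2 ↥((U : Subgroup (centralizer ({d * d'} : Set K))).map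
          (centralizer ({d * d'} : Set K)).subtype) := U.isPGroup'.map _
      obtain ⟨S, hS⟩ := hU.exists_le_sylow
      have : Fact (Nat.Prime 2) := ⟨Nat.prime_two⟩
      have hcard : Nat.card (U : Subgroup (centralizer ({d * d'} : Set K))) = Nat.card (S : Subgroup K) := by
        rw [U.card_eq_multiplicity, S.card_eq_multiplicity]
        congr 1
        have h1 : (centralizer ({d * d'} : Set K)).index * Nat.card (centralizer ({d * d'} : Set K)) =
            Nat.card K := index_mul_card _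
        have h2 : (centralizer ({d * d'} : Set K)).index.factorization 2 = 0 := by
          apply Nat.factorization_eq_zero_of_not_dvd
          exact F.odd.not_two_dvd_nat
        rw [← h1, Nat.factorization_mul index_ne_zero_of_finite (Nat.card_pos).ne', Finsupp.add_apply, h2,
          zero_add]
      have heq : (U : Subgroup (centralizer ({d * d'} : Set K))).map
          (centralizer ({d * d'} : Set K)).subtype = (S : Subgroup K) := by
        apply eq_of_le_of_card_ge hS
        rw [← hcard, card_map_of_injective (subtype_injective _)]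
      refine ⟨S, ?_⟩
      rw [← heq]
      rintro _ ⟨y, -, rfl⟩
      exact y.2
    have hz : ∀ x ∈ S', x * (d * d') = d * d' * x := fun x hx => mem_centralizer_singleton_iff.1 (hS' hx)
    refine ⟨S', ?_, hz, ?_⟩
    · -- `z` is in `S'` by maximality
      have hz2 : IsPGroup 2 ↥(zpowers (d * d')) := by
        rintro ⟨x, hx⟩
        obtain ⟨i, rfl⟩ := mem_zpowers_iff.1 hx
        refine ⟨1, Subtype.ext ?_⟩
        show ((d * d') ^ i) ^ (2 ^ 1) = 1
        rw [pow_one, pow_two, ← (Commute.refl (d * d')).mul_zpow, zz F, one_zpow]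
      have hsup : IsPGroup 2 ↥((S' : Subgroup K) ⊔ zpowers (d * d')) := by
        apply IsPGroup.to_sup_of_normal_right' S'.isPGroup' hz2
        intro x hx
        rw [mem_normalizer_iff]
        intro y
        have e : y ∈ zpowers (d * d') → x * y * x⁻¹ = y := by
          intro hy
          obtain ⟨i, rfl⟩ := mem_zpowers_iff.1 hy
          have := (show Commute x (d * d') from hz x hx).zpow_right i
          rw [this.eq]; group
        constructor
        · intro hy
          rw [e hy]; exact hy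
        · intro hy
          have hxi : x⁻¹ * (x * y * x⁻¹) * x = x * y * x⁻¹ := by
            obtain ⟨i, hi⟩ := mem_zpowers_iff.1 hy
            rw [← hi]
            have := (show Commute x (d * d') from hz x hx).zpow_right i
            rw [mul_assoc, ← this.eq]; group
          have e2 : x⁻¹ * (x * y * x⁻¹) * x = y := by group
          rw [← e2, hxi]; exact hy
      have := S'.is_maximal' hsup le_sup_left
      have h3 : d * d' ∈ (S' : Subgroup K) ⊔ zpowers (d * d') :=
        (le_sup_right : zpowers (d * d') ≤ _) (mem_zpowers _)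
      rw [this] at h3
      exact h3
    · intro y hy h
      exact F.center_S S' hS' y hy fun x hx => (h x hx).symm
  zP := mem_P.2 ⟨by
    calc d * d' * d = d * (d' * d) := by group
      _ = d * (d * d') := by rw [F.comm], by
    calc d * d' * d' = (d * d') * d' := rfl
      _ = (d' * d) * d' := by rw [F.comm]
      _ = d' * (d * d') := by group⟩
  cen := fun x hx => z_comm hx
  perf := by
    have h := F.perfect
    rw [commutator_def] at h
    have h1 := congrArg (Subgroup.map (centralizer ({d, d'} : Set K)).subtype) h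
    rwa [map_commutator, ← MonoidHom.range_eq_map, range_subtype] at h1
  der := by
    refine ⟨1, ?_⟩
    change ⁅centralizer ({d * d'} : Set K), centralizer ({d * d'} : Set K)⁆ ≤ _
    rw [commutator_le]
    intro a ha b hb
    have h1 := F.cz a (mem_centralizer_singleton_iff.1 ha)
    have h2 := F.cz b (mem_centralizer_singleton_iff.1 hb)
    change a * b * a⁻¹ * b⁻¹ ∈ _
    rw [mem_P]
    have fix : ∀ x y : K, x * y = y * x → x * y * x⁻¹ = y ∧ x⁻¹ * y * x = y := by
      intro x y h
      constructor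
      · rw [h]; group
      · rw [mul_assoc, ← h]; group
    have inv : ∀ x y w : K, x * y * x⁻¹ = w → x⁻¹ * w * x = y := by
      intro x y w h
      rw [← h]; group
    have key : ∀ x y : K, x * y * x⁻¹ = y → x * y = y * x := by
      intro x y h
      calc x * y = (x * y * x⁻¹) * x := by group
        _ = y * x := by rw [h]
    have e : ∀ y : K, (a * b * a⁻¹ * b⁻¹) * y * (a * b * a⁻¹ * b⁻¹)⁻¹ =
        a * (b * (a⁻¹ * (b⁻¹ * y * b) * a) * b⁻¹) * a⁻¹ := by
      intro y
      group
    rcases h1 with ⟨h1, h1'⟩ | ⟨h1, h1'⟩ <;> rcases h2 with ⟨h2, h2'⟩ | ⟨h2, h2'⟩ <;>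
      constructor <;> apply key <;> rw [e]
    · rw [(fix _ _ h2).2, (fix _ _ h1).2, (fix _ _ h2).1, (fix _ _ h1).1]
    · rw [(fix _ _ h2').2, (fix _ _ h1').2, (fix _ _ h2').1, (fix _ _ h1').1]
    · rw [inv _ _ _ h2', (fix _ _ h1').2, h2', (fix _ _ h1).1]
    · rw [inv _ _ _ h2, (fix _ _ h1).2, h2, (fix _ _ h1').1]
    · rw [(fix _ _ h2).2, inv _ _ _ h1', (fix _ _ h2').1, h1']
    · rw [(fix _ _ h2').2, inv _ _ _ h1, (fix _ _ h2).1, h1]
    · rw [inv _ _ _ h2', inv _ _ _ h1, h2, h1']
    · rw [inv _ _ _ h2, inv _ _ _ h1', h2', h1]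
  out := A.out
  schreier := A.schreier
  sylAut := A.sylAut

end Cfsg.Agent.OddHalf.D8.Fi22.Sheet22

end

-- merged: Cfsg.Agent.OddHalf.D8.Fi22.KAll
section

/-!
# ODD half, D8, `K = Fi22`: all the facts on `K` together (helper368)
-/

set_option autoImplicit false

namespace Cfsg.Agent.OddHalf.D8.Fi22

open Cfsg Cfsg.Agent.R01 Subgroup

universe v

variable {K : Type v} [Group K]

/-- the facts on automorphisms -/
theorem KTrans.autFacts {T : Set K} (h : KTrans K T) (z : K) : Sheet22.AutFacts K z where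
  out := OutIdx.MulOuter.out h.out
  schreier := OutIdx.MulOuter.schreier h.out
  sylAut S _ α _ hα := h.t1s S α hα

/-- everything at a given pair of commuting transpositions -/
structure All (K : Type v) [Group K] (T : Set K) (d d' : K) (R : Subgroup K) : Prop where
  d_mem : d ∈ T
  d'_mem : d' ∈ T
  kt : KTrans K T
  geo : Geo T
  facts : KFacts.FiTT.Facts K d d' R
  aut : Sheet22.AutFacts K (d * d')

/-- the sheet -/
theorem All.basic {T : Set K} {d d' : K} {R : Subgroup K} (h : All K T d d' R) :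
    Sheet.Basic (d * d') (centralizer ({d, d'} : Set K)) := Sheet22.basic h.facts h.aut

theorem all_of_iso (e : K ≃* Spor.Fi22) {d d' : K} (hd : d ∈ e.symm '' Fi22Facts.T)
    (hd' : d' ∈ e.symm '' Fi22Facts.T) (hne : d ≠ d') (hc : d * d' = d' * d) :
    ∃ R : Subgroup K, All K (e.symm '' Fi22Facts.T) d d' R := by
  obtain ⟨R, hR⟩ := KFacts.FiTT.facts_of_iso e hd hd' hne hc
  exact ⟨R, hd, hd', kTrans e, geo e, hR, (kTrans e).autFacts _⟩

/-- **Everything on `K = Fi22`.** -/
theorem exists_all (h : Spor.IsoFi22 K) : ∃ (T : Set K) (d d' : K) (R : Subgroup K), All K T d d' R := by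
  obtain ⟨e⟩ := h
  obtain ⟨a, ha, b, hb, n, c⟩ := (kTrans e).pair
  obtain ⟨R, hR⟩ := all_of_iso e ha hb n c
  exact ⟨_, a, b, R, hR⟩

end Cfsg.Agent.OddHalf.D8.Fi22

end
end
end

-- part: OddHalf/D4/Spor/Fi22
section
prune_inst 0x4400402200000000000000000000000000000000000000000000000800000000000100000000000000000000000000000000402000000a000000000000000000000000000000000000000000000000000000000000000000000000000000000000000
set_option linter.all false
open scoped Cfsg.Agent.FastGrp

-- merged: Cfsg.Agent.OddHalf.D4.Spor.Fi22Tri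
section

/-!
# ODD half, D4, `K = Fi22`: three commuting transpositions (helper368)

`main`: a subgroup normalised by `C(w)`, `w = a b c`, and containing no product of two commuting transpositions
centralises the transpositions commuting with `a`, `b`, `c`.
-/

set_option autoImplicit false
set_option linter.unusedSectionVars false

namespace Cfsg.Agent.OddHalf.D4.Spor.Fi22

open Cfsg Cfsg.Agent.LieClassical.HermBasic Cfsg.Agent.ClassicalGeometry.UnitTransv
open Cfsg.Agent.SporadicStructure.UnitTwo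
open Cfsg.Agent.R01.Lifts Cfsg.Agent.R01.PSUSix Cfsg.Agent.R01.Label Cfsg.Agent.R01.InvForm
open Cfsg.Agent.R01 Cfsg.Agent.R01.Start Cfsg.Agent.R01.FiFusion Cfsg.Agent.R01.FiFacts
open Cfsg.Agent.ClassicalGeometry.UnitAutBasic (tau pr pr_surjective pr_eq_of_scalar)
open Cfsg.Agent.StdFi22.TLev Cfsg.Agent.StdFi22.Rigid

section label

variable {P : Type*} [Group P] {F : Type*} [Field F] [Fintype F] {hF : Fintype.card F = 2 ^ 2}
  {T : Set P} {q : P} {π : Subgroup.centralizer ({q} : Set P) →* PSU 6 F 2}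
  {lift : (Fin 6 → F) → Subgroup.centralizer ({q} : Set P)}

/-- An element commuting with the labelled elements of a totally isotropic plane. -/
theorem sq_of_plane (L : Lab hF π (zel q) (zel q) lift) {u v w : Fin 6 → F} (hf : Fr3 u v w) {h : P}
    (hq : h * q = q * h)
    (hc : ∀ a b c : F, (a ≠ 0 ∨ b ≠ 0 ∨ c ≠ 0) →
      h * (lift (a • u + b • v + c • w) : P) = (lift (a • u + b • v + c • w) : P) * h) :
    h * h = 1 ∨ h * h = q := by
  have hcomb := fun a b c a' b' c' => AllOfLab.Fr3.comb hF hf a b c a' b' c'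
  have e1 : u = (1 : F) • u + (0 : F) • v + (0 : F) • w := by module
  have e2 : v = (0 : F) • u + (1 : F) • v + (0 : F) • w := by module
  have e3 : w = (0 : F) • u + (0 : F) • v + (1 : F) • w := by module
  obtain ⟨h', hh'⟩ : ∃ h' : Subgroup.centralizer ({q} : Set P), (h' : P) = h :=
    ⟨⟨h, Subgroup.mem_centralizer_singleton_iff.2 hq⟩, rfl⟩
  obtain ⟨A, hAπ⟩ := pr_surjective (π h')
  have eig : ∀ a b c : F, (a ≠ 0 ∨ b ≠ 0 ∨ c ≠ 0) →
      ∃ k : F, k ≠ 0 ∧ act A (a • u + b • v + c • w) = k • (a • u + b • v + c • w) := by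
    intro a b c hne
    have h0 := comb_ne hf hne
    have h1 := L.conj h' A (a • u + b • v + c • w) hAπ.symm h0 (hcomb _ _ _ _ _ _)
    have h2 : h' * lift (a • u + b • v + c • w) * h'⁻¹ = lift (a • u + b • v + c • w) := by
      apply Subtype.ext
      show (h' : P) * lift (a • u + b • v + c • w) * (h' : P)⁻¹ = lift (a • u + b • v + c • w)
      rw [hh', hc _ _ _ hne, mul_inv_cancel_right]
    rw [h2] at h1
    obtain ⟨k, hk, h3⟩ := (L.lift_eq_iff (hcomb _ _ _ _ _ _) (by rw [herm_act, hcomb])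
      h0 (Lab.act_ne_zero h0)).1 h1
    exact ⟨k, hk, h3⟩
  have z : (1 : F) ≠ 0 := one_ne_zero
  obtain ⟨ku, hku0, hku⟩ := eig 1 0 0 (Or.inl z)
  obtain ⟨kv, hkv0, hkv⟩ := eig 0 1 0 (Or.inr (Or.inl z))
  obtain ⟨kw, hkw0, hkw⟩ := eig 0 0 1 (Or.inr (Or.inr z))
  obtain ⟨k1, hk10, hk1⟩ := eig 1 1 0 (Or.inl z)
  obtain ⟨k2, hk20, hk2⟩ := eig 0 1 1 (Or.inr (Or.inl z))
  rw [← e1] at hku
  rw [← e2] at hkv
  rw [← e3] at hkw
  have huv : ku = kv := by
    have h1 : act A ((1 : F) • u + (1 : F) • v + (0 : F) • w) = ku • u + kv • v := by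
      have : (1 : F) • u + (1 : F) • v + (0 : F) • w = u + v := by module
      rw [this, act_add, hku, hkv]
    rw [h1] at hk1
    obtain ⟨h2, h3, -⟩ := hf.ind (ku - k1) (kv - k1) 0 (by
      have : (ku - k1) • u + (kv - k1) • v + (0 : F) • w = (ku • u + kv • v) -
        k1 • ((1 : F) • u + (1 : F) • v + (0 : F) • w) := by module
      rw [this, hk1, sub_self])
    rw [sub_eq_zero.1 h2, sub_eq_zero.1 h3]
  have hvw : kv = kw := by
    have h1 : act A ((0 : F) • u + (1 : F) • v + (1 : F) • w) = kv • v + kw • w := by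
      have : (0 : F) • u + (1 : F) • v + (1 : F) • w = v + w := by module
      rw [this, act_add, hkv, hkw]
    rw [h1] at hk2
    obtain ⟨-, h2, h3⟩ := hf.ind 0 (kv - k2) (kw - k2) (by
      have : (0 : F) • u + (kv - k2) • v + (kw - k2) • w = (kv • v + kw • w) -
        k2 • ((0 : F) • u + (1 : F) • v + (1 : F) • w) := by module
      rw [this, hk2, sub_self])
    rw [sub_eq_zero.1 h2, sub_eq_zero.1 h3]
  rw [← hvw, ← huv] at hkw
  rw [← huv] at hkv
  have two := AllOfLab.two_eq_zero' hF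
  have k3 : ku ^ 3 = 1 := pow_three hF hku0
  have orth : ∀ x y : Fin 6 → F, act A y = ku • y →
      hermForm 6 F 2 (act A x + ku • x) y = 0 := by
    intro x y hy
    have h1 : hermForm 6 F 2 (act A x) (act A y) = hermForm 6 F 2 x y := by rw [herm_act]
    rw [hy, herm_smul_right] at h1
    rw [herm_add_left, herm_smul_left, ← h1]
    have h2 : ku * (ku ^ 2 * hermForm 6 F 2 (act A x) y) = hermForm 6 F 2 (act A x) y := by
      linear_combination hermForm 6 F 2 (act A x) y * k3
    rw [h2, ← two_mul, two, zero_mul]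
  have hsq : ∀ x : Fin 6 → F, act (A * A) x = (ku * ku) • act (1 : SU 6 F 2) x := by
    intro x
    rw [act_one, act_mul]
    obtain ⟨a, b, c, habc⟩ := mem_span_of_perp hF hf (orth x u hku) (orth x v hkv) (orth x w hkw)
    have h1 : act A (act A x + ku • x) = ku • (act A x + ku • x) := by
      rw [habc, act_add, act_add, act_smul, act_smul, act_smul, hku, hkv, hkw]
      module
    rw [act_add, act_smul] at h1
    have h3 : act A (act A x) = ku • (act A x + ku • x) - ku • act A x := by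
      rw [← h1]; module
    rw [h3]
    module
  have hp1 : π (h' * h') = 1 := by
    rw [map_mul, ← hAπ, ← map_mul, ← map_one (pr 6 F 2)]
    exact (pr_eq_of_scalar hsq).symm
  rcases (L.ext.ker _).1 hp1 with h1 | h1
  · left
    have := congrArg Subtype.val h1
    rw [← hh']
    exact this
  · right
    have := congrArg Subtype.val h1
    rw [← hh']
    exact this

end label

variable {P : Type*} [Group P] [Finite P] {F : Type*} [Field F] [Fintype F]
  {hF : Fintype.card F = 2 ^ 2} {T : Set P}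

/-- A transposition commuting with a product of three commuting transpositions commutes with them. -/
theorem comm_tri (B : Bas hF T) {x y w t : P} (ht : Tri T x y w) (htT : t ∈ T)
    (h : t * (x * y * w) = x * y * w * t) : t * x = x * t ∧ t * y = y * t ∧ t * w = w * t := by
  have xx := B.sq ht.mx
  have yy := B.sq ht.my
  have ww := B.sq ht.mw
  have tt := B.sq htT
  have xy := ht.cxy
  have xw := ht.cxw
  have yw := ht.cyw
  -- if `t` commutes with one then with all
  have one : ∀ a b c : P, a ∈ T → b ∈ T → c ∈ T → b ≠ c → a * a = 1 → b * c = c * b →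
      t * (a * (b * c)) = a * (b * c) * t → t * a = a * t → t * b = b * t ∧ t * c = c * t := by
    intro a b c ha hb hc hbc haa cbc h1 h2
    refine B.comm_of_pair hb hc htT hbc cbc ?_
    have h3 : a * (t * (b * c)) = a * (b * c * t) := by
      calc a * (t * (b * c)) = (a * t) * (b * c) := by group
        _ = (t * a) * (b * c) := by rw [h2]
        _ = t * (a * (b * c)) := by group
        _ = a * (b * c * t) := by rw [h1]; group
    exact mul_left_cancel h3
  by_cases hx : t * x = x * t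
  · have e : x * (y * w) = x * y * w := (mul_assoc x y w).symm
    obtain ⟨h1, h2⟩ := one x y w ht.mx ht.my ht.mw ht.yw xx yw (by rw [e, h]) hx
    exact ⟨hx, h1, h2⟩
  by_cases hy : t * y = y * t
  · have e : y * (x * w) = x * y * w := by rw [← mul_assoc, ← xy]
    obtain ⟨h1, h2⟩ := one y x w ht.my ht.mx ht.mw ht.xw yy xw (by rw [e, h]) hy
    exact ⟨h1, hy, h2⟩
  by_cases hw : t * w = w * t
  · have e : w * (x * y) = x * y * w := by
      calc w * (x * y) = (w * x) * y := by group
        _ = x * (w * y) := by rw [← xw]; group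
        _ = x * y * w := by rw [← yw]; group
    obtain ⟨h1, h2⟩ := one w x y ht.mw ht.mx ht.my ht.xy ww xy (by rw [e, h]) hw
    exact ⟨h1, h2, hw⟩
  exfalso
  have bx : x * t * x = t * x * t := (B.three ht.mx htT).resolve_left fun e => hx e.symm
  have by' : y * t * y = t * y * t := (B.three ht.my htT).resolve_left fun e => hy e.symm
  have bw : w * t * w = t * w * t := (B.three ht.mw htT).resolve_left fun e => hw e.symm
  -- `w t w = y x t x y`
  have k1 : w * t * w = y * (x * t * x) * y := by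
    have e1 : t = (x * y * w) * t * (w * y * x) := by
      calc t = t * (x * y * w) * (w * y * x) := by
            rw [show t * (x * y * w) * (w * y * x) = t * (x * (y * (w * w) * y) * x) by group, ww,
              mul_one, yy, mul_one, xx, mul_one]
        _ = _ := by rw [h]
    calc w * t * w = w * ((x * y * w) * t * (w * y * x)) * w := by rw [← e1]
      _ = (w * (x * y) * w) * t * (w * (y * x) * w) := by group
      _ = (x * y) * t * (y * x) := by
          have e2 : w * (x * y) * w = x * y := by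
            calc w * (x * y) * w = (w * x) * (y * w) := by group
              _ = (x * w) * (w * y) := by rw [← xw, yw]
              _ = x * (w * w) * y := by group
              _ = x * y := by rw [ww, mul_one]
          have e3 : w * (y * x) * w = y * x := by
            calc w * (y * x) * w = (w * y) * (x * w) := by group
              _ = (y * w) * (w * x) := by rw [← yw, xw]
              _ = y * (w * w) * x := by group
              _ = y * x := by rw [ww, mul_one]
          rw [e2, e3]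
      _ = (y * x) * t * (x * y) := by rw [xy]
      _ = y * (x * t * x) * y := by group
  have k2 : w = w * t * w := by
    calc w = t * (t * w * t) * t := by
          rw [show t * (t * w * t) * t = (t * t) * w * (t * t) by group, tt, one_mul, mul_one]
      _ = t * (y * (t * x * t) * y) * t := by rw [← bw, k1, bx]
      _ = (t * y * t) * x * (t * y * t) := by group
      _ = (y * t * y) * x * (y * t * y) := by rw [← by']
      _ = y * t * (y * x * y) * t * y := by group
      _ = y * t * x * t * y := by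
          rw [← xy, show x * y * y = x * (y * y) by group, yy, mul_one]
      _ = y * (t * x * t) * y := by group
      _ = w * t * w := by rw [← bx, k1]
  apply hw
  have k3 : t * w = 1 := by
    apply mul_left_cancel (a := w)
    rw [mul_one]
    calc w * (t * w) = w * t * w := by group
      _ = w := k2.symm
  have k4 : w = t := by
    calc w = t * t * w := by rw [tt, one_mul]
      _ = t * (t * w) := by group
      _ = t := by rw [k3, mul_one]
  rw [k4]

/-- The bridge between two transpositions `x`, `y` commuting with `a`, `b`. -/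
theorem exists_bridge (B : Bas hF T) {a b x y : P} (ha : a ∈ T) (hb : b ∈ T) (hx : x ∈ T) (hy : y ∈ T)
    (hab : a ≠ b) (cab : a * b = b * a) (xa : x * a = a * x) (xb : x * b = b * x) (ya : y * a = a * y)
    (yb : y * b = b * y) (hxy : x * y ≠ y * x) : ∃ g ∈ T, g * a = a * g ∧ g * b = b * g ∧
      g * x = x * g ∧ g ≠ x ∧ g * y ≠ y * g ∧
      ∀ c ∈ T, c * a = a * c → c * b = b * c → c * x = x * c → c * g = g * c := by
  obtain ⟨π, lift, L, hiff⟩ := B.base.loc a ha
  have zc : ∀ x : Subgroup.centralizer ({a} : Set P), a * (x : P) = (x : P) * a :=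
    fun x => AllOfLab.zel_comm x
  have nx : x ≠ a := by
    rintro rfl
    exact hxy ya.symm
  have ny : y ≠ a := by
    rintro rfl
    exact hxy xa
  obtain ⟨u, hu0, hu, h1⟩ := AllOfLab.mem_Dset_of hiff hb cab.symm hab.symm
  obtain ⟨p, hp0, hp, h2⟩ := AllOfLab.mem_Dset_of hiff hx xa nx
  obtain ⟨r, hr0, hr, h3⟩ := AllOfLab.mem_Dset_of hiff hy ya ny
  have h1' : b = (lift u : P) := congrArg Subtype.val h1
  have h2' : x = (lift p : P) := congrArg Subtype.val h2
  have h3' : y = (lift r : P) := congrArg Subtype.val h3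
  have com : ∀ {x y : Fin 6 → F}, x ≠ 0 → y ≠ 0 → hermForm 6 F 2 x x = 0 → hermForm 6 F 2 y y = 0 →
      ((lift x : P) * (lift y : P) = (lift y : P) * (lift x : P) ↔ hermForm 6 F 2 x y = 0) := by
    intro x y hx0 hy0 hx hy
    rw [← L.commute_iff hx hy hx0 hy0, AllOfLab.comm_coe]
  have hpu : hermForm 6 F 2 p u = 0 := (com hp0 hu0 hp hu).1 (by rw [← h1', ← h2']; exact xb)
  have hup : hermForm 6 F 2 u p = 0 := herm_eq_zero_swap hF hpu
  have hru : hermForm 6 F 2 r u = 0 := (com hr0 hu0 hr hu).1 (by rw [← h1', ← h3']; exact yb)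
  have hpr : hermForm 6 F 2 p r ≠ 0 := fun h => hxy (by rw [h2', h3']; exact (com hp0 hr0 hp hr).2 h)
  have hur : hermForm 6 F 2 u r = 0 := herm_eq_zero_swap hF hru
  have hg : hermForm 6 F 2 (p + u) (p + u) = 0 := by
    rw [herm_add_left, herm_add_right hF, herm_add_right hF, hp, hpu, hup, hu]; ring
  have hgr : hermForm 6 F 2 (p + u) r = hermForm 6 F 2 p r := by
    rw [herm_add_left, hur, add_zero]
  have hg0 : p + u ≠ 0 := by
    intro h
    apply hpr
    rw [← hgr, h, herm_zero_left]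
  have hgT : (lift (p + u) : P) ∈ T := (hiff _).2 (Or.inr (Lab.mem_D hg0 hg))
  refine ⟨lift (p + u), hgT, (zc _).symm, ?_, ?_, ?_, ?_, ?_⟩
  · rw [h1']
    refine (com hg0 hu0 hg hu).2 ?_
    rw [herm_add_left, hpu, hu, add_zero]
  · rw [h2']
    refine (com hg0 hp0 hg hp).2 ?_
    rw [herm_add_left, hp, hup, add_zero]
  · rw [h2']
    intro h
    obtain ⟨k, hk, h4⟩ := (L.lift_eq_iff hg hp hg0 hp0).1 (Subtype.ext h)
    -- `p = k (p + u)`
    by_cases hk1 : k = 1
    · rw [hk1, one_smul] at h4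
      exact hu0 (left_eq_add.1 h4)
    · apply hpr
      have h5 : (1 - k) • p = k • u := by
        have h6 : (1 - k) • p = p - k • p := by module
        rw [h6]
        nth_rewrite 1 [h4]
        module
      have h7 : (1 - k) * hermForm 6 F 2 p r = 0 := by
        rw [← herm_smul_left, h5, herm_smul_left, hur, mul_zero]
      exact (mul_eq_zero.1 h7).resolve_left (sub_ne_zero.2 (Ne.symm hk1))
  · rw [h3']
    intro h
    exact hpr (by rw [← hgr]; exact (com hg0 hr0 hg hr).1 h)
  · intro c hc ca cb cx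
    by_cases nc : c = a
    · rw [nc]; exact zc _
    obtain ⟨s, hs0, hs, h4⟩ := AllOfLab.mem_Dset_of hiff hc ca nc
    have h4' : c = (lift s : P) := congrArg Subtype.val h4
    rw [h4']
    refine (com hs0 hg0 hs hg).2 ?_
    have h5 := (com hs0 hp0 hs hp).1 (by rw [← h4', ← h2']; exact cx)
    have h6 := (com hs0 hu0 hs hu).1 (by rw [← h4', ← h1']; exact cb)
    rw [herm_add_right hF, h5, h6, add_zero]

/-- The transpositions commuting with everything which commutes with `a`, `b`, `c` are the members of the hexad. -/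
theorem exists_ncomm (B : Bas hF T) {a b c a' b' c' n : P} (H : Hex T a b c a' b' c') (hn : n ∈ T)
    (na : n * a = a * n) (nb : n * b = b * n) (nc : n * c = c * n) (h1 : n ≠ a) (h2 : n ≠ b) (h3 : n ≠ c)
    (h4 : n ≠ a') (h5 : n ≠ b') (h6 : n ≠ c') :
    ∃ t ∈ T, t * a = a * t ∧ t * b = b * t ∧ t * c = c * t ∧ t * n ≠ n * t := by
  obtain ⟨π, lift, L, hiff⟩ := B.base.loc a H.t.mx
  have zc : ∀ x : Subgroup.centralizer ({a} : Set P), a * (x : P) = (x : P) * a :=
    fun x => AllOfLab.zel_comm x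
  obtain ⟨u, hu0, hu, e1⟩ := AllOfLab.mem_Dset_of hiff H.t.my H.t.cxy.symm H.t.xy.symm
  obtain ⟨v, hv0, hv, e2⟩ := AllOfLab.mem_Dset_of hiff H.t.mw H.t.cxw.symm H.t.xw.symm
  obtain ⟨p, hp0, hp, e3⟩ := AllOfLab.mem_Dset_of hiff hn na h1
  have e1' : b = (lift u : P) := congrArg Subtype.val e1
  have e2' : c = (lift v : P) := congrArg Subtype.val e2
  have e3' : n = (lift p : P) := congrArg Subtype.val e3
  obtain ⟨ω, hω⟩ := exists_omega hF
  obtain ⟨f1, f2, f3⟩ := FiLocal.hex_mem L hiff hu0 hv0 hu hv e1' e2' hω H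
  have com : ∀ {x y : Fin 6 → F}, x ≠ 0 → y ≠ 0 → hermForm 6 F 2 x x = 0 → hermForm 6 F 2 y y = 0 →
      ((lift x : P) * (lift y : P) = (lift y : P) * (lift x : P) ↔ hermForm 6 F 2 x y = 0) := by
    intro x y hx0 hy0 hx hy
    rw [← L.commute_iff hx hy hx0 hy0, AllOfLab.comm_coe]
  have huv : hermForm 6 F 2 u v = 0 := (com hu0 hv0 hu hv).1 (by rw [← e1', ← e2']; exact H.t.cyw)
  have hpu : hermForm 6 F 2 p u = 0 := (com hp0 hu0 hp hu).1 (by rw [← e1', ← e3']; exact nb)
  have hpv : hermForm 6 F 2 p v = 0 := (com hp0 hv0 hp hv).1 (by rw [← e2', ← e3']; exact nc)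
  have hup := herm_eq_zero_swap hF hpu
  have hvp := herm_eq_zero_swap hF hpv
  have hvu : ¬ ∃ k : F, v = k • u := by
    rintro ⟨k, hk⟩
    apply H.t.yw
    have hk0 : k ≠ 0 := by
      rintro rfl
      exact hv0 (by rw [hk, zero_smul])
    rw [e1', e2', hk, L.smul u k hu hk0]
  by_cases hsp : ∃ x y : F, p = x • u + y • v
  · exfalso
    obtain ⟨x, y, hxy⟩ := hsp
    have hcase := FiLocal.pt_cases L hω hp0 hu hv huv
      (fun h => h2 (by rw [e1', e3', h])) (fun h => h3 (by rw [e2', e3', h])) hxy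
    have hcase' : n = lift (u + v) ∨ n = lift (ω • u + v) ∨ n = lift (ω ^ 2 • u + v) := by
      rcases hcase with h | h | h
      · left; rw [e3', h]
      · right; left; rw [e3', h]
      · right; right; rw [e3', h]
    rcases FiLocal.pigeon H.t'.xy H.t'.xw H.t'.yw f1 f2 f3 hcase' with h | h | h
    · exact h4 h
    · exact h5 h
    · exact h6 h
  · have hf : Fr3 u v p := by
      refine ⟨hu, hv, hp, huv, hup, hvp, ?_⟩
      intro x y w hxyw
      have hw : w = 0 := by
        by_contra hw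
        apply hsp
        refine ⟨-w⁻¹ * x, -w⁻¹ * y, ?_⟩
        have h7 : w • p = -(x • u + y • v) := by
          rw [eq_neg_iff_add_eq_zero, add_comm]; exact hxyw
        calc p = w⁻¹ • (w • p) := by rw [smul_smul, inv_mul_cancel₀ hw, one_smul]
          _ = w⁻¹ • (-(x • u + y • v)) := by rw [h7]
          _ = _ := by module
      rw [hw, zero_smul, add_zero] at hxyw
      have hy : y = 0 := by
        by_contra hy
        apply hvu
        refine ⟨-y⁻¹ * x, ?_⟩
        have h7 : y • v = -(x • u) := by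
          rw [eq_neg_iff_add_eq_zero, add_comm]; exact hxyw
        calc v = y⁻¹ • (y • v) := by rw [smul_smul, inv_mul_cancel₀ hy, one_smul]
          _ = y⁻¹ • (-(x • u)) := by rw [h7]
          _ = _ := by module
      rw [hy, zero_smul, add_zero] at hxyw
      exact ⟨(smul_eq_zero.1 hxyw).resolve_right hu0, hy, hw⟩
    obtain ⟨f, hfr⟩ := HermPlane.exists_frame_of_fr3 (hF := hF) hf
    have g0 : hermForm 6 F 2 (f 2) (f 2) = 0 := hfr.ff 2 2
    have g1 : hermForm 6 F 2 u (f 2) = 0 := by simpa using hfr.ef 0 2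
    have g2 : hermForm 6 F 2 v (f 2) = 0 := by simpa using hfr.ef 1 2
    have g3 : hermForm 6 F 2 p (f 2) = 1 := by simpa using hfr.ef 2 2
    have hf0 : f 2 ≠ 0 := by
      intro h
      rw [h, herm_zero_right hF] at g3
      exact zero_ne_one g3
    refine ⟨lift (f 2), (hiff _).2 (Or.inr (Lab.mem_D hf0 g0)), (zc _).symm, ?_, ?_, ?_⟩
    · rw [e1']
      exact (com hf0 hu0 g0 hu).2 (herm_eq_zero_swap hF g1)
    · rw [e2']
      exact (com hf0 hv0 g0 hv).2 (herm_eq_zero_swap hF g2)
    · rw [e3']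
      intro h
      have := (com hf0 hp0 g0 hp).1 h
      have := herm_eq_zero_swap hF this
      rw [g3] at this
      exact one_ne_zero this

theorem sq_or (B : Bas hF T) {a b c h : P} (ht : Tri T a b c)
    (hc : ∀ t ∈ T, t * a = a * t → t * b = b * t → t * c = c * t → h * t = t * h) :
    h * h = 1 ∨ h * h = a := by
  obtain ⟨q, π, lift, u, v, w, hq, L, hiff, hf⟩ := B.exists_label
  have zc : ∀ x : Subgroup.centralizer ({q} : Set P), q * (x : P) = (x : P) * q :=
    fun x => AllOfLab.zel_comm x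
  have mem : ∀ x : Fin 6 → F, x ≠ 0 → hermForm 6 F 2 x x = 0 → (lift x : P) ∈ T :=
    fun x h0 hx => (hiff _).2 (Or.inr (Lab.mem_D h0 hx))
  have neq : ∀ x : Fin 6 → F, x ≠ 0 → hermForm 6 F 2 x x = 0 → q ≠ (lift x : P) := by
    intro x h0 hx h1
    have h2 : zel q = lift x := Subtype.ext h1
    apply L.z_notMem
    rw [h2]
    exact Lab.mem_D h0 hx
  have hcomb := fun a b c a' b' c' => AllOfLab.Fr3.comb hF hf a b c a' b' c'
  obtain ⟨n1, n2, n3⟩ := AllOfLab.Fr3.lift_ne L hf
  obtain ⟨c1, c2, c3⟩ := AllOfLab.Fr3.lift_comm L hf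
  have hT : Tri T q (lift u : P) (lift v : P) :=
    ⟨hq, mem _ hf.u_ne hf.uu, mem _ hf.v_ne hf.vv, neq _ hf.u_ne hf.uu, neq _ hf.v_ne hf.vv,
      fun h => n1 (Subtype.ext h), zc _, zc _, AllOfLab.comm_coe.1 c1⟩
  obtain ⟨g, g1, g2, g3⟩ := B.tf.tri _ _ _ _ _ _ ht hT
  have back : ∀ a b : P, g⁻¹ * a * g⁻¹⁻¹ * b = b * (g⁻¹ * a * g⁻¹⁻¹) ↔
      a * (g * b * g⁻¹) = g * b * g⁻¹ * a := by
    intro a b
    constructor
    · intro h1
      calc a * (g * b * g⁻¹) = g * (g⁻¹ * a * g⁻¹⁻¹ * b) * g⁻¹ := by group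
        _ = g * (b * (g⁻¹ * a * g⁻¹⁻¹)) * g⁻¹ := by rw [h1]
        _ = _ := by group
    · intro h1
      calc g⁻¹ * a * g⁻¹⁻¹ * b = g⁻¹ * (a * (g * b * g⁻¹)) * g := by group
        _ = g⁻¹ * (g * b * g⁻¹ * a) * g := by rw [h1]
        _ = _ := by group
  -- the conjugate of `h` commutes with everything in the link of `q`, `u`, `v`
  have key : ∀ t ∈ T, t * q = q * t → t * (lift u : P) = (lift u : P) * t →
      t * (lift v : P) = (lift v : P) * t → (g * h * g⁻¹) * t = t * (g * h * g⁻¹) := by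
    intro t htT k1 k2 k3
    have e := hc (g⁻¹ * t * g⁻¹⁻¹) (B.conjT _ htT) ((back _ _).2 (by rw [g1]; exact k1))
      ((back _ _).2 (by rw [g2]; exact k2)) ((back _ _).2 (by rw [g3]; exact k3))
    exact ((back _ _).1 e.symm).symm
  have e1 : u = (1 : F) • u + (0 : F) • v + (0 : F) • w := by module
  have e2 : v = (0 : F) • u + (1 : F) • v + (0 : F) • w := by module
  have z1 : (1 : F) ≠ 0 := one_ne_zero
  have com : ∀ a b c a' b' c' : F, (a ≠ 0 ∨ b ≠ 0 ∨ c ≠ 0) → (a' ≠ 0 ∨ b' ≠ 0 ∨ c' ≠ 0) →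
      (lift (a • u + b • v + c • w) : P) * (lift (a' • u + b' • v + c' • w) : P) =
        (lift (a' • u + b' • v + c' • w) : P) * (lift (a • u + b • v + c • w) : P) :=
    fun a b c a' b' c' h0 h0' => AllOfLab.comm_coe.1 ((L.commute_iff (hcomb _ _ _ _ _ _)
      (hcomb _ _ _ _ _ _) (comb_ne hf h0) (comb_ne hf h0')).2 (hcomb _ _ _ _ _ _))
  have key2 : ∀ a b c : F, (a ≠ 0 ∨ b ≠ 0 ∨ c ≠ 0) → (g * h * g⁻¹) *
      (lift (a • u + b • v + c • w) : P) = (lift (a • u + b • v + c • w) : P) * (g * h * g⁻¹) := by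
    intro a b c h0
    refine key _ (mem _ (comb_ne hf h0) (hcomb _ _ _ _ _ _)) (zc _).symm ?_ ?_
    · have := com a b c 1 0 0 h0 (Or.inl z1)
      rwa [← e1] at this
    · have := com a b c 0 1 0 h0 (Or.inr (Or.inl z1))
      rwa [← e2] at this
  have hq' : (g * h * g⁻¹) * q = q * (g * h * g⁻¹) :=
    key q hq rfl (zc _) (zc _)
  have hsq : (g * h * g⁻¹) * (g * h * g⁻¹) = g * (h * h) * g⁻¹ := by group
  rcases sq_of_plane L hf hq' key2 with h1 | h1
  · left
    rw [hsq] at h1
    exact conj_eq_one_iff.1 h1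
  · right
    rw [hsq, ← g1] at h1
    exact mul_left_cancel (mul_right_cancel h1)

/-- An element commuting with all the transpositions which commute with `a`, `b`, `c` is an involution. -/
theorem sq_one (B : Bas hF T) {a b c h : P} (ht : Tri T a b c)
    (hc : ∀ t ∈ T, t * a = a * t → t * b = b * t → t * c = c * t → h * t = t * h) : h * h = 1 := by
  rcases sq_or B ht hc with h1 | h1
  · exact h1
  rcases sq_or B (tri_perm ht) (fun t htT k1 k2 k3 => hc t htT k3 k1 k2) with h2 | h2
  · exact h2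
  · exact absurd (h1.symm.trans h2) ht.xy

/-! ### Normal subgroups of `C(w)` -/

/-- Two transpositions congruent modulo `N` commute with the same transpositions. -/
theorem bridge (B : Bas hF T) {N : Subgroup P} {x y g : P} (hx : x ∈ T) (hy : y ∈ T) (hg : g ∈ T)
    (hxy : x * y ∈ N) (hgx : g * x = x * g) (hne : g ≠ x) (hgN : ∀ n ∈ N, g * n * g⁻¹ ∈ N)
    (no : ∀ x ∈ T, ∀ y ∈ T, x ≠ y → x * y = y * x → x * y ∉ N) : g * y = y * g := by
  rcases B.three hg hy with h | h
  · exact h
  exfalso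
  apply no g hg x hx hne hgx
  have xx := B.sq hx
  have yy := B.sq hy
  have gg := B.sq hg
  have hyx : y * x ∈ N := by
    have e : y * x = (x * y)⁻¹ := by
      rw [mul_inv_rev, B.inv_self hx, B.inv_self hy]
    rw [e]
    exact inv_mem hxy
  have h1 : x * y * (g * (y * x) * g⁻¹) ∈ N := mul_mem hxy (hgN _ hyx)
  have e1 : x * y * (g * (y * x) * g⁻¹) = g * (x * y * x) := by
    rw [B.inv_self hg]
    calc x * y * (g * (y * x) * g) = x * (y * g * y) * (x * g) := by group
      _ = x * (g * y * g) * (g * x) := by rw [← hgx, ← h]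
      _ = (x * g) * y * (g * g) * x := by group
      _ = (g * x) * y * x := by rw [gg, ← hgx, mul_one]
      _ = _ := by group
  rw [e1] at h1
  have h2 : g * (x * y * x) * (x * y) ∈ N := mul_mem h1 hxy
  have e2 : g * (x * y * x) * (x * y) = g * x := by
    calc g * (x * y * x) * (x * y) = g * x * (y * (x * x) * y) := by group
      _ = g * x := by rw [xx, mul_one, yy, mul_one]
  rwa [e2] at h2

theorem conj_comm_of {x y g : P} (h : x * y = y * x) (hg : g * y = y * g) :
    g * x * g⁻¹ * y = y * (g * x * g⁻¹) := by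
  have h1 : g⁻¹ * y = y * g⁻¹ := by
    calc g⁻¹ * y = g⁻¹ * (y * g) * g⁻¹ := by group
      _ = g⁻¹ * (g * y) * g⁻¹ := by rw [hg]
      _ = y * g⁻¹ := by group
  calc g * x * g⁻¹ * y = g * x * (g⁻¹ * y) := by group
    _ = g * (x * y) * g⁻¹ := by rw [h1]; group
    _ = (g * y) * x * g⁻¹ := by rw [h]; group
    _ = y * (g * x * g⁻¹) := by rw [hg]; group

/-- commuting with three of the four elements `w = a b c`, `a`, `b`, `c` -/
theorem comm_fourth {a b c y : P} (hw : y * (a * b * c) = a * b * c * y) (hb : y * b = b * y)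
    (hc : y * c = c * y) : y * a = a * y := by
  have h1 : y * a * (b * c) = a * y * (b * c) := by
    calc y * a * (b * c) = y * (a * b * c) := by group
      _ = a * b * c * y := hw
      _ = a * b * (c * y) := by group
      _ = a * b * (y * c) := by rw [hc]
      _ = a * (b * y) * c := by group
      _ = a * (y * b) * c := by rw [hb]
      _ = _ := by group
  exact mul_right_cancel h1

section normal

variable (B : Bas hF T) {a b c : P} (ht : Tri T a b c) {N : Subgroup P}
  (hN : ∀ n ∈ N, n * (a * b * c) = a * b * c * n)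
  (norm : ∀ g : P, g * (a * b * c) = a * b * c * g → ∀ n ∈ N, g * n * g⁻¹ ∈ N)
  (no : ∀ x ∈ T, ∀ y ∈ T, x ≠ y → x * y = y * x → x * y ∉ N)
include B ht hN norm no

omit hN norm no in
theorem comm_w {t : P} (h1 : t * a = a * t) (h2 : t * b = b * t) (h3 : t * c = c * t) :
    t * (a * b * c) = a * b * c * t := by
  calc t * (a * b * c) = (t * a) * b * c := by group
    _ = a * (t * b) * c := by rw [h1]; group
    _ = a * b * (t * c) := by rw [h2]; group
    _ = a * b * c * t := by rw [h3]; group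

theorem fix_a : ∀ n ∈ N, n * a = a * n := by
  intro n hn
  have aT := ht.mx
  have aw : a * (a * b * c) = a * b * c * a := comm_w B ht rfl ht.cxy ht.cxw
  have bw : b * (a * b * c) = a * b * c * b := comm_w B ht ht.cxy.symm rfl ht.cyw
  have cw : c * (a * b * c) = a * b * c * c := comm_w B ht ht.cxw.symm ht.cyw.symm rfl
  have yT : n * a * n⁻¹ ∈ T := B.conjT n aT
  have yw : n * a * n⁻¹ * (a * b * c) = a * b * c * (n * a * n⁻¹) := conj_comm_of aw (hN n hn)
  have hay : a * (n * a * n⁻¹) ∈ N := by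
    have h1 : a * n * a⁻¹ * n⁻¹ ∈ N := mul_mem (norm a aw n hn) (inv_mem hn)
    rw [B.inv_self aT] at h1
    have e : a * (n * a * n⁻¹) = a * n * a * n⁻¹ := by group
    rwa [e]
  have hb := bridge B aT yT ht.my hay ht.cxy.symm (Ne.symm ht.xy) (norm b bw) no
  have hc := bridge B aT yT ht.mw hay ht.cxw.symm (Ne.symm ht.xw) (norm c cw) no
  have ha : n * a * n⁻¹ * a = a * (n * a * n⁻¹) := comm_fourth yw hb.symm hc.symm
  by_cases he : a = n * a * n⁻¹
  · calc n * a = n * a * n⁻¹ * n := by group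
      _ = a * n := by rw [← he]
  · exact absurd hay (no a aT _ yT he ha.symm)

/-- **`N` centralises the transpositions commuting with `a`, `b`, `c`.** -/
theorem main : ∀ n ∈ N, ∀ t ∈ T, t * a = a * t → t * b = b * t → t * c = c * t → n * t = t * n := by
  have rot : ∀ {a b c : P}, Tri T a b c → b * c * a = a * b * c := by
    intro a b c h
    calc b * c * a = b * (c * a) := by group
      _ = b * (a * c) := by rw [h.cxw]
      _ = (b * a) * c := by group
      _ = a * b * c := by rw [h.cxy]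
  have fa := fix_a B ht hN norm no
  have fb : ∀ n ∈ N, n * b = b * n := by
    have e := rot ht
    refine fix_a B (tri_perm ht) ?_ ?_ no
    · rw [e]; exact hN
    · rw [e]; exact norm
  have fc : ∀ n ∈ N, n * c = c * n := by
    have e := (rot (tri_perm ht)).trans (rot ht)
    refine fix_a B (tri_perm (tri_perm ht)) ?_ ?_ no
    · rw [e]; exact hN
    · rw [e]; exact norm
  intro n hn t htT ta tb tc
  have yT : n * t * n⁻¹ ∈ T := B.conjT n htT
  have ya := conj_comm_of ta (fa n hn)
  have yb := conj_comm_of tb (fb n hn)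
  have yc := conj_comm_of tc (fc n hn)
  have tw := comm_w B ht ta tb tc
  have hty : t * (n * t * n⁻¹) ∈ N := by
    have h1 : t * n * t⁻¹ * n⁻¹ ∈ N := mul_mem (norm t tw n hn) (inv_mem hn)
    rw [B.inv_self htT] at h1
    have e : t * (n * t * n⁻¹) = t * n * t * n⁻¹ := by group
    rwa [e]
  by_cases hcm : t * (n * t * n⁻¹) = n * t * n⁻¹ * t
  · by_cases he : t = n * t * n⁻¹
    · calc n * t = n * t * n⁻¹ * n := by group
        _ = t * n := by rw [← he]
    · exact absurd hty (no t htT _ yT he hcm)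
  · exfalso
    obtain ⟨g, hg, ga, gb, gt, gne, gy, hall⟩ := exists_bridge B ht.mx ht.my htT yT ht.xy ht.cxy ta tb
      ya yb hcm
    have gc : g * c = c * g := (hall c ht.mw ht.cxw.symm ht.cyw.symm tc.symm).symm
    exact gy (bridge B htT yT hg hty gt gne (norm g (comm_w B ht ga gb gc)) no)

theorem sq_N : ∀ n ∈ N, n * n = 1 := fun n hn =>
  sq_one B ht fun t htT k1 k2 k3 => main B ht hN norm no n hn t htT k1 k2 k3

/-- **`N ⊆ {1, w}`.** -/
theorem eq_w (hw : a * b * c ∈ N) : ∀ n ∈ N, n = 1 ∨ n = a * b * c := by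
  have hm := main B ht hN norm no
  obtain ⟨a', b', c', H⟩ := B.tf.hex a b c ht
  have sqw : a * b * c * (a * b * c) = 1 := sq_N B ht hN norm no _ hw
  have hw' : a' * b' * c' = a * b * c := by
    have h1 := H.prod
    have h2 : (a * b * c)⁻¹ = a' * b' * c' := inv_eq_of_mul_eq_one_right h1
    rw [← h2]
    exact inv_eq_of_mul_eq_one_right sqw
  -- no transposition of the hexad is in `N`
  have swap : ∀ {x y w : P}, Tri T x y w → x * y * w = a * b * c → x ∉ N := by
    intro x y w h he hx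
    have h' : Tri T y x w := ⟨h.my, h.mx, h.mw, h.xy.symm, h.yw, h.xw, h.cxy.symm, h.cyw, h.cxw⟩
    obtain ⟨g, g1, g2, g3⟩ := B.tf.tri _ _ _ _ _ _ h h'
    have hg : g * (a * b * c) = a * b * c * g := by
      rw [← he]
      calc g * (x * y * w) = (g * x * g⁻¹) * (g * y * g⁻¹) * (g * w * g⁻¹) * g := by group
        _ = y * x * w * g := by rw [g1, g2, g3]
        _ = x * y * w * g := by rw [h.cxy]
    have hy : y ∈ N := by
      have := norm g hg x hx
      rwa [g1] at this
    exact no x h.mx y h.my h.xy h.cxy (mul_mem hx hy)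
  have tp2 : ∀ {x y w : P}, Tri T x y w → Tri T y w x := fun h => tri_perm h
  have rot : ∀ {a b c : P}, Tri T a b c → b * c * a = a * b * c := by
    intro a b c h
    calc b * c * a = b * (c * a) := by group
      _ = b * (a * c) := by rw [h.cxw]
      _ = (b * a) * c := by group
      _ = a * b * c := by rw [h.cxy]
  have nh : ∀ {x y w : P}, Tri T x y w → x * y * w = a * b * c → x ∉ N ∧ y ∉ N ∧ w ∉ N := by
    intro x y w h he
    exact ⟨swap h he, swap (tp2 h) ((rot h).trans he),
      swap (tp2 (tp2 h)) (((rot (tp2 h)).trans (rot h)).trans he)⟩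
  obtain ⟨na, nb, nc⟩ := nh ht rfl
  obtain ⟨na', nb', nc'⟩ := nh H.t' hw'
  -- the transpositions centralising the link are in the hexad
  have cov : ∀ x ∈ T, (∀ t ∈ T, t * a = a * t → t * b = b * t → t * c = c * t → x * t = t * x) →
      (x = a ∨ x = b ∨ x = c) ∨ (x = a' ∨ x = b' ∨ x = c') := by
    intro x hx h
    by_contra hcon
    push Not at hcon
    obtain ⟨⟨h1, h2, h3⟩, h4, h5, h6⟩ := hcon
    have xa := h a ht.mx rfl ht.cxy ht.cxw
    have xb := h b ht.my ht.cxy.symm rfl ht.cyw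
    have xc := h c ht.mw ht.cxw.symm ht.cyw.symm rfl
    obtain ⟨t, htT, ta, tb, tc, hne⟩ := exists_ncomm B H hx xa xb xc h1 h2 h3 h4 h5 h6
    exact hne (h t htT ta tb tc).symm
  -- two members of a triple with product `w`
  have third : ∀ {x y w : P}, Tri T x y w → x * y * w = a * b * c → ∀ p q r : P, p ∈ T → r ∈ T →
      p ≠ q → (p = x ∨ p = y ∨ p = w) → (q = x ∨ q = y ∨ q = w) →
      (∀ t ∈ T, t * x = x * t → t * y = y * t → t * w = w * t → r * t = t * r) →
      p * q * r ∈ N → p * q * r = a * b * c := by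
    intro x y w h he p q r hp hr hpq hp' hq' hr' hpqr
    obtain ⟨s, hs, sx, sy, sw, e⟩ : ∃ s ∈ T, s * x = x * s ∧ s * y = y * s ∧ s * w = w * s ∧
        p * q * s = a * b * c := by
      have cxy := h.cxy
      have cxw := h.cxw
      have cyw := h.cyw
      have e1 : x * w * y = x * y * w := by rw [mul_assoc, ← cyw, ← mul_assoc]
      have e2 : y * x * w = x * y * w := by rw [cxy]
      have e3 : y * w * x = x * y * w := rot h
      have e4 : w * x * y = x * y * w := by rw [← cxw, e1]
      have e5 : w * y * x = x * y * w := by rw [← cyw, e3]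
      rcases hp' with rfl | rfl | rfl <;> rcases hq' with rfl | rfl | rfl
      · exact absurd rfl hpq
      · exact ⟨w, h.mw, cxw.symm, cyw.symm, rfl, he⟩
      · exact ⟨y, h.my, cxy.symm, rfl, cyw, e1.trans he⟩
      · exact ⟨w, h.mw, cxw.symm, cyw.symm, rfl, e2.trans he⟩
      · exact absurd rfl hpq
      · exact ⟨x, h.mx, rfl, cxy, cxw, e3.trans he⟩
      · exact ⟨y, h.my, cxy.symm, rfl, cyw, e4.trans he⟩
      · exact ⟨x, h.mx, rfl, cxy, cxw, e5.trans he⟩
      · exact absurd rfl hpq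
    by_cases hrs : r = s
    · rw [hrs]; exact e
    · exfalso
      have hrs' : r * s = s * r := hr' s hs sx sy sw
      apply no r hr s hs hrs hrs'
      have h1 : (p * q * r)⁻¹ * (a * b * c) ∈ N := mul_mem (inv_mem hpqr) hw
      have e2 : (p * q * r)⁻¹ * (a * b * c) = r * s := by
        rw [← e, mul_inv_rev, mul_assoc, ← mul_assoc _ (p * q) s, inv_mul_cancel, one_mul, B.inv_self hr]
      rwa [e2] at h1
  intro n hn
  rcases B.tf.inv n (sq_N B ht hN norm no n hn) ⟨a, ht.mx, fix_a B ht hN norm no n hn⟩ with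
    h | h | ⟨x, hx, y, hy, hne, hc, he⟩ | ⟨x, y, z, h, he⟩
  · exact Or.inl h
  · exfalso
    rcases cov n h (hm n hn) with (h1 | h1 | h1) | (h1 | h1 | h1) <;> rw [h1] at hn
    · exact na hn
    · exact nb hn
    · exact nc hn
    · exact na' hn
    · exact nb' hn
    · exact nc' hn
  · exact absurd (by rw [← he]; exact hn) (no x hx y hy hne hc)
  · right
    -- the members of the triple centralise the link
    have hxyz : ∀ t ∈ T, t * a = a * t → t * b = b * t → t * c = c * t →
        t * x = x * t ∧ t * y = y * t ∧ t * z = z * t := by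
      intro t htT ta tb tc
      have h1 := hm n hn t htT ta tb tc
      rw [he] at h1
      exact comm_tri B h htT h1.symm
    have lk : ∀ t ∈ T, t * a' = a' * t → t * b' = b' * t → t * c' = c' * t →
        t * a = a * t ∧ t * b = b * t ∧ t * c = c * t := by
      intro t htT ta tb tc
      refine comm_tri B ht htT ?_
      rw [← hw']
      exact comm_w B H.t' ta tb tc
    have ex := fun t htT ta tb tc => ((hxyz t htT ta tb tc).1).symm
    have ey := fun t htT ta tb tc => ((hxyz t htT ta tb tc).2.1).symm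
    have ez := fun t htT ta tb tc => ((hxyz t htT ta tb tc).2.2).symm
    have ex' : ∀ t ∈ T, t * a' = a' * t → t * b' = b' * t → t * c' = c' * t → x * t = t * x := by
      intro t htT ta tb tc
      obtain ⟨k1, k2, k3⟩ := lk t htT ta tb tc
      exact ex t htT k1 k2 k3
    have ey' : ∀ t ∈ T, t * a' = a' * t → t * b' = b' * t → t * c' = c' * t → y * t = t * y := by
      intro t htT ta tb tc
      obtain ⟨k1, k2, k3⟩ := lk t htT ta tb tc
      exact ey t htT k1 k2 k3
    have ez' : ∀ t ∈ T, t * a' = a' * t → t * b' = b' * t → t * c' = c' * t → z * t = t * z := by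
      intro t htT ta tb tc
      obtain ⟨k1, k2, k3⟩ := lk t htT ta tb tc
      exact ez t htT k1 k2 k3
    have p1 : x * y * z = x * y * z := rfl
    have p2 : x * z * y = x * y * z := by rw [mul_assoc, ← h.cyw, ← mul_assoc]
    have p3 : y * z * x = x * y * z := rot h
    rw [he] at hn ⊢
    have hn2 : x * z * y ∈ N := by rw [p2]; exact hn
    have hn3 : y * z * x ∈ N := by rw [p3]; exact hn
    rcases cov x h.mx ex with hx | hx <;> rcases cov y h.my ey with hy | hy
    · exact third ht rfl x y z h.mx h.mw h.xy hx hy ez hn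
    · rcases cov z h.mw ez with hz | hz
      · rw [← p2]; exact third ht rfl x z y h.mx h.my h.xw hx hz ey hn2
      · rw [← p3]; exact third H.t' hw' y z x h.my h.mx h.yw hy hz ex' hn3
    · rcases cov z h.mw ez with hz | hz
      · rw [← p3]; exact third ht rfl y z x h.my h.mx h.yw hy hz ex hn3
      · rw [← p2]; exact third H.t' hw' x z y h.mx h.my h.xw hx hz ey' hn2
    · exact third H.t' hw' x y z h.mx h.mw h.xy hx hy ez' hn

end normal

end Cfsg.Agent.OddHalf.D4.Spor.Fi22

end

-- merged: Cfsg.Agent.OddHalf.D4.Spor.Fi22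
section

/-!
# ODD half, D4: the fact sheet of `Fi22` (helper368)
-/

set_option autoImplicit false
set_option linter.unusedSectionVars false

namespace Cfsg.Agent.OddHalf.D4.Spor.Fi22

open Subgroup Cfsg Cfsg.Agent.R01.FiFusion Cfsg.Agent.R01.FiFacts Cfsg.Agent.StdFi22.TLev
open Cfsg.Agent.OddHalf.D8.Fi22

section lev

variable {P : Type*} [Group P] [Finite P] {F : Type*} [Field F] [Fintype F]
  {hF : Fintype.card F = 2 ^ 2} {T : Set P} (B : Bas hF T) {N : Subgroup P}
  (no : ∀ x ∈ T, ∀ y ∈ T, x ≠ y → x * y = y * x → x * y ∉ N)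
include B no

theorem mem_of {n t : P} (ht : t ∈ T) (hn : n ∈ N) (h : t * n * t⁻¹ ∈ N) : t * (n * t * n⁻¹) ∈ N := by
  have h1 : t * n * t⁻¹ * n⁻¹ ∈ N := mul_mem h (inv_mem hn)
  rw [B.inv_self ht] at h1
  have e : t * (n * t * n⁻¹) = t * n * t * n⁻¹ := by group
  rwa [e]

theorem comm_of {n t : P} (ht : t ∈ T) (h : t * (n * t * n⁻¹) ∈ N)
    (hc : t * (n * t * n⁻¹) = n * t * n⁻¹ * t) : n * t = t * n := by
  by_cases he : t = n * t * n⁻¹
  · calc n * t = n * t * n⁻¹ * n := by group
      _ = t * n := by rw [← he]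
  · exact absurd h (no t ht _ (B.conjT n ht) he hc)

/-- the case of a transposition -/
theorem main_one {a : P} (ha : a ∈ T) (hN : ∀ n ∈ N, n * a = a * n)
    (norm : ∀ g : P, g * a = a * g → ∀ n ∈ N, g * n * g⁻¹ ∈ N) :
    ∀ n ∈ N, ∀ t ∈ T, t * a = a * t → n * t = t * n := by
  intro n hn t ht hta
  have yT : n * t * n⁻¹ ∈ T := B.conjT n ht
  have hty := mem_of B no ht hn (norm t hta n hn)
  by_cases hc : t * (n * t * n⁻¹) = n * t * n⁻¹ * t
  · exact comm_of B no ht hty hc
  · exfalso
    have ya := conj_comm_of hta (hN n hn)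
    obtain ⟨g, hg, ga, gne, gt, gy⟩ := Opp.exists_opp_mem B ha yT ht ya hta hc
    exact gy (bridge B ht yT hg hty gt gne (norm g ga) no)

/-- the case of a product of two transpositions -/
theorem main_two {a b : P} (ha : a ∈ T) (hb : b ∈ T) (hab : a ≠ b) (cab : a * b = b * a)
    (hN : ∀ n ∈ N, n * (a * b) = a * b * n)
    (norm : ∀ g : P, g * (a * b) = a * b * g → ∀ n ∈ N, g * n * g⁻¹ ∈ N) : ∀ n ∈ N, n * n = 1 := by
  have cw : ∀ {t : P}, t * a = a * t → t * b = b * t → t * (a * b) = a * b * t := by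
    intro t h1 h2
    calc t * (a * b) = (t * a) * b := by group
      _ = a * (t * b) := by rw [h1]; group
      _ = a * b * t := by rw [h2]; group
  have fix : ∀ t ∈ T, t * (a * b) = a * b * t → (t = a ∨ t = b) → ∀ n ∈ N, n * t = t * n := by
    intro t ht htw htab n hn
    have hty := mem_of B no ht hn (norm t htw n hn)
    apply comm_of B no ht hty
    have yT : n * t * n⁻¹ ∈ T := B.conjT n ht
    obtain ⟨h1, h2⟩ := B.comm_of_pair ha hb yT hab cab (conj_comm_of htw (hN n hn))
    rcases htab with rfl | rfl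
    · exact h1.symm
    · exact h2.symm
  have fa := fix a ha (cw rfl cab) (Or.inl rfl)
  have fb := fix b hb (cw cab.symm rfl) (Or.inr rfl)
  obtain ⟨c, htri⟩ := B.third ha hb hab cab
  intro n hn
  refine sq_one B htri fun t ht ta tb _ => ?_
  have yT : n * t * n⁻¹ ∈ T := B.conjT n ht
  have hty := mem_of B no ht hn (norm t (cw ta tb) n hn)
  by_cases hcm : t * (n * t * n⁻¹) = n * t * n⁻¹ * t
  · exact comm_of B no ht hty hcm
  · exfalso
    have ya := conj_comm_of ta (fa n hn)
    have yb := conj_comm_of tb (fb n hn)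
    obtain ⟨g, hg, ga, gb, gt, gne, gy, -⟩ := exists_bridge B ha hb ht yT hab cab ta tb ya yb hcm
    exact gy (bridge B ht yT hg hty gt gne (norm g (cw ga gb)) no)

end lev

/-! ### The group `Fi22` -/

open Cfsg.Agent.StdFi22.MainFi22 (bas)
open Cfsg.Agent.R08.AutT (T)

theorem kt : KTrans Spor.Fi22 T := kTrans0

/-- products of two commuting transpositions are 2-central -/
theorem cen_two {a b : Spor.Fi22} (ha : a ∈ T) (hb : b ∈ T) (hab : a ≠ b) (cab : a * b = b * a) :
    Cen (a * b) := by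
  have hT : ∀ x ∈ T, x ∈ (MulEquiv.refl Spor.Fi22).symm '' Cfsg.Agent.R01.Fi22Facts.T :=
    fun x hx => ⟨x, hx, rfl⟩
  obtain ⟨R, hR⟩ := all_of_iso (MulEquiv.refl Spor.Fi22) (hT a ha) (hT b hb) hab cab
  obtain ⟨S, -, hS, -⟩ := hR.basic.syl
  exact ⟨S, hS⟩

/-- the involutions -/
theorem inv_cases {w : Spor.Fi22} (h : w * w = 1) (h1 : w ≠ 1) : w ∈ T ∨
    (∃ a ∈ T, ∃ b ∈ T, a ≠ b ∧ a * b = b * a ∧ w = a * b) ∨ ∃ a b c, Tri T a b c ∧ w = a * b * c := by
  rcases Cfsg.Agent.R08.AutT.tFacts.inv w h (Cfsg.Agent.R08.AutT.hfix w h) with h2 | h2 | h2 | h2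
  · exact absurd h2 h1
  · exact Or.inl h2
  · exact Or.inr (Or.inl h2)
  · exact Or.inr (Or.inr h2)

/-- an element commuting with the transpositions which commute with `a` -/
theorem eq_of_comm {a n : Spor.Fi22} (ha : a ∈ T) (h : ∀ t ∈ T, t * a = a * t → n * t = t * n) :
    n = 1 ∨ n = a := by
  have hc := Cfsg.Agent.StdFi22.MainFi22.center_eq
  rcases kt.cJ ha (MulAut.conj n) (fun c hc h1 => by
    rw [MulAut.conj_apply, h c hc h1, mul_inv_cancel_right]) with h1 | h1
  · left
    apply hc n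
    intro x
    have h2 : n * x * n⁻¹ = x := DFunLike.congr_fun h1 x
    calc n * x = n * x * n⁻¹ * n := by group
      _ = x * n := by rw [h2]
  · right
    have h3 : a⁻¹ * n = 1 := by
      apply hc
      intro x
      have h2 : n * x * n⁻¹ = a * x * a⁻¹ := DFunLike.congr_fun h1 x
      calc a⁻¹ * n * x = a⁻¹ * (n * x * n⁻¹) * n := by group
        _ = a⁻¹ * (a * x * a⁻¹) * n := by rw [h2]
        _ = x * (a⁻¹ * n) := by group
    calc n = a * (a⁻¹ * n) := by group
      _ = a := by rw [h3, mul_one]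

theorem odd_sq {X : Type*} [Group X] {I : Subgroup X} (hI : Odd (Nat.card I)) {n : X} (hn : n ∈ I)
    (h : n * n = 1) : n = 1 := by
  have h1 : orderOf (⟨n, hn⟩ : I) ∣ 2 := orderOf_dvd_of_pow_eq_one (by
    rw [pow_two]; exact Subtype.ext h)
  have h2 : orderOf (⟨n, hn⟩ : I) ∣ Nat.card I := orderOf_dvd_natCard _
  have h3 : orderOf (⟨n, hn⟩ : I) = 1 := Nat.eq_one_of_dvd_coprimes hI.coprime_two_left h1 h2
  exact congrArg Subtype.val (orderOf_eq_one_iff.1 h3)

theorem mul_sq_of {X : Type*} [Group X] {a b : X} (ha : a * a = 1) (hb : b * b = 1) (h : a * b = b * a) :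
    a * b * (a * b) = 1 := by
  calc a * b * (a * b) = a * (b * a) * b := by group
    _ = (a * a) * (b * b) := by rw [← h]; group
    _ = 1 := by rw [ha, hb, one_mul]

/-- `O(C(a)) = 1` -/
theorem bal (a : Spor.Fi22) (ha : a * a = 1) (ha1 : a ≠ 1) (I : Subgroup Spor.Fi22)
    (hI : ∀ i ∈ I, i * a = a * i) (norm : ∀ c : Spor.Fi22, c * a = a * c → ∀ i ∈ I, c * i * c⁻¹ ∈ I)
    (hodd : Odd (Nat.card ↥I)) : I = ⊥ := by
  have hfin : Finite Spor.Fi22 := Cfsg.Agent.R01.Fi22Facts.finite
  have no : ∀ x ∈ T, ∀ y ∈ T, x ≠ y → x * y = y * x → x * y ∉ I := by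
    intro x hx y hy hne hc hxy
    have h1 := odd_sq hodd hxy (mul_sq_of (bas.sq hx) (bas.sq hy) hc)
    apply hne
    rw [← bas.inv_self hy]
    exact eq_inv_of_mul_eq_one_left h1
  rw [eq_bot_iff]
  intro n hn
  rw [mem_bot]
  rcases inv_cases ha ha1 with h | ⟨x, hx, y, hy, hne, hc, rfl⟩ | ⟨x, y, z, h, rfl⟩
  · rcases eq_of_comm h (main_one bas no h hI norm n hn) with h1 | h1
    · exact h1
    · exact odd_sq hodd hn (by rw [h1]; exact ha)
  · exact odd_sq hodd hn (main_two bas no hx hy hne hc hI norm n hn)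
  · exact odd_sq hodd hn (sq_N bas h hI norm no n hn)

theorem card_le {X : Type*} [Group X] [Finite X] {N : Subgroup X} {w : X} (h : ∀ n ∈ N, n = 1 ∨ n = w) :
    Nat.card N ≤ 2 := by
  have hle : (N : Set X) ⊆ {1, w} := by
    intro n hn
    rcases h n hn with h | h
    · exact Or.inl h
    · exact Or.inr h
  have h1 : (N : Set X).ncard ≤ ({1, w} : Set X).ncard := Set.ncard_le_ncard hle (Set.toFinite _)
  have h2 : ({1, w} : Set X).ncard ≤ 2 := Set.ncard_insert_le _ _ |>.trans (by rw [Set.ncard_singleton])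
  exact h1.trans h2

theorem not_bad (w : Spor.Fi22) (N : Subgroup Spor.Fi22) : ¬ Bad w N := by
  intro hb
  have hfin : Finite Spor.Fi22 := Cfsg.Agent.R01.Fi22Facts.finite
  have no : ∀ x ∈ T, ∀ y ∈ T, x ≠ y → x * y = y * x → x * y ∉ N := by
    intro x hx y hy hne hc hxy
    refine hb.non _ hxy (mul_sq_of (bas.sq hx) (bas.sq hy) hc) ?_ (cen_two hx hy hne hc)
    intro h1
    apply hne
    rw [← bas.inv_self hy]
    exact eq_inv_of_mul_eq_one_left h1
  have key : ∀ n ∈ N, n = 1 ∨ n = w := by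
    rcases inv_cases hb.sq hb.ne with h | ⟨x, hx, y, hy, hne, hc, rfl⟩ | ⟨x, y, z, h, rfl⟩
    · exact fun n hn => eq_of_comm h (main_one bas no h hb.le hb.norm n hn)
    · exact absurd hb.mem (no x hx y hy hne hc)
    · exact eq_w bas h hb.le hb.norm no hb.mem
  have h1 := card_le key
  have h2 := Nat.le_of_dvd Nat.card_pos hb.four
  omega

theorem out2 (α : MulAut Spor.Fi22) (hα : ¬ Inn α) (w : Spor.Fi22) (hw : w * w = 1) (hw1 : w ≠ 1)
    (hcen : ¬ Cen w) (hαw : α w = w) (h : ∀ c : Spor.Fi22, c * w = w * c → α c = c ∨ α c = w * c) : False := by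
  have hfin : Finite Spor.Fi22 := Cfsg.Agent.R01.Fi22Facts.finite
  rcases inv_cases hw hw1 with hT | ⟨x, hx, y, hy, hne, hc, rfl⟩ | ⟨x, y, z, ht, rfl⟩
  · -- `w` is a transposition
    have key : ∀ c ∈ T, c * w = w * c → α c = c := by
      intro c hc hcw
      by_cases hne : c = w
      · rw [hne, hαw]
      rcases h c hcw with h1 | h1
      · exact h1
      · exfalso
        apply bas.tf.two w hT c hc (Ne.symm hne) hcw.symm
        rw [← h1]
        exact kt.aut α c hc
    rcases kt.cJ hT α key with h1 | h1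
    · exact hα ⟨1, by rw [h1, map_one]⟩
    · exact hα ⟨w, h1⟩
  · exact hcen (cen_two hx hy hne hc)
  · -- `w` is a product of three commuting transpositions
    obtain ⟨l, hodd, h1, h2, h3⟩ := Cfsg.Agent.StdFi22.TLev.Bas.hept bas ht
    obtain ⟨k, hk⟩ := SylAut.inner_of_fix (β := α) hodd (fun c hc => (h1 c hc).1) h3 (fun c hc => by
      obtain ⟨hcT, cx, cy, cz⟩ := h1 c hc
      have hcw := comm_w bas ht cx cy cz
      rcases h c hcw with h4 | h4
      · exact h4
      · exfalso
        have hT' : x * y * z * c ∈ T := by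
          rw [← h4]
          exact kt.aut α c hcT
        -- `w = (w c) c` would be a product of two commuting transpositions
        apply hcen
        have hcc := bas.sq hcT
        have e : x * y * z = x * y * z * c * c := by rw [mul_assoc _ c c, hcc, mul_one]
        have hcomm : x * y * z * c * c = c * (x * y * z * c) := by
          rw [← e]
          calc x * y * z = x * y * z * c * c := e
            _ = c * (x * y * z) * c := by rw [hcw]
            _ = _ := by group
        have hne : x * y * z * c ≠ c := by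
          intro h5
          apply hw1
          exact mul_eq_right.1 h5
        rw [e]
        exact cen_two hT' hcT hne hcomm)
    exact hα ⟨k, hk⟩

/-- **The fact sheet of `Fi22`.** -/
theorem sheet0 : Sheet Spor.Fi22 := by
  have hfin : Finite Spor.Fi22 := Cfsg.Agent.R01.Fi22Facts.finite
  obtain ⟨T', d, d', R, hA⟩ := exists_all (K := Spor.Fi22) ⟨MulEquiv.refl _⟩
  refine Sheet.of_basic_tab hA.basic bal ?_ (tab_of_not_bad not_bad)
  intro α hα _ w hw hw1 hcen hαw h _ _ _ _ _
  exact out2 α hα w hw hw1 hcen hαw h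

theorem sheet {X : Type*} [Group X] (h : Spor.IsoFi22 X) : Sheet X := by
  obtain ⟨e⟩ := h
  exact Sheet.of_equiv e.symm sheet0

end Cfsg.Agent.OddHalf.D4.Spor.Fi22

end
end
end
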