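import Cfsg.Agent.BabyM.CoTwoMod
import Cfsg.Agent.MonsterU.SmallComm
import Cfsg.Agent.SporadicA.XiSextet
import Cfsg.Agent.Co2Type.TGroup
import Cfsg.Agent.Co2Type.Mono
import Cfsg.Agent.LeechMat.Elements
import Cfsg.Agent.Co2Type.FactsClass
import Cfsg.Agent.OddHalf.Iface
import Cfsg.Agent.OddHalf.Known
import Cfsg.Agent.OddHalf.Stmts_m3
import Cfsg.Agent.OddHalf.Soft
import Cfsg.Agent.SignalizersComponents.ComponentImage
import Cfsg.Agent.OddHalf.RankOne
import Cfsg.Agent.SignalizersComponents.EvenComponent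
import Cfsg.Agent.Fischer.Centralizer
import Cfsg.Agent.OddHalf.D3.TwoCfg_m3
import Cfsg.Agent.OddHalf.D3.EvDiag_m3
import Cfsg.Agent.OddHalf.D3.BTwo.Grow
import Cfsg.Agent.FastGrp
import Cfsg.Agent.Prune
set_option linter.all false

section
prune_inst 0x7ffcfefbeffc3fffffff7e7ffffbdffc39d5dfffefdff94bffe1efffbfbf23a72fe5fbaf8de0d2ff9ed6e2b410b87853fb7eeeffe86fdc7ffffd5ff45ffbee1ff7ffbd0c51dfb8a41ffe6ffffbf17fce7f3fffffffffffffffffffffffffffffffffffffffff

-- part: OddHalf/D4/Spor/LatTwo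
section
prune_inst 0x301041003c0000000000000042001c22a2000002004b0000a000040405c5880080400620620004128000b0001000004811100130022800000a0030000006000000061a020465a000000000002002000000000000000000000000000000000000000000000
set_option linter.all false
open scoped Cfsg.Agent.FastGrp

/-!
# Involutions of `Co0` fixing a minimal vector `u`, on `evn u / rad u`

Basic facts: congruent vectors of small norm are equal up to sign (`eq_or_neg`), an element of `Co0` fixing a minimal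
vector `x ⊥ u` modulo `2Λ` and `u` maps `x` to `± x` (`pm_of_mem_rad`), an element of `Co0` fixing all `4 e_i ± 4 e_j`,
`i, j ∈ S`, up to sign is a scalar on the `e_i`, `i ∈ S` (`scalar`).
-/

set_option autoImplicit false

namespace Cfsg.Agent.OddHalf.D4.Spor.LatTwo

open Cfsg Cfsg.Agent Cfsg.Agent.BabyM.CoTwoMod Cfsg.Agent.SporadicStructure.Co2RankThree
open Cfsg.Agent.SporadicA Cfsg.Agent.SporadicA.Co0Mono

/-! ### Norms -/

theorem le_dt {y : leechLattice} (hy : y ≠ 0) : 32 ≤ dt y y := by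
  rw [← norm_eq]
  exact Cfsg.Agent.S0391.result y y.2 fun h => hy (Subtype.ext h)

theorem dt_two (y : leechLattice) : dt (2 • y) (2 • y) = 4 * dt y y := by
  rw [dt_two_smul_right, dt_comm, dt_two_smul_right]
  ring

/-- Vectors of small norm congruent modulo 2 are equal up to sign. -/
theorem eq_or_neg {a b y : leechLattice} (h : a - b = 2 • y) (hn : dt a a + dt b b < 128) : a = b ∨ a = -b := by
  by_cases hy : y = 0
  · left
    rw [hy, _root_.smul_zero] at h
    exact sub_eq_zero.1 h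
  by_cases hy' : y + b = 0
  · right
    have h2 : a + b = 2 • (y + b) := by rw [_root_.smul_add, ← h, two_smul]; abel
    rw [hy', _root_.smul_zero] at h2
    exact eq_neg_of_add_eq_zero_left h2
  exfalso
  have h2 : a + b = 2 • (y + b) := by rw [_root_.smul_add, ← h, two_smul]; abel
  have e1 : dt (a - b) (a - b) = dt a a + dt b b - 2 * dt a b := by
    rw [dt_sub_left, dt_sub_right, dt_sub_right, dt_comm b a]; ring
  have e2 : dt (a + b) (a + b) = dt a a + dt b b + 2 * dt a b := by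
    rw [dt_add_left, dt_add_right, dt_add_right, dt_comm b a]; ring
  rw [h, dt_two] at e1
  rw [h2, dt_two] at e2
  have := le_dt hy
  have := le_dt hy'
  omega

/-- An element fixing `u` and fixing `x ⊥ u` modulo `2Λ` and `u` maps `x` to `± x` (`x` minimal). -/
theorem pm_of_mem_rad {u x : leechLattice} (hu : dt u u = 32) {h : Co0} (hx : dt x x = 32) (hux : dt u x = 0)
    (hr : h • x - x ∈ rad u) : h • x = x ∨ h • x = -x := by
  obtain ⟨w, hw | hw⟩ := mem_rad.1 hr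
  · refine eq_or_neg hw ?_
    rw [dt_smul, hx]
    norm_num
  · exfalso
    have e : h • x - (x + u) = 2 • w := by
      rw [← sub_sub, hw, add_sub_cancel_right]
    have e1 : dt (x + u) (x + u) = 64 := by
      rw [dt_add_left, dt_add_right, dt_add_right, dt_comm x u, hux, hx, hu]; norm_num
    rcases eq_or_neg e (by rw [dt_smul, hx, e1]; norm_num) with h1 | h1
    · have := dt_smul h x x
      rw [h1, e1, hx] at this
      norm_num at this
    · have := dt_smul h x x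
      rw [h1, dt_neg_left, dt_neg_right, neg_neg, e1, hx] at this
      norm_num at this

/-! ### The scalar on the `(-1)`-eigenspace -/

theorem dt_e8 (v : leechLattice) (i : GolayPt) : dt v (Co0Basic.e8 i) = 8 * (v : GolayPt → ℤ) i :=
  ConwayShift.dot_e8 v i

theorem e8_self (i : GolayPt) : ((Co0Basic.e8 i : leechLattice) : GolayPt → ℤ) i = 8 := by
  rw [Co0Basic.e8_apply, if_pos rfl]

theorem e8_ne {i j : GolayPt} (h : j ≠ i) : ((Co0Basic.e8 i : leechLattice) : GolayPt → ℤ) j = 0 := by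
  rw [Co0Basic.e8_apply, if_neg h]

theorem coe_add (v w : leechLattice) (i : GolayPt) :
    ((v + w : leechLattice) : GolayPt → ℤ) i = (v : GolayPt → ℤ) i + (w : GolayPt → ℤ) i := rfl

theorem coe_sub (v w : leechLattice) (i : GolayPt) :
    ((v - w : leechLattice) : GolayPt → ℤ) i = (v : GolayPt → ℤ) i - (w : GolayPt → ℤ) i := rfl

theorem coe_neg (v : leechLattice) (i : GolayPt) :
    ((-v : leechLattice) : GolayPt → ℤ) i = -(v : GolayPt → ℤ) i := rfl

theorem coe_two (v : leechLattice) (i : GolayPt) :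
    ((2 • v : leechLattice) : GolayPt → ℤ) i = 2 * (v : GolayPt → ℤ) i := by
  rw [two_smul, coe_add]; ring

theorem sign_neg {c : golayCode} {x : leechLattice} (hx : ∀ i, (c : GolayPt → ZMod 2) i = 0 → (x : GolayPt → ℤ) i = 0) :
    signCo0 c • x = -x := by
  apply Subtype.ext
  funext i
  rw [signCo0_smul, signMap_apply]
  show _ = -(x : GolayPt → ℤ) i
  by_cases h : (c : GolayPt → ZMod 2) i = 0
  · rw [hx i h]; ring
  · have : (c : GolayPt → ZMod 2) i = 1 := by
      revert h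
      generalize (c : GolayPt → ZMod 2) i = a
      revert a; decide
    rw [this, sgn_one]; ring

theorem pair_facts {i j : GolayPt} (hij : i ≠ j) : ∃ p : leechLattice, p + p = Co0Basic.e8 i + Co0Basic.e8 j ∧
    dt p p = 32 ∧ dt (p - Co0Basic.e8 j) (p - Co0Basic.e8 j) = 32 := by
  obtain ⟨p, hp⟩ := Cfsg.Agent.MonsterU.SmallComm.exists_four i j
  have e : p + p = Co0Basic.e8 i + Co0Basic.e8 j := by
    apply Subtype.ext
    funext k
    rw [coe_add, coe_add, hp, Co0Basic.e8_apply, Co0Basic.e8_apply]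
    split_ifs <;> norm_num
  have e1 : dt p p = 32 := by
    have h1 : dt p (p + p) = 2 * dt p p := by rw [dt_add_right]; ring
    rw [e, dt_add_right, dt_e8, dt_e8, hp, hp, if_pos rfl, if_neg hij, if_neg hij.symm, if_pos rfl] at h1
    omega
  refine ⟨p, e, e1, ?_⟩
  rw [dt_sub_left, dt_sub_right, dt_sub_right, e1, dt_e8, dt_comm _ p, dt_e8, dt_e8, hp, if_neg hij.symm, if_pos rfl,
    e8_self]
  norm_num

theorem two_cancel {a b : leechLattice} (h : a + a = b + b) : a = b := by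
  apply Subtype.ext
  funext i
  have h1 := congrArg (fun v : leechLattice => (v : GolayPt → ℤ) i) h
  simp only [coe_add] at h1
  omega

section Std

variable {S : Finset GolayPt} {h : Co0}

/-- `h` maps the vectors `4 e_i ± 4 e_j`, `i, j ∈ S`, to themselves up to sign -/
def PmS (S : Finset GolayPt) (h : Co0) : Prop := ∀ i ∈ S, ∀ j ∈ S, i ≠ j → ∀ p : leechLattice,
  p + p = Co0Basic.e8 i + Co0Basic.e8 j → (h • p = p ∨ h • p = -p) ∧
    (h • (p - Co0Basic.e8 j) = p - Co0Basic.e8 j ∨ h • (p - Co0Basic.e8 j) = -(p - Co0Basic.e8 j))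

/-- `h` maps `8 e_i` to `± 8 e_i` or `± 8 e_j` -/
theorem e8_cases (hP : PmS S h) {i j : GolayPt} (hi : i ∈ S) (hj : j ∈ S) (hij : i ≠ j) :
    (h • Co0Basic.e8 i = Co0Basic.e8 i ∧ h • Co0Basic.e8 j = Co0Basic.e8 j) ∨
    (h • Co0Basic.e8 i = -Co0Basic.e8 i ∧ h • Co0Basic.e8 j = -Co0Basic.e8 j) ∨
    h • Co0Basic.e8 i = Co0Basic.e8 j ∨ h • Co0Basic.e8 i = -Co0Basic.e8 j := by
  obtain ⟨p, hp, hp1, hp2⟩ := pair_facts hij
  have hi8 : (Co0Basic.e8 i : leechLattice) = p + (p - Co0Basic.e8 j) := by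
    rw [← add_sub_assoc, hp, add_sub_cancel_right]
  have hj8 : (Co0Basic.e8 j : leechLattice) = p - (p - Co0Basic.e8 j) := by abel
  obtain ⟨a1, a2⟩ := hP i hi j hj hij p hp
  rcases a1 with a1 | a1 <;> rcases a2 with a2 | a2
  · left
    constructor
    · conv_lhs => rw [hi8]
      rw [smul_add', a1, a2, ← hi8]
    · conv_lhs => rw [hj8]
      rw [smul_sub', a1, a2, ← hj8]
  · right; right; left
    conv_lhs => rw [hi8]
    rw [smul_add', a1, a2, ← sub_eq_add_neg, ← hj8]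
  · right; right; right
    conv_lhs => rw [hi8]
    rw [smul_add', a1, a2]
    conv_rhs => rw [hj8]
    abel
  · right; left
    constructor
    · conv_lhs => rw [hi8]
      rw [smul_add', a1, a2]
      conv_rhs => rw [hi8]
      abel
    · conv_lhs => rw [hj8]
      rw [smul_sub', a1, a2]
      conv_rhs => rw [hj8]
      abel

/-- `h` maps `8 e_i`, `8 e_j` to themselves up to the same sign -/
theorem e8_sign (hP : PmS S h) {i j l : GolayPt} (hi : i ∈ S) (hj : j ∈ S) (hij : i ≠ j) (hl : l ∈ S)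
    (hil : i ≠ l) (hjl : j ≠ l) :
    (h • Co0Basic.e8 i = Co0Basic.e8 i ∧ h • Co0Basic.e8 j = Co0Basic.e8 j) ∨
    (h • Co0Basic.e8 i = -Co0Basic.e8 i ∧ h • Co0Basic.e8 j = -Co0Basic.e8 j) := by
  have key : ∀ v : leechLattice, h • Co0Basic.e8 i = v → (v : GolayPt → ℤ) j ≠ 0 → False := by
    intro v hv hvj
    rcases e8_cases hP hi hl hil with h1 | h1 | h1 | h1
    · exact hvj (by rw [← hv, h1.1, e8_ne hij.symm])
    · exact hvj (by rw [← hv, h1.1, coe_neg, e8_ne hij.symm, neg_zero])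
    · exact hvj (by rw [← hv, h1, e8_ne hjl])
    · exact hvj (by rw [← hv, h1, coe_neg, e8_ne hjl, neg_zero])
  rcases e8_cases hP hi hj hij with h1 | h1 | h1 | h1
  · exact Or.inl h1
  · exact Or.inr h1
  · exact (key _ h1 (by rw [e8_self]; norm_num)).elim
  · exact (key _ h1 (by rw [coe_neg, e8_self]; norm_num)).elim

/-- **`h` is a scalar on the `e_i`, `i ∈ S`.** -/
theorem scalar (hP : PmS S h) (h3 : 3 ≤ S.card) :
    (∀ i ∈ S, h • Co0Basic.e8 i = Co0Basic.e8 i) ∨ (∀ i ∈ S, h • Co0Basic.e8 i = -Co0Basic.e8 i) := by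
  classical
  have third : ∀ i j : GolayPt, ∃ l ∈ S, i ≠ l ∧ j ≠ l := by
    intro i j
    have h1 : 0 < (S \ {i, j}).card := by
      have h2 := Finset.le_card_sdiff ({i, j} : Finset GolayPt) S
      have h3 : ({i, j} : Finset GolayPt).card ≤ 2 := Finset.card_le_two
      omega
    obtain ⟨l, hl⟩ := Finset.card_pos.1 h1
    rw [Finset.mem_sdiff, Finset.mem_insert, Finset.mem_singleton, not_or] at hl
    exact ⟨l, hl.1, fun e => hl.2.1 e.symm, fun e => hl.2.2 e.symm⟩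
  obtain ⟨i, hi⟩ := Finset.card_pos.1 (lt_of_lt_of_le (by norm_num) h3)
  have sg : ∀ j ∈ S, j ≠ i →
      (h • Co0Basic.e8 i = Co0Basic.e8 i ∧ h • Co0Basic.e8 j = Co0Basic.e8 j) ∨
      (h • Co0Basic.e8 i = -Co0Basic.e8 i ∧ h • Co0Basic.e8 j = -Co0Basic.e8 j) := by
    intro j hj hji
    obtain ⟨l, hl, hil, hjl⟩ := third i j
    exact e8_sign hP hi hj hji.symm hl hil hjl
  have hne : (Co0Basic.e8 i : leechLattice) ≠ -Co0Basic.e8 i := by
    intro e
    have h1 := congrArg (fun v : leechLattice => (v : GolayPt → ℤ) i) e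
    simp only [coe_neg, e8_self] at h1
    norm_num at h1
  obtain ⟨j₀, hj₀, hij₀, -⟩ := third i i
  rcases sg j₀ hj₀ hij₀.symm with ⟨h1, -⟩ | ⟨h1, -⟩
  · left
    intro j hj
    by_cases hji : j = i
    · rw [hji]; exact h1
    rcases sg j hj hji with h2 | h2
    · exact h2.2
    · exact (hne (h1.symm.trans h2.1)).elim
  · right
    intro j hj
    by_cases hji : j = i
    · rw [hji]; exact h1
    rcases sg j hj hji with h2 | h2
    · exact (hne (h2.1.symm.trans h1)).elim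
    · exact h2.2

end Std

theorem ne_neg_self {y : leechLattice} (hy : y ≠ 0) : y ≠ -y := by
  intro e
  apply hy
  have : y + y = 0 + 0 := by rw [add_zero]; exact add_eq_zero_iff_eq_neg.2 e
  exact two_cancel this

end Cfsg.Agent.OddHalf.D4.Spor.LatTwo
end

-- part: OddHalf/D4/Spor/LatFour
section
prune_inst 0x301041000c0000000000000002000020200000000000000000000400014400000000000040800400000018002000000000100000000000000a000000000400000002100000640000000000000002000000000000000000000000000000000000000000000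
set_option linter.all false
open scoped Cfsg.Agent.FastGrp

-- part: OddHalf/D4/Spor/LatData
section
/-!
# Lattice vectors for the involutions of `Co2` (data)

For the sign changes on `c = my` (octad) and `c = mv` (dodecad): `r_j = w_j - A w_j`, `w_j`, `Y_k` in `evn a0`,
`(Y_k, r_j) / 8 = δ_kj` modulo 2, `j, k < 8`.  For `mz` six vectors.
-/

set_option autoImplicit false

namespace Cfsg.Agent.OddHalf.D4.Spor.LatData

open Cfsg Cfsg.Agent.LeechMat.Elements

def wy : List ℕ :=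
  [0x84a1094210841ce83a10841d284a10,
   0x842108421084210841908421484210,
   0x8424e84a5084210842527421094210,
   0x841d08420e8420e83a10939d084a10,
   0x7c5f17c5ef9c62f7be318c5ef8be31,
   0x84250841d083a50941d08421093a10,
   0x7c6318bdf18c5ef7c5f17c6318b631,
   0x8be317be2f7be337c6317be2f8c62f]

def ry : List ℕ :=
  [0x84210842108418c842108421084210,
   0x842108421084210841108421084210,
   0x842108421084210842948421084210,
   0x84210842108420c842108321084210,
   0x842108421084a4e7425284a1084250,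
   0x842108421083290a41908421084210,
   0x8421084210849ce741d284a1084250,
   0x842108421083a567425283a1084250]

def Yy : List ℕ :=
  [0x83a508420e84250842528421094250,
   0x7c5f17be2f8bdf18c6337bdf18be31,
   0x942108421074210842129424e841ce,
   0x84a129421084a109421074a10841d0,
   0x84250841d0841d294210849ce84210,
   0x84250942108421074a10941ce841d0,
   0x83a1083a1084210741d2941d0841d0,
   0x849d0849d084a10942107420e84210]

def wv : List ℕ :=
  [0x841ce8425274210842107425284210,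
   0x8421083a108421283a0e83a5284250,
   0x73a1074a108421083a108421094a12,
   0x83a0e849ce841d0842107421084250,
   0x93a1083a1094210741d08420e8420e,
   0x7be718c5ef7c6318c62f8c5ef7bdf1,
   0x84a1284250839d294a108421084210,
   0xa42108421084210842108421064210]

def rv : List ℕ :=
  [0x8418c8421084210842106429084210,
   0x842108421084214832108329084210,
   0x8321064210842108321084210a4210,
   0x8320c8421084190842106421084210,
   0x832108421084210642108421084210,
   0x83ad2942108425294a10949d074210,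
   0x852148421084194a52108421084210,
   0x842108421084210842108421044210]

def Yv : List ℕ :=
  [0x83a10842109425274250841d074210,
   0x8421283a129421084a107421094a10,
   0x839d0849d084a10742107420e84210,
   0x8425083a10841d2841ce841d083a10,
   0x842108425083a1093a1083a0e741d0,
   0x842108421084290842108421084290,
   0x83a10941d0841d0742508420e841d0,
   0x7be2f8c5f17be318c5b18c62f8c5f1]

def rz : List ℕ :=
  [0x842108421084210842108421065210,
   0x8421084210842108321084210a4210,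
   0x842108321084210852108421084210,
   0x842106521084210842108421084210,
   0x83210a421084210842108421084210,
   0x73a1094a108421084a108421094a12]

def ty : List ℕ := [42232, 115766, 180636, 198058, 208020, 231532, 301236, 361272, 427666, 463064, 475812, 504864, 560668, 628112, 692282, 722544, 742412, 762504, 792232, 804052, 843820, 855332, 861210, 884962, 919694, 926128, 951624, 1722420]

def tv : List ℕ :=
  [42232, 277580, 535268, 555160, 580704, 602472, 668866, 792232, 1060490, 1070536, 1121336, 1161408, 1192108, 1445088, 1573998, 1584464, 1608104, 1664160, 1710664, 1849378, 2101096, 2126890, 2168036, 2242672, 2268296, 2435240, 2624690, 2631052, 2664522, 2702848, 2769128, 2890176, 3147996, 3154402, 3168928, 3189796, 3351624, 3421328, 3444840, 3678776, 3698756, 3704512, 3739786, 3806496, 3951624]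

/-- the ten points off the dodecad and the pair -/
def m10 : ℕ := 508694

/-! ### Checks -/

open Cfsg.Agent.SporadicA.GolayBase Cfsg.Agent.SporadicA.GolayPerm
open Cfsg.Agent.Co2Type.Mono Cfsg.Agent.Co2Type.TData
open Cfsg.Agent.BabyM.CoTwoMod Cfsg.Agent.SporadicStructure.Co2RankThree
open Cfsg.Agent.SporadicA.Co0Mono (signCo0 signCo0_smul signMap_apply sgn_zero sgn_one)

theorem wy_leech : ∀ j : Fin 8, isLeech (wy.getD j 0) = true := by decide +kernel
theorem ry_leech : ∀ j : Fin 8, isLeech (ry.getD j 0) = true := by decide +kernel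
theorem Yy_leech : ∀ j : Fin 8, isLeech (Yy.getD j 0) = true := by decide +kernel
theorem wv_leech : ∀ j : Fin 8, isLeech (wv.getD j 0) = true := by decide +kernel
theorem rv_leech : ∀ j : Fin 8, isLeech (rv.getD j 0) = true := by decide +kernel
theorem Yv_leech : ∀ j : Fin 8, isLeech (Yv.getD j 0) = true := by decide +kernel
theorem rz_leech : ∀ j : Fin 6, isLeech (rz.getD j 0) = true := by decide +kernel

theorem ry_eq : ∀ j : Fin 8, ∀ k : Fin 24, sdig (ry.getD j 0) k =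
    if my.testBit k = true then 2 * sdig (wy.getD j 0) k else 0 := by decide +kernel
theorem rv_eq : ∀ j : Fin 8, ∀ k : Fin 24, sdig (rv.getD j 0) k =
    if mv.testBit k = true then 2 * sdig (wv.getD j 0) k else 0 := by decide +kernel

theorem wy_evn : ∀ j : Fin 8, (sdig (wy.getD j 0) 23 + sdig (wy.getD j 0) 0) % 4 = 0 := by decide +kernel
theorem wv_evn : ∀ j : Fin 8, (sdig (wv.getD j 0) 23 + sdig (wv.getD j 0) 0) % 4 = 0 := by decide +kernel
theorem Yy_evn : ∀ j : Fin 8, (sdig (Yy.getD j 0) 23 + sdig (Yy.getD j 0) 0) % 4 = 0 := by decide +kernel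
theorem Yv_evn : ∀ j : Fin 8, (sdig (Yv.getD j 0) 23 + sdig (Yv.getD j 0) 0) % 4 = 0 := by decide +kernel

theorem gram_y : ∀ j k : Fin 8, (dotc (Yy.getD k 0) (ry.getD j 0) - if k = j then 8 else 0) % 16 = 0 := by
  decide +kernel
theorem gram_v : ∀ j k : Fin 8, (dotc (Yv.getD k 0) (rv.getD j 0) - if k = j then 8 else 0) % 16 = 0 := by
  decide +kernel

theorem pos_eq_idx (p : GolayPt) : Cfsg.Agent.LeechMat.Code.pos p = idx p := by
  rcases p with _ | s <;> rfl

/-- the sign change in coordinates -/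
theorem coe_sign {m : ℕ} (hm : isCode m = true) (v : leechLattice) (p : GolayPt) :
    ((signCo0 (cd m) • v : leechLattice) : GolayPt → ℤ) p =
      if m.testBit (idx p) = true then -(v : GolayPt → ℤ) p else (v : GolayPt → ℤ) p := by
  rw [signCo0_smul, signMap_apply, coe_cd hm]
  unfold word
  by_cases h : m.testBit (idx p) = true
  · rw [if_pos h, if_pos h, sgn_one]; ring
  · rw [if_neg h, if_neg h, sgn_zero]; ring

/-- eight independent functionals vanishing on the vectors fixed by `A` modulo `rad a0` -/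
def Data (A : Co0) : Prop := ∃ w r Y : Fin 8 → leechLattice, (∀ j, w j ∈ evn a0) ∧ (∀ j, w j - A • w j = r j) ∧
  (∀ k, Y k ∈ evn a0) ∧ ∀ j k, (16 : ℤ) ∣ dt (Y k) (r j) - if k = j then 8 else 0

theorem evn_of_packed {n : ℕ} (h : isLeech n = true) (h4 : (sdig n 23 + sdig n 0) % 4 = 0) :
    (⟨vec n, isLeech_sound h⟩ : leechLattice) ∈ evn a0 := by
  rw [mem_evn, dt_a0]
  show (16 : ℤ) ∣ 4 * sdig n 23 + 4 * sdig n 0
  omega

theorem data_of {c : ℕ} (hc : isCode c = true) {ws rs Ys : List ℕ}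
    (h1 : ∀ j : Fin 8, isLeech (ws.getD j 0) = true) (h2 : ∀ j : Fin 8, isLeech (rs.getD j 0) = true)
    (h3 : ∀ j : Fin 8, isLeech (Ys.getD j 0) = true)
    (h4 : ∀ j : Fin 8, ∀ k : Fin 24, sdig (rs.getD j 0) k =
      if c.testBit k = true then 2 * sdig (ws.getD j 0) k else 0)
    (h5 : ∀ j : Fin 8, (sdig (ws.getD j 0) 23 + sdig (ws.getD j 0) 0) % 4 = 0)
    (h6 : ∀ j : Fin 8, (sdig (Ys.getD j 0) 23 + sdig (Ys.getD j 0) 0) % 4 = 0)
    (h7 : ∀ j k : Fin 8, (dotc (Ys.getD k 0) (rs.getD j 0) - if k = j then 8 else 0) % 16 = 0) :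
    Data (signCo0 (cd c)) := by
  refine ⟨fun j => ⟨vec (ws.getD j 0), isLeech_sound (h1 j)⟩, fun j => ⟨vec (rs.getD j 0), isLeech_sound (h2 j)⟩,
    fun j => ⟨vec (Ys.getD j 0), isLeech_sound (h3 j)⟩, fun j => evn_of_packed (h1 j) (h5 j), fun j => ?_,
    fun j => evn_of_packed (h3 j) (h6 j), fun j k => ?_⟩
  · apply Subtype.ext
    funext p
    have h8 := h4 j ⟨idx p, idx_lt p⟩
    have e1 : ∀ n : ℕ, vec n p = sdig n (idx p) := fun n => by rw [vec_apply, pos_eq_idx]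
    show vec (ws.getD j 0) p - ((signCo0 (cd c) • (⟨vec (ws.getD j 0), isLeech_sound (h1 j)⟩ : leechLattice) :
      leechLattice) : GolayPt → ℤ) p = vec (rs.getD j 0) p
    rw [coe_sign hc]
    show vec (ws.getD j 0) p - (if c.testBit (idx p) = true then -vec (ws.getD j 0) p else vec (ws.getD j 0) p) = _
    rw [e1, e1, h8]
    split_ifs <;> ring
  · show (16 : ℤ) ∣ dotInt (vec (Ys.getD k 0)) (vec (rs.getD j 0)) - _
    rw [← dotc_eq]
    exact Int.dvd_of_emod_eq_zero (h7 j k)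

theorem isCode_my : isCode my = true := by decide +kernel
theorem isCode_mv : isCode _root_.Cfsg.Agent.Co2Type.TData.mv = true := by decide +kernel
theorem isCode_mz : isCode mz = true := by decide +kernel

theorem data_y : Data (signCo0 (cd my)) :=
  data_of isCode_my wy_leech ry_leech Yy_leech ry_eq wy_evn Yy_evn gram_y

theorem data_v : Data (signCo0 (cd _root_.Cfsg.Agent.Co2Type.TData.mv)) :=
  data_of isCode_mv wv_leech rv_leech Yv_leech rv_eq wv_evn Yv_evn gram_v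

/-! ### Pairs of points -/

theorem ty_spec : ∀ i j : Fin 24, my.testBit i = true → my.testBit j = true → i ≠ j →
    ∃ m ∈ ty, isCode m = true ∧ Nat.land m my = Nat.lor (2 ^ i.1) (2 ^ j.1) ∧ m.testBit 0 = m.testBit 23 := by
  decide +kernel

theorem tv_spec : ∀ i j : Fin 24, m10.testBit i = true → m10.testBit j = true → i ≠ j →
    ∃ m ∈ tv, isCode m = true ∧ Nat.land m (Nat.xor 16777215 _root_.Cfsg.Agent.Co2Type.TData.mv) = Nat.lor (2 ^ i.1) (2 ^ j.1) := by
  decide +kernel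

theorem m10_spec : ∀ k : Fin 24, m10.testBit k = true → mv.testBit k = false ∧ k.1 ≠ 0 ∧ k.1 ≠ 23 := by
  decide +kernel

end Cfsg.Agent.OddHalf.D4.Spor.LatData
end

-- part: OddHalf/D4/Spor/LatFour
section
/-!
# Four-groups of `Co2` on `evn l / rad l`

`noTriple` : there is no four-group `{1, g, h, g h}` of `Co0` fixing a minimal vector `l` such that for all ordered
pairs `(A, B)` of its involutions (one) of two vectors fixed by `A` modulo `rad l` one or the sum is fixed by `B`,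
(two) the commutators `A y - y` with norm divisible by 32 are fixed by `B`.

Proof: by (one) either all three or none is of trace `-8` (`noMix`, by counting: eight functionals for the octad and the
dodecad, six for the complement of an octad).  Trace `8`, `0`: `B` is a scalar on the `e_i` for the `i` in the octad
resp. off the dodecad, by (two), and the traces of `B`, `A B` are contradictory.
-/

set_option autoImplicit false

namespace Cfsg.Agent.OddHalf.D4.Spor.LatFour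

open Cfsg Cfsg.Agent Cfsg.Agent.BabyM.CoTwoMod Cfsg.Agent.SporadicStructure.Co2RankThree
open Cfsg.Agent.OddHalf.D4.Spor.LatTwo Cfsg.Agent.OddHalf.D4.Spor.LatData
open Cfsg.Agent.SporadicA.GolayBase Cfsg.Agent.SporadicA.GolayPerm Cfsg.Agent.SporadicStructure.M24El
open Cfsg.Agent.Co2Type.Mono Cfsg.Agent.Co2Type.TData
open Cfsg.Agent.SporadicA.Co0Mono (signCo0 signCo0_mul_self)

local notation "e8" => Cfsg.Agent.SporadicA.Co0Basic.e8

/-! ### Vectors fixed modulo `rad u` -/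

/-- the vectors fixed modulo `rad u` by `B` -/
def Fr (u : leechLattice) (B : Co0) : AddSubgroup leechLattice where
  carrier := {y | B • y - y ∈ rad u}
  add_mem' := fun {a b} ha hb => by
    change B • (a + b) - (a + b) ∈ rad u
    have : B • (a + b) - (a + b) = (B • a - a) + (B • b - b) := by rw [smul_add']; abel
    rw [this]
    exact add_mem ha hb
  zero_mem' := by
    change B • (0 : leechLattice) - 0 ∈ rad u
    have : B • (0 : leechLattice) = 0 := (SporadicA.Co0Basic.toHom B).map_zero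
    rw [this, sub_zero]
    exact zero_mem _
  neg_mem' := fun {a} ha => by
    change B • (-a) - (-a) ∈ rad u
    have : B • (-a) - (-a) = -(B • a - a) := by rw [smul_neg']; abel
    rw [this]
    exact neg_mem ha

theorem mem_Fr {u : leechLattice} {B : Co0} {y : leechLattice} : y ∈ Fr u B ↔ B • y - y ∈ rad u := Iff.rfl

theorem two_mem_Fr (u : leechLattice) (B : Co0) (y : leechLattice) : 2 • y ∈ Fr u B := by
  rw [mem_Fr, smul_two]
  have : 2 • (B • y) - 2 • y = 2 • (B • y - y) := by rw [two_smul, two_smul, two_smul]; abel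
  rw [this]
  exact two_smul_mem_rad _ _

/-! ### Transport -/

/-- what `C_Q(a) ≤ C_Q(b)` gives for the elements `A`, `B` of `Co₀` (as in `BabyHyp`) -/
def Pr (l : leechLattice) (A B : Co0) : Prop :=
  (∀ y ∈ evn l, ∀ y' ∈ evn l, A • y - y ∈ rad l → A • y' - y' ∈ rad l →
      B • y - y ∈ rad l ∨ B • y' - y' ∈ rad l ∨ B • (y + y') - (y + y') ∈ rad l) ∧
    (∀ y ∈ evn l, (32 : ℤ) ∣ dt (A • y - y) (A • y - y) → B • (A • y - y) - (A • y - y) ∈ rad l)

/-- no four-group (as in `BabyHyp`) -/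
def NoTriple (l : leechLattice) : Prop :=
  ∀ g h : Co0, g • l = l → h • l = l → g * g = 1 → h * h = 1 → g * h = h * g → g ≠ 1 → h ≠ 1 → g * h ≠ 1 →
    Pr l g h → Pr l h g → Pr l g (g * h) → Pr l (g * h) g → Pr l h (g * h) → Pr l (g * h) h → False

theorem smul_rad {k : Co0} {u v : leechLattice} (hk : k • u = v) {x : leechLattice} (hx : x ∈ rad u) :
    k • x ∈ rad v := by
  obtain ⟨z, rfl | rfl⟩ := mem_rad.1 hx
  · rw [smul_two]; exact two_smul_mem_rad v _
  · rw [smul_add', smul_two, hk]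
    exact add_mem (two_smul_mem_rad v _) (self_mem_rad v)

theorem smul_rad_iff {k : Co0} {u v : leechLattice} (hk : k • u = v) {x : leechLattice} :
    k • x ∈ rad v ↔ x ∈ rad u := by
  refine ⟨fun h => ?_, smul_rad hk⟩
  have h1 := smul_rad (k := k⁻¹) (u := v) (v := u) (by rw [← hk, inv_smul_smul]) h
  rwa [inv_smul_smul] at h1

theorem smul_evn_iff {k : Co0} {u v : leechLattice} (hk : k • u = v) {x : leechLattice} :
    k • x ∈ evn v ↔ x ∈ evn u := by
  rw [mem_evn, mem_evn, ← hk, dt_smul]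

theorem conj_smul (k A : Co0) (x : leechLattice) : (k * A * k⁻¹) • (k • x) = k • (A • x) := by
  rw [mul_smul, mul_smul, inv_smul_smul]

theorem conj_sub (k A : Co0) (x : leechLattice) :
    (k * A * k⁻¹) • (k • x) - k • x = k • (A • x - x) := by
  rw [conj_smul, smul_sub']

theorem Pr.conj {u v : leechLattice} {A B k : Co0} (hk : k • u = v) (h : Pr u A B) :
    Pr v (k * A * k⁻¹) (k * B * k⁻¹) := by
  have e : ∀ y : leechLattice, k • (k⁻¹ • y) = y := fun y => smul_inv_smul k y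
  have he : ∀ y : leechLattice, y ∈ evn v ↔ k⁻¹ • y ∈ evn u := fun y => by
    rw [← smul_evn_iff hk, e]
  have hr : ∀ (C : Co0) (y : leechLattice), (k * C * k⁻¹) • y - y ∈ rad v ↔ C • (k⁻¹ • y) - k⁻¹ • y ∈ rad u :=
    fun C y => by rw [← smul_rad_iff hk, ← conj_sub, e]
  constructor
  · intro y hy y' hy' h1 h2
    rw [hr, hr, hr, smul_add']
    exact h.1 _ ((he y).1 hy) _ ((he y').1 hy') ((hr A y).1 h1) ((hr A y').1 h2)
  · intro y hy h1
    have e1 : (k * A * k⁻¹) • y - y = k • (A • (k⁻¹ • y) - k⁻¹ • y) := by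
      rw [← conj_sub, e]
    rw [e1] at h1 ⊢
    rw [hr, inv_smul_smul]
    exact h.2 _ ((he y).1 hy) (by rwa [dt_smul] at h1)

/-! ### The classes -/

/-- the type of an element fixing `a0` -/
def Ty (m : ℕ) (x : Co0) : Prop := ∃ k : Co0, k • a0 = a0 ∧ k * x * k⁻¹ = signCo0 (cd m)

theorem mo_idP {m : ℕ} (hm : inE m = true) : Co2Type.Mono.toCo0 (mo2 m idP) = signCo0 (cd m) := by
  rw [toCo0_mo2 hm okP_idP]
  have h1 := mo_one
  unfold mo at h1 ⊢
  rw [cd_zero, SporadicA.Co0Mono.signCo0_zero, one_mul] at h1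
  rw [h1, mul_one]

theorem types {x : Co0} (hxa : x • a0 = a0) (hx : x * x = 1) (hx1 : x ≠ 1) : Ty mz x ∨ Ty my x ∨ Ty mv x := by
  obtain ⟨x', hx'⟩ := exists_toCo0 (g := x) hxa
  have h1 : x' * x' = 1 := toCo0_injective (by rw [map_mul, hx', hx, map_one])
  have h2 : x' ≠ 1 := by rintro rfl; rw [map_one] at hx'; exact hx1 hx'.symm
  have key : ∀ m, inE m = true → IsConj (mo2 m idP) x' → Ty m x := by
    intro m hm hc
    obtain ⟨c, hc⟩ := isConj_iff.1 hc.symm
    refine ⟨Co2Type.Mono.toCo0 c, toCo0_smul c, ?_⟩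
    rw [← hx', ← map_inv, ← map_mul, ← map_mul, hc, mo_idP hm]
  rcases Co2Type.FactsClass.classes h1 h2 with h | h | h
  · exact Or.inl (key _ (by decide +kernel) h)
  · exact Or.inr (Or.inl (key _ (by decide +kernel) h))
  · exact Or.inr (Or.inr (key _ (by decide +kernel) h))

theorem tr8_sign {m : ℕ} (hm : inE m = true) : tr8 (signCo0 (cd m)) = 8 * (24 - 2 * (popcount m : ℤ)) := by
  have h1 := mo_idP hm
  rw [toCo0_mo2 hm okP_idP] at h1
  rw [← h1, tr8_mo (isCode_of_inE hm) (ok_of_okP okP_idP), Co2Type.FactsClass.trN_idP hm]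

theorem tr8_ty {m : ℕ} (hm : inE m = true) {x : Co0} (h : Ty m x) : tr8 x = 8 * (24 - 2 * (popcount m : ℤ)) := by
  obtain ⟨k, -, hk⟩ := h
  rw [← tr8_sign hm, ← hk, tr8_conj]

theorem tr8_z {x : Co0} (h : Ty mz x) : tr8 x = -64 := by
  rw [tr8_ty (by decide +kernel) h, show popcount mz = 16 by decide +kernel]; norm_num

theorem tr8_y {x : Co0} (h : Ty my x) : tr8 x = 64 := by
  rw [tr8_ty (by decide +kernel) h, show popcount my = 8 by decide +kernel]; norm_num

theorem tr8_v {x : Co0} (h : Ty mv x) : tr8 x = 0 := by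
  rw [tr8_ty (by decide +kernel) h, show popcount mv = 12 by decide +kernel]; norm_num

/-! ### Many incongruent vectors -/

theorem dt_fixed {A : Co0} (hA : A * A = 1) {y w : leechLattice} (hy : A • y - y ∈ rad a0) (hw : w ∈ evn a0) :
    (16 : ℤ) ∣ dt y (w - A • w) := by
  have h1 : dt y (A • w) = dt (A • y) w := by
    have h2 := dt_smul A (A • y) w
    rw [smul_smul, hA, one_smul] at h2
    exact h2
  have h3 : dt y (w - A • w) = -dt (A • y - y) w := by
    rw [dt_sub_right, dt_sub_left, h1]; ring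
  rw [h3, Int.dvd_neg]
  rw [mem_evn] at hw
  obtain ⟨z, hz | hz⟩ := mem_rad.1 hy
  · rw [hz, dt_comm, dt_two_smul_right]
    obtain ⟨t, ht⟩ := eight_dvd_dt w z
    exact ⟨t, by rw [ht]; ring⟩
  · rw [hz, dt_add_left, dt_comm (2 • z) w, dt_two_smul_right]
    obtain ⟨t, ht⟩ := eight_dvd_dt w z
    obtain ⟨s, hs⟩ := hw
    exact ⟨t + s, by rw [ht, hs]; ring⟩

theorem many {A : Co0} (D : Data A) (hA : A * A = 1) : ∃ F : (Fin 8 → Bool) → leechLattice,
    (∀ s, F s ∈ evn a0) ∧ ∀ s t, A • (F s - F t) - (F s - F t) ∈ rad a0 → s = t := by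
  obtain ⟨w, r, Y, hw, hr, hY, hg⟩ := D
  refine ⟨fun s => ∑ k, if s k then Y k else 0, fun s => ?_, fun s t hst => ?_⟩
  · refine AddSubgroup.sum_mem _ fun k _ => ?_
    split_ifs
    · exact hY k
    · exact zero_mem _
  · let φ : Fin 8 → leechLattice →+ ℤ := fun j =>
      { toFun := fun y => dt y (r j)
        map_zero' := by rw [dt_comm, dt_zero_right]
        map_add' := fun a b => dt_add_left a b _ }
    have h1 : ∀ (s : Fin 8 → Bool) (j : Fin 8),
        (16 : ℤ) ∣ dt (∑ k, if s k then Y k else 0) (r j) - if s j then 8 else 0 := by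
      intro s j
      have e1 : dt (∑ k, if s k then Y k else 0) (r j) = ∑ k, if s k then dt (Y k) (r j) else 0 := by
        show φ j _ = _
        rw [map_sum]
        refine Finset.sum_congr rfl fun k _ => ?_
        by_cases h : s k = true
        · rw [if_pos h, if_pos h]; rfl
        · rw [if_neg h, if_neg h, map_zero]
      have e2 : (if s j then (8 : ℤ) else 0) = ∑ k, if s k then (if k = j then (8 : ℤ) else 0) else 0 := by
        rw [Finset.sum_eq_single j]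
        · rw [if_pos rfl]
        · intro k _ hk
          rw [if_neg hk]; split_ifs <;> rfl
        · intro h; exact absurd (Finset.mem_univ j) h
      rw [e1, e2, ← Finset.sum_sub_distrib]
      refine Finset.dvd_sum fun k _ => ?_
      by_cases h : s k = true
      · rw [if_pos h, if_pos h]; exact hg j k
      · rw [if_neg h, if_neg h, sub_zero]; exact dvd_zero _
    funext j
    have h2 := dt_fixed hA hst (hw j)
    rw [hr j, dt_sub_left] at h2
    have h3 := h1 s j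
    have h4 := h1 t j
    by_contra hne
    change (16 : ℤ) ∣ dt (∑ k, if s k then Y k else 0) (r j) - dt (∑ k, if t k then Y k else 0) (r j) at h2
    have key : ∀ (a b : Bool) (x y : ℤ), a ≠ b → (16 : ℤ) ∣ x - y → (16 : ℤ) ∣ x - (if a then 8 else 0) →
        (16 : ℤ) ∣ y - (if b then 8 else 0) → False := by
      intro a b x y hab h5 h6 h7
      cases a <;> cases b
      · exact hab rfl
      · simp only [if_true, Bool.false_eq_true, if_false] at h6 h7; omega
      · simp only [if_true, Bool.false_eq_true, if_false] at h6 h7; omega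
      · exact hab rfl
    exact key _ _ _ _ hne h2 h3 h4

/-! ### The complement of an octad -/

/-- the six vectors -/
def rzv (j : Fin 6) : leechLattice := ⟨LeechMat.Elements.vec (rz.getD j 0), LeechMat.Elements.isLeech_sound (rz_leech j)⟩

theorem sum24 (f : GolayPt → ℤ) : ∑ p, f p = ∑ k ∈ Finset.range 24, f (LeechMat.Code.pt k) :=
  LeechMat.Elements.sum_points' f

theorem rz_sum (y : leechLattice) (j : Fin 6) : dt y (rzv j) =
    ∑ k ∈ Finset.range 24, (y : GolayPt → ℤ) (LeechMat.Code.pt k) * LeechMat.Elements.sdig (rz.getD j 0) k := by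
  show dotInt (y : GolayPt → ℤ) (LeechMat.Elements.vec (rz.getD j 0)) = _
  unfold dotInt
  rw [sum24]
  refine Finset.sum_congr rfl fun k hk => ?_
  rw [LeechMat.Elements.vec_apply, LeechMat.Code.pos_pt k (Finset.mem_range.1 hk)]

/-- the points of the octad -/
def mO : ℕ := 13370381

theorem isCode_mO : isCode mO = true := by decide +kernel

theorem mO_eq : ∀ k : Fin 24, mO.testBit k = !mz.testBit k := by decide +kernel

theorem mO_cover : ∀ k : Fin 24, mO.testBit k.1 = true ↔ k.1 = 0 ∨ k.1 = 2 ∨ k.1 = 3 ∨ k.1 = 10 ∨ k.1 = 18 ∨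
    k.1 = 19 ∨ k.1 = 22 ∨ k.1 = 23 := by decide +kernel

theorem rz_list (y : leechLattice) (j : Fin 6) (L : List ℤ)
    (hL : ∀ k : Fin 24, LeechMat.Elements.sdig (rz.getD j 0) k = L.getD k 0) : dt y (rzv j) =
    ∑ k ∈ Finset.range 24, (y : GolayPt → ℤ) (LeechMat.Code.pt k) * L.getD k 0 := by
  rw [rz_sum]
  refine Finset.sum_congr rfl fun k hk => ?_
  rw [hL ⟨k, Finset.mem_range.1 hk⟩]

/-- The conditions in coordinates. -/
theorem rz_conds {y : leechLattice} (hy : y ∈ evn a0) (h : ∀ j : Fin 6, (16 : ℤ) ∣ dt y (rzv j))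
    {f : ℕ → ℤ} (hf : ∀ k, f k = (y : GolayPt → ℤ) (LeechMat.Code.pt k)) :
    (f 2 - f 3) % 4 = 0 ∧ (f 3 - f 10) % 4 = 0 ∧ (f 10 - f 18) % 4 = 0 ∧ (f 18 - f 19) % 4 = 0 ∧
    (f 19 - f 22) % 4 = 0 ∧ (f 0 + f 2 + f 3 + f 10 + f 18 + f 19 - f 22 - f 23) % 8 = 0 ∧ (f 0 + f 23) % 4 = 0 := by
  have h0 := h 0
  have h1 := h 1
  have h2 := h 2
  have h3 := h 3
  have h4 := h 4
  have h5 := h 5
  rw [rz_list y 0 [0, 0, 4, -4] (by decide +kernel)] at h0
  rw [rz_list y 1 [0, 0, 0, 4, 0, 0, 0, 0, 0, 0, -4] (by decide +kernel)] at h1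
  rw [rz_list y 2 [0, 0, 0, 0, 0, 0, 0, 0, 0, 0, 4, 0, 0, 0, 0, 0, 0, 0, -4] (by decide +kernel)] at h2
  rw [rz_list y 3 [0, 0, 0, 0, 0, 0, 0, 0, 0, 0, 0, 0, 0, 0, 0, 0, 0, 0, 4, -4] (by decide +kernel)] at h3
  rw [rz_list y 4 [0, 0, 0, 0, 0, 0, 0, 0, 0, 0, 0, 0, 0, 0, 0, 0, 0, 0, 0, 4, 0, 0, -4] (by decide +kernel)] at h4
  rw [rz_list y 5 [2, 0, 2, 2, 0, 0, 0, 0, 0, 0, 2, 0, 0, 0, 0, 0, 0, 0, 2, 2, 0, 0, -2, -2] (by decide +kernel)] at h5
  simp only [Finset.sum_range_succ, Finset.sum_range_zero, List.getD_cons_zero, List.getD_cons_succ, List.getD_nil,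
    mul_zero, zero_add, add_zero, ← hf] at h0 h1 h2 h3 h4 h5
  rw [mem_evn, dt_a0] at hy
  have e1 : (y : GolayPt → ℤ) none = f 23 := by rw [hf]; rfl
  have e2 : (y : GolayPt → ℤ) (some 0) = f 0 := by rw [hf]; rfl
  rw [e1, e2] at hy
  refine ⟨by omega, by omega, by omega, by omega, by omega, by (clear * - h5; omega), by omega⟩

/-- a sum over the octad -/
theorem sum_mO (g : ℕ → ℤ) : ∑ k ∈ Finset.range 24, (if mO.testBit k = true then g k else 0) =
    g 0 + g 2 + g 3 + g 10 + g 18 + g 19 + g 22 + g 23 := by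
  have e' : ∀ k ∈ Finset.range 24, (if mO.testBit k = true then g k else 0) =
      if (k = 0 ∨ k = 2 ∨ k = 3 ∨ k = 10 ∨ k = 18 ∨ k = 19 ∨ k = 22 ∨ k = 23) then g k else 0 := by
    intro k hk
    have := mO_cover ⟨k, Finset.mem_range.1 hk⟩
    by_cases h5 : mO.testBit k = true
    · rw [if_pos h5, if_pos (this.1 h5)]
    · rw [if_neg h5, if_neg (fun h => h5 (this.2 h))]
  rw [Finset.sum_congr rfl e']
  simp only [Finset.sum_range_succ, _root_.Finset.range_one, _root_.Finset.sum_singleton, _root_.OfNat.zero_ne_ofNat, _root_.or_self, _root_.or_false, ↓ _root_.reduceIte, _root_.one_ne_zero, _root_.OfNat.one_ne_ofNat, _root_.add_zero, _root_.OfNat.ofNat_ne_zero, _root_.Nat.reduceEqDiff, _root_.or_true, _root_.Nat.succ_ne_self]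

theorem idx_pt' {k : ℕ} (hk : k < 24) : idx (LeechMat.Code.pt k) = k := by
  rw [← pos_eq_idx, LeechMat.Code.pos_pt k hk]

theorem pt_idx' (p : GolayPt) : LeechMat.Code.pt (idx p) = p := by
  rw [← pos_eq_idx, LeechMat.Code.pt_pos]

theorem ar1 {a b : ℤ} (ha : a % 2 = 0) (hb : b % 2 = 0) (h : ¬ (a - b) % 4 = 0) : (a - 2 - b) % 4 = 0 := by omega

theorem ar2 {a b c : ℤ} (h : (a - b) % 4 = 0) (h' : (c - a) % 4 = 0) : (c - b) % 4 = 0 := by omega

theorem ar3 {a b : ℤ} (h : (a - b) % 4 = 0) : (b - a) % 4 = 0 := by omega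

theorem ar4 {a b : ℤ} (h : (a - b) % 4 = 0) (hb : b % 2 = 0) : a % 2 = 0 := by omega

theorem ar5 {f0 f2 f22 f23 s : ℤ} (h1 : (f22 - f2) % 4 = 0) (h2 : (f0 + f23) % 4 = 0) (h3 : (f0 - s - f2) % 4 = 0)
    (hs : s % 2 = 0) : (f22 + f23 - s) % 4 = 0 := by omega

theorem ar6 {A B : ℤ} (h1 : A % 8 = 0) (h2 : B % 4 = 0) : (A + 2 * B) % 8 = 0 := by omega

theorem ar7 {f0 f23 f2 s : ℤ} (h2 : (f0 + f23) % 4 = 0) (h3 : (f0 - s - f2) % 4 = 0) (hs : s % 2 = 0)
    (h4 : f2 % 2 = 0) : (f23 - s - f2) % 4 = 0 := by omega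

theorem ar8 {a b : ℤ} (h : (a - b) % 4 = 0) (hb : b % 4 = 2) : a % 4 = 2 := by omega

/-- the lattice vector on the octad -/
theorem exists_x {f : ℕ → ℤ} (c1 : (f 2 - f 3) % 4 = 0) (c2 : (f 3 - f 10) % 4 = 0) (c3 : (f 10 - f 18) % 4 = 0)
    (c4 : (f 18 - f 19) % 4 = 0) (c5 : (f 19 - f 22) % 4 = 0)
    (c6 : (f 0 + f 2 + f 3 + f 10 + f 18 + f 19 - f 22 - f 23) % 8 = 0) (c7 : (f 0 + f 23) % 4 = 0)
    (hev : ∀ k < 24, f k % 2 = 0) : ∃ s : ℤ, (s = 0 ∨ s = 2) ∧ ∃ x : leechLattice,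
      ∀ p, (x : GolayPt → ℤ) p = if mO.testBit (idx p) = true then
        f (idx p) - (if idx p = 0 ∨ idx p = 23 then s else 0) else 0 := by
  have e0 := hev 0 (by norm_num)
  have e2 := hev 2 (by norm_num)
  have d3 : (f 3 - f 2) % 4 = 0 := ar3 c1
  have d10 : (f 10 - f 2) % 4 = 0 := ar2 d3 (ar3 c2)
  have d18 : (f 18 - f 2) % 4 = 0 := ar2 d10 (ar3 c3)
  have d19 : (f 19 - f 2) % 4 = 0 := ar2 d18 (ar3 c4)
  have d22 : (f 22 - f 2) % 4 = 0 := ar2 d19 (ar3 c5)
  obtain ⟨s, hs, hs2⟩ : ∃ s : ℤ, (s = 0 ∨ s = 2) ∧ (f 0 - s - f 2) % 4 = 0 := by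
    by_cases h1 : (f 0 - f 2) % 4 = 0
    · exact ⟨0, Or.inl rfl, by rw [sub_zero]; exact h1⟩
    · exact ⟨2, Or.inr rfl, ar1 e0 e2 h1⟩
  have hs3 : s % 2 = 0 := by rcases hs with rfl | rfl <;> rfl
  refine ⟨s, hs, ?_⟩
  obtain ⟨x, hx⟩ : ∃ x : GolayPt → ℤ, ∀ p, x p = if mO.testBit (idx p) = true then
        f (idx p) - (if idx p = 0 ∨ idx p = 23 then s else 0) else 0 := ⟨_, fun p => rfl⟩
  have hx4 : ∀ p, mO.testBit (idx p) = true → (x p - f 2) % 4 = 0 := by
    intro p hp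
    rw [hx, if_pos hp]
    have hc := (mO_cover ⟨idx p, idx_lt p⟩).1 hp
    simp only at hc
    generalize idx p = k at hc
    rcases hc with rfl | rfl | rfl | rfl | rfl | rfl | rfl | rfl
    · rw [if_pos (Or.inl rfl)]; exact hs2
    · rw [if_neg (by norm_num), sub_zero, sub_self]; rfl
    · rw [if_neg (by norm_num), sub_zero]; exact d3
    · rw [if_neg (by norm_num), sub_zero]; exact d10
    · rw [if_neg (by norm_num), sub_zero]; exact d18
    · rw [if_neg (by norm_num), sub_zero]; exact d19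
    · rw [if_neg (by norm_num), sub_zero]; exact d22
    · rw [if_pos (Or.inr rfl)]; exact ar7 c7 hs2 hs3 e2
  have hx2 : ∀ p, x p % 2 = 0 := by
    intro p
    by_cases hp : mO.testBit (idx p) = true
    · exact ar4 (hx4 p hp) e2
    · rw [hx, if_neg hp]; norm_num
  have hxL : x ∈ leechSet := by
    rw [Leech.Norm.mem_iff_of_even hx2]
    constructor
    · rw [sum24]
      have e : ∀ k ∈ Finset.range 24, x (LeechMat.Code.pt k) = if mO.testBit k = true then
          (fun k => f k - (if k = 0 ∨ k = 23 then s else 0)) k else 0 := by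
        intro k hk
        rw [hx, idx_pt' (Finset.mem_range.1 hk)]
      rw [Finset.sum_congr rfl e, sum_mO]
      have h1 := ar6 c6 (ar5 d22 c7 hs2 hs3)
      have h2 : ∀ t : ℤ, t = f 0 + f 2 + f 3 + f 10 + f 18 + f 19 - f 22 - f 23 + 2 * (f 22 + f 23 - s) →
          t % 8 = 0 := fun t ht => by rw [ht]; exact h1
      refine h2 _ ?_
      norm_num only [_root_.or_false, _root_.ite_true, _root_.or_self, _root_.ite_false, _root_.sub_zero, _root_.or_true]
      ring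
    · by_cases h2 : f 2 % 4 = 2
      · have : (Finset.univ.filter fun i => x i % 4 = 2) = fin mO := by
          ext p
          rw [Finset.mem_filter, mem_fin]
          constructor
          · rintro ⟨-, hp⟩
            by_contra hcon
            rw [hx, if_neg hcon] at hp
            norm_num at hp
          · intro hp
            have := hx4 p hp
            exact ⟨Finset.mem_univ _, ar8 this h2⟩
        rw [this, Leech.Norm.mem_GS_iff]
        have h3 := word_mem isCode_mO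
        convert h3 using 1
        funext p
        unfold Leech.Norm.indic word
        by_cases h4 : mO.testBit (idx p) = true
        · rw [if_pos (mem_fin.2 h4), if_pos h4]
        · rw [if_neg (fun h => h4 (mem_fin.1 h)), if_neg h4]
      · have : (Finset.univ.filter fun i => x i % 4 = 2) = ∅ := by
          rw [Finset.filter_eq_empty_iff]
          intro p _ hp
          by_cases h3 : mO.testBit (idx p) = true
          · exact h2 (ar8 (ar3 (hx4 p h3)) hp)
          · rw [hx, if_neg h3] at hp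
            norm_num at hp
        rw [this]
        exact Leech.Norm.empty_mem_GS
  exact ⟨⟨x, (SporadicA.LeechSet.mem_leechLattice_iff _).2 hxL⟩, hx⟩

theorem ar9 {a b : ℤ} (h : (a - b) % 4 = 0) (hb : b % 4 = 3) : a % 4 = 3 := by omega

theorem ar10 {a b : ℤ} (h : (a + b) % 4 = 0) (ha : a % 4 = 3) : ¬ b % 4 = 3 := by omega

theorem ar11 {a b : ℤ} (h : (a + b) % 4 = 0) (ha : ¬ a % 4 = 3) (ha2 : a % 2 = 1) : b % 4 = 3 := by omega

/-- no odd vector satisfies the conditions -/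
theorem not_odd {y : GolayPt → ℤ} (hyL : y ∈ leechSet) {f : ℕ → ℤ} (hf : ∀ p, y p = f (idx p))
    (c1 : (f 2 - f 3) % 4 = 0) (c2 : (f 3 - f 10) % 4 = 0) (c3 : (f 10 - f 18) % 4 = 0)
    (c4 : (f 18 - f 19) % 4 = 0) (c5 : (f 19 - f 22) % 4 = 0) (c7 : (f 0 + f 23) % 4 = 0)
    (hodd : ∀ p, y p % 2 = 1) : False := by
  have h1 := ((Leech.Norm.mem_iff_of_odd hodd).1 hyL).2
  have h2 : fin mO ∈ Leech.Norm.GS := by
    rw [Leech.Norm.mem_GS_iff]
    have h3 := word_mem isCode_mO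
    convert h3 using 1
    funext p
    unfold Leech.Norm.indic word
    by_cases h4 : mO.testBit (idx p) = true
    · rw [if_pos (mem_fin.2 h4), if_pos h4]
    · rw [if_neg (fun h => h4 (mem_fin.1 h)), if_neg h4]
  have h3 := Leech.Code.even_inter h1 h2
  have h4 : (((Finset.univ.filter fun i => y i % 4 = 3) ∩ fin mO).card : ℤ) =
      ∑ k ∈ Finset.range 24, (if mO.testBit k = true then (fun k => if f k % 4 = 3 then (1 : ℤ) else 0) k else 0) := by
    have e1 : (Finset.univ.filter fun i => y i % 4 = 3) ∩ fin mO =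
        Finset.univ.filter fun p => y p % 4 = 3 ∧ mO.testBit (idx p) = true := by
      ext p
      rw [Finset.mem_inter, Finset.mem_filter, Finset.mem_filter, mem_fin]
      exact ⟨fun h => ⟨h.1.1, h.1.2, h.2⟩, fun h => ⟨⟨h.1, h.2.1⟩, h.2.2⟩⟩
    rw [e1, Finset.card_filter, Nat.cast_sum, sum24]
    refine Finset.sum_congr rfl fun k hk => ?_
    rw [hf, idx_pt' (Finset.mem_range.1 hk)]
    by_cases h5 : mO.testBit k = true <;> by_cases h6 : f k % 4 = 3 <;> simp [h5, h6]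
  rw [sum_mO] at h4
  have o : ∀ k < 24, f k % 2 = 1 := by
    intro k hk
    have := hodd (LeechMat.Code.pt k)
    rwa [hf, idx_pt' hk] at this
  have o0 := o 0 (by norm_num)
  have o2 := o 2 (by norm_num)
  obtain ⟨q, hq⟩ := h3
  have h5 : (((Finset.univ.filter fun i => y i % 4 = 3) ∩ fin mO).card : ℤ) = q + q := by
    rw [hq]; push_cast; ring
  rw [h5] at h4
  have d3 : (f 3 - f 2) % 4 = 0 := ar3 c1
  have d10 : (f 10 - f 2) % 4 = 0 := ar2 d3 (ar3 c2)
  have d18 : (f 18 - f 2) % 4 = 0 := ar2 d10 (ar3 c3)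
  have d19 : (f 19 - f 2) % 4 = 0 := ar2 d18 (ar3 c4)
  have d22 : (f 22 - f 2) % 4 = 0 := ar2 d19 (ar3 c5)
  have g : ∀ k, (f k - f 2) % 4 = 0 → (if f k % 4 = 3 then (1 : ℤ) else 0) = if f 2 % 4 = 3 then 1 else 0 := by
    intro k hk
    by_cases h : f 2 % 4 = 3
    · rw [if_pos h, if_pos (ar9 hk h)]
    · rw [if_neg h, if_neg (fun h' => h (ar9 (ar3 hk) h'))]
  have h6 : (if f 0 % 4 = 3 then (1 : ℤ) else 0) + (if f 23 % 4 = 3 then (1 : ℤ) else 0) = 1 := by
    by_cases h : f 0 % 4 = 3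
    · rw [if_pos h, if_neg (ar10 c7 h)]; norm_num
    · rw [if_neg h, if_pos (ar11 c7 h o0)]; norm_num
  have h7 : (q : ℤ) + q = 1 + 6 * (if f 2 % 4 = 3 then 1 else 0) := by
    rw [h4, g 3 d3, g 10 d10, g 18 d18, g 19 d19, g 22 d22]
    linarith only [h6]
  split_ifs at h7 <;> omega

theorem z_fixed {y : leechLattice} (hy : y ∈ evn a0) (h : ∀ j : Fin 6, (16 : ℤ) ∣ dt y (rzv j)) :
    signCo0 (cd mz) • y - y ∈ rad a0 := by
  obtain ⟨f, hf⟩ : ∃ f : ℕ → ℤ, ∀ k, f k = (y : GolayPt → ℤ) (LeechMat.Code.pt k) := ⟨_, fun k => rfl⟩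
  have hf' : ∀ p, (y : GolayPt → ℤ) p = f (idx p) := fun p => by rw [hf, pt_idx']
  obtain ⟨c1, c2, c3, c4, c5, c6, c7⟩ := rz_conds hy h hf
  have hyL : (y : GolayPt → ℤ) ∈ leechSet := (SporadicA.LeechSet.mem_leechLattice_iff _).1 y.2
  rcases Leech.Norm.parity_of_mem hyL with hev | hodd
  · obtain ⟨s, hs, x, hx⟩ := exists_x c1 c2 c3 c4 c5 c6 c7 (fun k _ => by rw [hf]; exact hev _)
    rw [mem_rad]
    refine ⟨x - y, ?_⟩
    have ca0 : ∀ p, (a0 : GolayPt → ℤ) p = if idx p = 0 ∨ idx p = 23 then 4 else 0 := leechU_apply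
    have key : ∀ p, ((signCo0 (cd mz) • y - y : leechLattice) : GolayPt → ℤ) p =
        2 * ((x : GolayPt → ℤ) p - (y : GolayPt → ℤ) p) + (if idx p = 0 ∨ idx p = 23 then 2 * s else 0) := by
      intro p
      rw [coe_sub, coe_sign isCode_mz, hx, hf']
      have h1 := mO_eq ⟨idx p, idx_lt p⟩
      simp only at h1
      by_cases h2 : mz.testBit (idx p) = true
      · have h3 : ¬ mO.testBit (idx p) = true := by rw [h1, h2]; decide
        have h4 : ¬ (idx p = 0 ∨ idx p = 23) := by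
          rintro (h | h) <;> rw [h] at h3 <;> exact h3 (by decide +kernel)
        rw [if_pos h2, if_neg h3, if_neg h4]; ring
      · have h3 : mO.testBit (idx p) = true := by rw [h1]; simpa using h2
        rw [if_neg h2, if_pos h3]
        split_ifs <;> ring
    rcases hs with rfl | rfl
    · left
      apply Subtype.ext
      funext p
      rw [key p, two_smul]
      show _ = ((x : GolayPt → ℤ) p - (y : GolayPt → ℤ) p) + ((x : GolayPt → ℤ) p - (y : GolayPt → ℤ) p)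
      split_ifs <;> ring
    · right
      apply Subtype.ext
      funext p
      rw [key p, two_smul]
      show _ = ((x : GolayPt → ℤ) p - (y : GolayPt → ℤ) p) + ((x : GolayPt → ℤ) p - (y : GolayPt → ℤ) p) +
        (a0 : GolayPt → ℤ) p
      rw [ca0 p]
      split_ifs <;> ring
  · exact (not_odd hyL hf' c1 c2 c3 c4 c5 c7 hodd).elim

/-! ### No mixed types -/

theorem label_of_emod {a b : ℤ} (ha : (8 : ℤ) ∣ a) (hb : (8 : ℤ) ∣ b)
    (h : decide ((16 : ℤ) ∣ a) = decide ((16 : ℤ) ∣ b)) : (16 : ℤ) ∣ a - b := by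
  rw [decide_eq_decide] at h
  by_cases h1 : (16 : ℤ) ∣ a
  · exact dvd_sub h1 (h.1 h1)
  · have h2 : ¬ (16 : ℤ) ∣ b := fun h' => h1 (h.2 h')
    omega

theorem noMix {A B : Co0} (hA : Ty mz A) (hB : Ty my B ∨ Ty mv B) (h : Pr a0 A B) : False := by
  obtain ⟨kA, hkA, hA⟩ := hA
  obtain ⟨kB, hkB, F, hF, hF'⟩ : ∃ kB : Co0, kB • a0 = a0 ∧ ∃ F : (Fin 8 → Bool) → leechLattice,
      (∀ s, F s ∈ evn a0) ∧ ∀ s t, (kB * B * kB⁻¹) • (F s - F t) - (F s - F t) ∈ rad a0 → s = t := by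
    rcases hB with ⟨k, hk, hk'⟩ | ⟨k, hk, hk'⟩
    · refine ⟨k, hk, ?_⟩
      rw [hk']
      exact many data_y (signCo0_mul_self _)
    · refine ⟨k, hk, ?_⟩
      rw [hk']
      exact many data_v (signCo0_mul_self _)
  have hkB' : kB⁻¹ • a0 = a0 := by rw [← hkB, inv_smul_smul, hkB]
  -- the vectors
  let Y : (Fin 8 → Bool) → leechLattice := fun s => kB⁻¹ • F s
  have hY : ∀ s, Y s ∈ evn a0 := fun s => (smul_evn_iff hkB').2 (hF s)
  have hY' : ∀ s t, B • (Y s - Y t) - (Y s - Y t) ∈ rad a0 → s = t := by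
    intro s t hst
    apply hF'
    have e : F s - F t = kB • (Y s - Y t) := by
      show F s - F t = kB • (kB⁻¹ • F s - kB⁻¹ • F t)
      rw [smul_sub', smul_inv_smul, smul_inv_smul]
    rw [e, conj_sub]
    exact smul_rad hkB hst
  -- the labels
  let lab : (Fin 8 → Bool) → (Fin 6 → Bool) := fun s j => decide ((16 : ℤ) ∣ dt (kA • Y s) (rzv j))
  have hlab : ∀ s t, lab s = lab t → A • (Y s - Y t) - (Y s - Y t) ∈ rad a0 := by
    intro s t hst
    rw [← smul_rad_iff hkA, ← conj_sub, hA]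
    refine z_fixed ((smul_evn_iff hkA).2 (sub_mem (hY s) (hY t))) fun j => ?_
    rw [smul_sub', dt_sub_left]
    exact label_of_emod (eight_dvd_dt _ _) (eight_dvd_dt _ _) (congrFun hst j)
  obtain ⟨l, hl⟩ := Fintype.exists_lt_card_fiber_of_mul_lt_card (n := 2) lab (by
    simp only [Fintype.card_fun, Fintype.card_fin, Fintype.card_bool]; norm_num)
  obtain ⟨a, ha, b, hb, c, hc, hab, hac, hbc⟩ := Finset.two_lt_card.1 hl
  rw [Finset.mem_filter] at ha hb hc
  have h1 := hlab a b (ha.2.trans hb.2.symm)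
  have h2 := hlab b c (hb.2.trans hc.2.symm)
  have h3 : (Y a - Y b) + (Y b - Y c) = Y a - Y c := by abel
  rcases h.1 _ (sub_mem (hY a) (hY b)) _ (sub_mem (hY b) (hY c)) h1 h2 with h4 | h4 | h4
  · exact hab (hY' a b h4)
  · exact hbc (hY' b c h4)
  · rw [h3] at h4
    exact hac (hY' a c h4)

/-! ### Scalars -/

theorem fr_of {A B : Co0} (h : Pr a0 A B) {y v : leechLattice} (hy : y ∈ evn a0) (hv : A • y - y = v)
    (h32 : (32 : ℤ) ∣ dt v v) : v ∈ Fr a0 B := by
  rw [mem_Fr, ← hv]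
  exact h.2 y hy (by rw [hv]; exact h32)

theorem fin_words {m : ℕ} (hm : isCode m = true) : fin m ∈ Leech.Code.Words := by
  rw [Leech.Code.mem_words_iff]
  have h3 := word_mem hm
  convert h3 using 1
  funext p
  rw [Leech.Code.ind_apply]
  unfold word
  by_cases h4 : m.testBit (idx p) = true
  · rw [if_pos (mem_fin.2 h4), if_pos h4]
  · rw [if_neg (fun h => h4 (mem_fin.1 h)), if_neg h4]

theorem exists_vec {m : ℕ} (hm : isCode m = true) : ∃ y : leechLattice, ∀ p, (y : GolayPt → ℤ) p =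
    if m.testBit (idx p) = true then 2 else 0 := by
  obtain ⟨y, hy⟩ := Cfsg.Agent.MonsterU.SmallComm.exists_two (fin_words hm)
  refine ⟨y, fun p => ?_⟩
  rw [hy]
  by_cases h4 : m.testBit (idx p) = true
  · rw [if_pos (mem_fin.2 h4), if_pos h4]
  · rw [if_neg (fun h => h4 (mem_fin.1 h)), if_neg h4]

theorem dt_a0' (x : leechLattice) {f : ℕ → ℤ} (hf : ∀ p, (x : GolayPt → ℤ) p = f (idx p)) :
    dt a0 x = 4 * f 23 + 4 * f 0 := by
  rw [dt_a0, hf, hf]; rfl

theorem idx_inj {p q : GolayPt} (h : idx p = idx q) : p = q := idx_injective h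

theorem four_idx {i j : GolayPt} {p : leechLattice} (hp : p + p = e8 i + e8 j) (k : GolayPt) :
    (p : GolayPt → ℤ) k = (if idx k = idx i then 4 else 0) + (if idx k = idx j then 4 else 0) := by
  have h1 := congrArg (fun v : leechLattice => (v : GolayPt → ℤ) k) hp
  simp only [coe_add] at h1
  rw [SporadicA.Co0Basic.e8_apply, SporadicA.Co0Basic.e8_apply] at h1
  have h2 : ∀ l : GolayPt, (k = l) = (idx k = idx l) := fun l => propext ⟨fun h => by rw [h], idx_inj⟩
  simp only [h2] at h1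
  split_ifs at h1 ⊢ <;> omega

theorem bit_lor {a b k : ℕ} : (Nat.lor (2 ^ a) (2 ^ b)).testBit k = true ↔ k = a ∨ k = b := by
  show ((2 ^ a) ||| (2 ^ b)).testBit k = true ↔ _
  rw [Nat.testBit_lor, Nat.testBit_two_pow, Nat.testBit_two_pow, Bool.or_eq_true, decide_eq_true_eq,
    decide_eq_true_eq, eq_comm, @eq_comm _ b]

theorem bit_land {m c k : ℕ} (h : c.testBit k = true) : (Nat.land m c).testBit k = m.testBit k := by
  show (m &&& c).testBit k = _
  rw [Nat.testBit_and, h, Bool.and_true]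

theorem pms_of {S : Finset GolayPt} {B : Co0} (h0 : ∀ i ∈ S, idx i ≠ 0 ∧ idx i ≠ 23)
    (h1 : ∀ i ∈ S, e8 i ∈ Fr a0 B)
    (h2 : ∀ i ∈ S, ∀ j ∈ S, i ≠ j → ∀ p : leechLattice, p + p = e8 i + e8 j → p ∈ Fr a0 B) : PmS S B := by
  intro i hi j hj hij p hp
  obtain ⟨p', hp', n1, n2⟩ := pair_facts hij
  have hpp : p = p' := two_cancel (hp.trans hp'.symm)
  subst hpp
  have d1 : dt a0 p = 0 := by
    rw [dt_a0' p (f := fun n => (if n = idx i then 4 else 0) + (if n = idx j then 4 else 0)) (four_idx hp)]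
    rw [if_neg (h0 i hi).2.symm, if_neg (h0 j hj).2.symm, if_neg (h0 i hi).1.symm, if_neg (h0 j hj).1.symm]
    norm_num
  have d2 : dt a0 (e8 j) = 0 := by
    rw [dt_a0' (e8 j) (f := fun n => if n = idx j then 8 else 0) (fun q => by
      rw [SporadicA.Co0Basic.e8_apply]
      by_cases h : q = j
      · rw [if_pos h, h, if_pos rfl]
      · rw [if_neg h, if_neg (fun h' => h (idx_inj h'))])]
    rw [if_neg (h0 j hj).2.symm, if_neg (h0 j hj).1.symm]
    norm_num
  have m1 := h2 i hi j hj hij p hp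
  have m2 : p - e8 j ∈ Fr a0 B := sub_mem m1 (h1 j hj)
  exact ⟨pm_of_mem_rad dt_a0_a0 n1 d1 m1, pm_of_mem_rad dt_a0_a0 n2 (by rw [dt_sub_right, d1, d2]; norm_num) m2⟩

/-! ### The octad -/

theorem my_spec : ∀ k : Fin 24, my.testBit k = true → k.1 ≠ 0 ∧ k.1 ≠ 23 ∧ k.1 ≠ 2 := by decide +kernel

/-- `8 e_a` from the commutator of `4 e_a + 4 e_b`, `a` in the word, `b` not in the word -/
theorem e8_fr {m : ℕ} (hm : isCode m = true) {B : Co0} (h : Pr a0 (signCo0 (cd m)) B) {a b : GolayPt}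
    (ha : m.testBit (idx a) = true) (hb : m.testBit (idx b) = false) (ha0 : idx a ≠ 0 ∧ idx a ≠ 23)
    (hb0 : idx b ≠ 0 ∧ idx b ≠ 23) : e8 a ∈ Fr a0 B ∧ e8 b ∈ Fr a0 B := by
  have hab : a ≠ b := by rintro rfl; rw [ha] at hb; exact absurd hb (by decide)
  obtain ⟨p, hp, -, -⟩ := pair_facts hab
  have h1 : signCo0 (cd m) • p - p = -(e8 a) := by
    apply Subtype.ext
    funext k
    show ((signCo0 (cd m) • p : leechLattice) : GolayPt → ℤ) k - (p : GolayPt → ℤ) k = -((e8 a : leechLattice) : GolayPt → ℤ) k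
    rw [coe_sign hm, four_idx hp, SporadicA.Co0Basic.e8_apply]
    by_cases hka : k = a
    · rw [hka, if_pos ha, if_pos rfl, if_pos rfl, if_neg (fun h => hab (idx_inj h))]; norm_num
    · rw [if_neg hka, if_neg (fun h => hka (idx_inj h))]
      by_cases hkb : k = b
      · rw [hkb, if_neg (by rw [hb]; decide)]; ring
      · rw [if_neg (fun h => hkb (idx_inj h))]; split_ifs <;> norm_num
  have d1 : dt a0 p = 0 := by
    rw [dt_a0' p (f := fun n => (if n = idx a then 4 else 0) + (if n = idx b then 4 else 0)) (four_idx hp)]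
    rw [if_neg ha0.2.symm, if_neg hb0.2.symm, if_neg ha0.1.symm, if_neg hb0.1.symm]
    norm_num
  have m1 : -(e8 a) ∈ Fr a0 B := by
    refine fr_of h (y := p) ?_ h1 ?_
    · rw [mem_evn, d1]; exact dvd_zero _
    · rw [dt_neg_left, dt_neg_right, neg_neg, dt_e8, e8_self]; norm_num
  have m2 : e8 a ∈ Fr a0 B := by simpa using neg_mem m1
  refine ⟨m2, ?_⟩
  have e : e8 b = 2 • p - e8 a := by rw [two_smul, hp]; abel
  rw [e]
  exact sub_mem (two_mem_Fr _ _ _) m2

theorem pair_fr_y {B : Co0} (h : Pr a0 (signCo0 (cd my)) B) {i j : GolayPt} (hi : my.testBit (idx i) = true)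
    (hj : my.testBit (idx j) = true) (hij : i ≠ j) {p : leechLattice} (hp : p + p = e8 i + e8 j) : p ∈ Fr a0 B := by
  obtain ⟨m, -, hm, hland, h023⟩ := ty_spec ⟨idx i, idx_lt i⟩ ⟨idx j, idx_lt j⟩ hi hj
    (fun h => hij (idx_inj (congrArg Fin.val h)))
  simp only at hland
  obtain ⟨y, hy⟩ := exists_vec hm
  have bit : ∀ k : GolayPt, my.testBit (idx k) = true → (m.testBit (idx k) = true ↔ idx k = idx i ∨ idx k = idx j) := by
    intro k hk
    rw [← bit_land hk, hland, bit_lor]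
  have h1 : signCo0 (cd my) • y - y = -p := by
    apply Subtype.ext
    funext k
    show ((signCo0 (cd my) • y : leechLattice) : GolayPt → ℤ) k - (y : GolayPt → ℤ) k = -(p : GolayPt → ℤ) k
    rw [coe_sign isCode_my, four_idx hp, hy]
    by_cases hk : my.testBit (idx k) = true
    · rw [if_pos hk]
      by_cases hmk : m.testBit (idx k) = true
      · rw [if_pos hmk]
        rcases (bit k hk).1 hmk with h2 | h2
        · have kj : ¬ idx k = idx j := fun h3 => hij (idx_inj (h2.symm.trans h3))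
          rw [if_pos h2, if_neg kj]; norm_num
        · have ki : ¬ idx k = idx i := fun h3 => hij (idx_inj (h3.symm.trans h2))
          rw [if_pos h2, if_neg ki]; norm_num
      · have ki : ¬ idx k = idx i := fun h3 => hmk ((bit k hk).2 (Or.inl h3))
        have kj : ¬ idx k = idx j := fun h3 => hmk ((bit k hk).2 (Or.inr h3))
        rw [if_neg hmk, if_neg ki, if_neg kj]
        norm_num
    · have ki : ¬ idx k = idx i := fun h3 => hk (by rw [h3]; exact hi)
      have kj : ¬ idx k = idx j := fun h3 => hk (by rw [h3]; exact hj)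
      rw [if_neg hk, if_neg ki, if_neg kj]
      ring
  have n1 : dt p p = 32 := by
    obtain ⟨p', hp', n1, -⟩ := pair_facts hij
    rw [two_cancel (hp.trans hp'.symm), n1]
  have m1 : -p ∈ Fr a0 B := by
    refine fr_of h (y := y) ?_ h1 ?_
    · rw [mem_evn, dt_a0' y (f := fun n => if m.testBit n = true then 2 else 0) hy]
      rw [h023]
      split_ifs <;> norm_num
    · rw [dt_neg_left, dt_neg_right, neg_neg, n1]
  simpa using neg_mem m1

theorem pms_y {B : Co0} (h : Pr a0 (signCo0 (cd my)) B) : PmS (fin my) B := by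
  refine pms_of (fun i hi => ?_) (fun i hi => ?_) (fun i hi j hj hij p hp => ?_)
  · have := my_spec ⟨idx i, idx_lt i⟩ (mem_fin.1 hi)
    exact ⟨this.1, this.2.1⟩
  · have h1 := my_spec ⟨idx i, idx_lt i⟩ (mem_fin.1 hi)
    exact (e8_fr isCode_my h (a := i) (b := LeechMat.Code.pt 2) (mem_fin.1 hi)
      (by rw [idx_pt' (by norm_num)]; decide +kernel) ⟨h1.1, h1.2.1⟩
      (by rw [idx_pt' (by norm_num)]; decide)).1
  · exact pair_fr_y h (mem_fin.1 hi) (mem_fin.1 hj) hij hp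

/-! ### The dodecad -/

theorem pair_fr_v {B : Co0} (h : Pr a0 (signCo0 (cd mv)) B) {i j : GolayPt} (hi : m10.testBit (idx i) = true)
    (hj : m10.testBit (idx j) = true) (hij : i ≠ j) {p : leechLattice} (hp : p + p = e8 i + e8 j) : p ∈ Fr a0 B := by
  obtain ⟨m, -, hm, hland⟩ := tv_spec ⟨idx i, idx_lt i⟩ ⟨idx j, idx_lt j⟩ hi hj
    (fun h => hij (idx_inj (congrArg Fin.val h)))
  simp only at hland
  obtain ⟨y, hy⟩ := exists_vec hm
  have cvb : ∀ k : Fin 24, (Nat.xor 16777215 mv).testBit k = !mv.testBit k := by decide +kernel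
  have hi' := m10_spec ⟨idx i, idx_lt i⟩ hi
  have hj' := m10_spec ⟨idx j, idx_lt j⟩ hj
  simp only at hi' hj'
  have bit : ∀ k : GolayPt, mv.testBit (idx k) = false → (m.testBit (idx k) = true ↔ idx k = idx i ∨ idx k = idx j) := by
    intro k hk
    have h1 : (Nat.xor 16777215 mv).testBit (idx k) = true := by
      have := cvb ⟨idx k, idx_lt k⟩
      simp only at this
      rw [this, hk]; rfl
    rw [← bit_land h1, hland, bit_lor]
  have h1 : signCo0 (cd mv) • y - y = p - 2 • y := by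
    apply Subtype.ext
    funext k
    show ((signCo0 (cd mv) • y : leechLattice) : GolayPt → ℤ) k - (y : GolayPt → ℤ) k =
      (p : GolayPt → ℤ) k - ((2 • y : leechLattice) : GolayPt → ℤ) k
    rw [coe_sign isCode_mv, coe_two, four_idx hp, hy]
    by_cases hk : mv.testBit (idx k) = true
    · have ki : ¬ idx k = idx i := fun h3 => by rw [h3, hi'.1] at hk; exact absurd hk (by decide)
      have kj : ¬ idx k = idx j := fun h3 => by rw [h3, hj'.1] at hk; exact absurd hk (by decide)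
      rw [if_pos hk, if_neg ki, if_neg kj]
      split_ifs <;> norm_num
    · have hk' : mv.testBit (idx k) = false := by simpa using hk
      rw [if_neg hk]
      by_cases hmk : m.testBit (idx k) = true
      · rw [if_pos hmk]
        rcases (bit k hk').1 hmk with h2 | h2
        · have kj : ¬ idx k = idx j := fun h3 => hij (idx_inj (h2.symm.trans h3))
          rw [if_pos h2, if_neg kj]; norm_num
        · have ki : ¬ idx k = idx i := fun h3 => hij (idx_inj (h3.symm.trans h2))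
          rw [if_pos h2, if_neg ki]; norm_num
      · have ki : ¬ idx k = idx i := fun h3 => hmk ((bit k hk').2 (Or.inl h3))
        have kj : ¬ idx k = idx j := fun h3 => hmk ((bit k hk').2 (Or.inr h3))
        rw [if_neg hmk, if_neg ki, if_neg kj]
        norm_num
  have n1 : dt p p = 32 := by
    obtain ⟨p', hp', n1, -⟩ := pair_facts hij
    rw [two_cancel (hp.trans hp'.symm), n1]
  have m1 : p - 2 • y ∈ Fr a0 B := by
    refine fr_of h (y := y) ?_ h1 ?_
    · have b0 : m.testBit 0 = false := by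
        have := bit (LeechMat.Code.pt 0) (by rw [idx_pt' (by norm_num)]; decide +kernel)
        rw [idx_pt' (by norm_num)] at this
        by_contra hcon
        rcases this.1 (by simpa using hcon) with h2 | h2
        · exact hi'.2.1 h2.symm
        · exact hj'.2.1 h2.symm
      have b23 : m.testBit 23 = false := by
        have := bit (LeechMat.Code.pt 23) (by rw [idx_pt' (by norm_num)]; decide +kernel)
        rw [idx_pt' (by norm_num)] at this
        by_contra hcon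
        rcases this.1 (by simpa using hcon) with h2 | h2
        · exact hi'.2.2 h2.symm
        · exact hj'.2.2 h2.symm
      rw [mem_evn, dt_a0' y (f := fun n => if m.testBit n = true then 2 else 0) hy]
      rw [b0, b23]
      norm_num
    · have e1 : dt (p - 2 • y) (p - 2 • y) = 32 - 4 * dt p y + 4 * dt y y := by
        rw [dt_sub_left, dt_sub_right, dt_sub_right, n1, dt_two_smul_right, dt_comm (2 • y) p, dt_two_smul_right,
          dt_two]
        ring
      rw [e1]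
      obtain ⟨a, ha⟩ := eight_dvd_dt p y
      obtain ⟨b, hb⟩ := eight_dvd_dt y y
      exact ⟨1 - a + b, by rw [ha, hb]; ring⟩
  have : p = (p - 2 • y) + 2 • y := by abel
  rw [this]
  exact add_mem m1 (two_mem_Fr _ _ _)

theorem pms_v {B : Co0} (h : Pr a0 (signCo0 (cd mv)) B) : PmS (fin m10) B := by
  refine pms_of (fun i hi => ?_) (fun i hi => ?_) (fun i hi j hj hij p hp => ?_)
  · have := m10_spec ⟨idx i, idx_lt i⟩ (mem_fin.1 hi)
    exact ⟨this.2.1, this.2.2⟩
  · have h1 := m10_spec ⟨idx i, idx_lt i⟩ (mem_fin.1 hi)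
    exact (e8_fr isCode_mv h (a := LeechMat.Code.pt 3) (b := i)
      (by rw [idx_pt' (by norm_num)]; decide +kernel) h1.1 (by rw [idx_pt' (by norm_num)]; decide)
      ⟨h1.2.1, h1.2.2⟩).2
  · exact pair_fr_v h (mem_fin.1 hi) (mem_fin.1 hj) hij hp

/-! ### Traces -/

theorem tr8_eq (g : Co0) : tr8 g = ∑ i, ((g • e8 i : leechLattice) : GolayPt → ℤ) i := rfl

theorem coord_bound (g : Co0) (i j : GolayPt) :
    -8 ≤ ((g • e8 i : leechLattice) : GolayPt → ℤ) j ∧ ((g • e8 i : leechLattice) : GolayPt → ℤ) j ≤ 8 := by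
  have h1 : dt (g • e8 i) (g • e8 i) = 64 := by rw [dt_smul, dt_e8, e8_self]; norm_num
  have h2 : ((g • e8 i : leechLattice) : GolayPt → ℤ) j * ((g • e8 i : leechLattice) : GolayPt → ℤ) j ≤ 64 := by
    rw [← h1]
    show _ ≤ dotInt _ _
    unfold dotInt
    exact Finset.single_le_sum (f := fun k => ((g • e8 i : leechLattice) : GolayPt → ℤ) k *
      ((g • e8 i : leechLattice) : GolayPt → ℤ) k) (fun k _ => mul_self_nonneg _) (Finset.mem_univ j)
  constructor <;> nlinarith only [h2]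

theorem tr_sub {m : ℕ} (hm : isCode m = true) (B : Co0) : tr8 B - tr8 (signCo0 (cd m) * B) =
    ∑ i, if m.testBit (idx i) = true then 2 * ((B • e8 i : leechLattice) : GolayPt → ℤ) i else 0 := by
  rw [tr8_eq, tr8_eq, ← Finset.sum_sub_distrib]
  refine Finset.sum_congr rfl fun i _ => ?_
  rw [mul_smul, coe_sign hm]
  split_ifs <;> ring

theorem tr_add {m : ℕ} (hm : isCode m = true) (B : Co0) : tr8 B + tr8 (signCo0 (cd m) * B) =
    ∑ i, if m.testBit (idx i) = true then 0 else 2 * ((B • e8 i : leechLattice) : GolayPt → ℤ) i := by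
  rw [tr8_eq, tr8_eq, ← Finset.sum_add_distrib]
  refine Finset.sum_congr rfl fun i _ => ?_
  rw [mul_smul, coe_sign hm]
  split_ifs <;> ring

theorem sum_bits (m : ℕ) (a : ℤ) : ∑ i : GolayPt, (if m.testBit (idx i) = true then a else 0) = a * popcount m := by
  rw [← sum_testBit, Finset.mul_sum]
  refine Finset.sum_congr rfl fun i _ => ?_
  split_ifs <;> ring

/-- the coordinates at the two points of `a0` -/
theorem two_coord {B : Co0} (hB : B • a0 = a0) :
    0 ≤ ((B • e8 (LeechMat.Code.pt 0) : leechLattice) : GolayPt → ℤ) (LeechMat.Code.pt 0) ∧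
    0 ≤ ((B • e8 (LeechMat.Code.pt 23) : leechLattice) : GolayPt → ℤ) (LeechMat.Code.pt 23) := by
  have h1 : a0 + a0 = e8 (LeechMat.Code.pt 0) + e8 (LeechMat.Code.pt 23) := by
    apply Subtype.ext
    funext k
    have h2 : (a0 : GolayPt → ℤ) k = if idx k = 0 ∨ idx k = 23 then 4 else 0 := leechU_apply k
    rw [coe_add, coe_add, h2, SporadicA.Co0Basic.e8_apply, SporadicA.Co0Basic.e8_apply]
    revert k
    decide
  have h2 : B • e8 (LeechMat.Code.pt 0) + B • e8 (LeechMat.Code.pt 23) =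
      e8 (LeechMat.Code.pt 0) + e8 (LeechMat.Code.pt 23) := by
    rw [← smul_add', ← h1, smul_add', hB]
  have h3 := congrArg (fun v : leechLattice => (v : GolayPt → ℤ) (LeechMat.Code.pt 0)) h2
  have h4 := congrArg (fun v : leechLattice => (v : GolayPt → ℤ) (LeechMat.Code.pt 23)) h2
  simp only [coe_add] at h3 h4
  rw [e8_self, e8_ne (by decide)] at h3
  rw [e8_self, e8_ne (by decide)] at h4
  have b1 := coord_bound B (LeechMat.Code.pt 23) (LeechMat.Code.pt 0)
  have b2 := coord_bound B (LeechMat.Code.pt 0) (LeechMat.Code.pt 23)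
  constructor <;> omega

/-! ### The three contradictions -/

theorem conj_fix {k B : Co0} (hk : k • a0 = a0) (hB : B • a0 = a0) : (k * B * k⁻¹) • a0 = a0 := by
  have : k⁻¹ • a0 = a0 := by rw [← hk, inv_smul_smul, hk]
  rw [mul_smul, mul_smul, this, hB, hk]

theorem mz_spec : mz.testBit (idx (LeechMat.Code.pt 0)) = false := by decide +kernel

theorem pure_z {A B : Co0} (hA : Ty mz A) (hB : B • a0 = a0) (t1 : tr8 B = -64) (t2 : tr8 (A * B) = -64) : False := by
  obtain ⟨k, hk, hkA⟩ := hA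
  have h1 := tr_add isCode_mz (k * B * k⁻¹)
  have e : signCo0 (cd mz) * (k * B * k⁻¹) = k * (A * B) * k⁻¹ := by rw [← hkA]; group
  rw [e, tr8_conj, tr8_conj, t1, t2] at h1
  have h2 := (two_coord (conj_fix hk hB)).1
  have h3 : ∑ i : GolayPt, (if mz.testBit (idx i) = true then (0 : ℤ) else 16) = 128 := by
    have h4 := sum_bits mz 16
    rw [show popcount mz = 16 by decide +kernel] at h4
    have h5 : ∑ i : GolayPt, ((if mz.testBit (idx i) = true then (0 : ℤ) else 16) +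
        (if mz.testBit (idx i) = true then (16 : ℤ) else 0)) = ∑ _i : GolayPt, (16 : ℤ) :=
      Finset.sum_congr rfl fun i _ => by split_ifs <;> norm_num
    rw [Finset.sum_add_distrib, h4, Finset.sum_const, Finset.card_univ, Leech.Code.card_golayPt] at h5
    rw [nsmul_eq_mul] at h5
    have h6 : (((24 : ℕ) : ℤ)) * 16 = 384 := by norm_num
    rw [h6] at h5
    have h7 : (16 : ℤ) * ((16 : ℕ) : ℤ) = 256 := by norm_num
    rw [h7] at h5
    linarith only [h5]
  have h4 : ∑ i : GolayPt, (if mz.testBit (idx i) = true then (0 : ℤ) else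
      2 * (((k * B * k⁻¹) • e8 i : leechLattice) : GolayPt → ℤ) i + 16) = 0 := by
    have h5 : ∑ i : GolayPt, (if mz.testBit (idx i) = true then (0 : ℤ) else
        2 * (((k * B * k⁻¹) • e8 i : leechLattice) : GolayPt → ℤ) i + 16) =
        ∑ i : GolayPt, (if mz.testBit (idx i) = true then (0 : ℤ) else
        2 * (((k * B * k⁻¹) • e8 i : leechLattice) : GolayPt → ℤ) i) +
        ∑ i : GolayPt, (if mz.testBit (idx i) = true then (0 : ℤ) else 16) := by
      rw [← Finset.sum_add_distrib]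
      exact Finset.sum_congr rfl fun i _ => by split_ifs <;> ring
    rw [h5, ← h1, h3]
    norm_num
  have h5 := (Finset.sum_eq_zero_iff_of_nonneg (fun i _ => by
    have := coord_bound (k * B * k⁻¹) i i
    split_ifs
    · exact le_rfl
    · linarith only [this.1])).1 h4 (LeechMat.Code.pt 0) (Finset.mem_univ _)
  rw [mz_spec, if_neg (by decide)] at h5
  linarith only [h2, h5]

theorem pure_y {A B : Co0} (hA : Ty my A) (h : Pr a0 A B) (t1 : tr8 B = 64 ∨ tr8 B = 0)
    (t2 : tr8 (A * B) = 64 ∨ tr8 (A * B) = 0) : False := by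
  obtain ⟨k, hk, hkA⟩ := hA
  have h1 := tr_sub isCode_my (k * B * k⁻¹)
  have e : signCo0 (cd my) * (k * B * k⁻¹) = k * (A * B) * k⁻¹ := by rw [← hkA]; group
  rw [e, tr8_conj, tr8_conj] at h1
  have hP := Pr.conj hk h
  rw [hkA] at hP
  have key : ∀ d : ℤ, (∀ i ∈ fin my, (((k * B * k⁻¹) • e8 i : leechLattice) : GolayPt → ℤ) i = d) →
      tr8 B - tr8 (A * B) = 16 * d := by
    intro d hd
    rw [h1, Finset.sum_congr rfl (g := fun i => if my.testBit (idx i) = true then 2 * d else 0) (fun i _ => by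
      by_cases hi : my.testBit (idx i) = true
      · rw [if_pos hi, if_pos hi, hd i (mem_fin.2 hi)]
      · rw [if_neg hi, if_neg hi]), sum_bits, show popcount my = 8 by decide +kernel]
    ring
  rcases scalar (pms_y hP) (by decide +kernel) with h2 | h2
  · have := key 8 (fun i hi => by rw [h2 i hi, e8_self])
    omega
  · have := key (-8) (fun i hi => by rw [h2 i hi, coe_neg, e8_self])
    omega

theorem part_v : ∀ k : Fin 24, (m10.testBit k = true ∧ mv.testBit k = false ∧ k.1 ≠ 0 ∧ k.1 ≠ 23) ∨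
    (m10.testBit k = false ∧ mv.testBit k = true ∧ k.1 ≠ 0 ∧ k.1 ≠ 23) ∨
    (m10.testBit k = false ∧ mv.testBit k = false ∧ k.1 = 0) ∨
    (m10.testBit k = false ∧ mv.testBit k = false ∧ k.1 = 23) := by decide +kernel

theorem pure_v {A B : Co0} (hA : Ty mv A) (hB : B • a0 = a0) (h : Pr a0 A B) (t1 : tr8 B = 64 ∨ tr8 B = 0)
    (t2 : tr8 (A * B) = 64 ∨ tr8 (A * B) = 0) : False := by
  obtain ⟨k, hk, hkA⟩ := hA
  have h1 := tr_add isCode_mv (k * B * k⁻¹)
  have e : signCo0 (cd mv) * (k * B * k⁻¹) = k * (A * B) * k⁻¹ := by rw [← hkA]; group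
  rw [e, tr8_conj, tr8_conj] at h1
  have hP := Pr.conj hk h
  rw [hkA] at hP
  have h0 := two_coord (conj_fix hk hB)
  have b0 := coord_bound (k * B * k⁻¹) (LeechMat.Code.pt 0) (LeechMat.Code.pt 0)
  have b1 := coord_bound (k * B * k⁻¹) (LeechMat.Code.pt 23) (LeechMat.Code.pt 23)
  generalize k * B * k⁻¹ = C at *
  have key : ∀ d : ℤ, (∀ i ∈ fin m10, ((C • e8 i : leechLattice) : GolayPt → ℤ) i = d) →
      tr8 B + tr8 (A * B) = 20 * d + 2 * ((C • e8 (LeechMat.Code.pt 0) : leechLattice) : GolayPt → ℤ) (LeechMat.Code.pt 0)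
        + 2 * ((C • e8 (LeechMat.Code.pt 23) : leechLattice) : GolayPt → ℤ) (LeechMat.Code.pt 23) := by
    intro d hd
    have h3 : ∀ i : GolayPt, (if mv.testBit (idx i) = true then (0 : ℤ) else
        2 * ((C • e8 i : leechLattice) : GolayPt → ℤ) i) =
        (if m10.testBit (idx i) = true then 2 * d else 0) +
        ((if i = LeechMat.Code.pt 0 then 2 * ((C • e8 i : leechLattice) : GolayPt → ℤ) i else 0) +
        (if i = LeechMat.Code.pt 23 then 2 * ((C • e8 i : leechLattice) : GolayPt → ℤ) i else 0)) := by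
      intro i
      have e0 : i = LeechMat.Code.pt 0 ↔ idx i = 0 :=
        ⟨fun h => by rw [h, idx_pt' (by norm_num)], fun h => idx_inj (by rw [h, idx_pt' (by norm_num)])⟩
      have e23 : i = LeechMat.Code.pt 23 ↔ idx i = 23 :=
        ⟨fun h => by rw [h, idx_pt' (by norm_num)], fun h => idx_inj (by rw [h, idx_pt' (by norm_num)])⟩
      rcases part_v ⟨idx i, idx_lt i⟩ with ⟨p1, p2, p3, p4⟩ | ⟨p1, p2, p3, p4⟩ | ⟨p1, p2, p3⟩ | ⟨p1, p2, p3⟩ <;>
        simp only at p1 p2 p3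
      · rw [p1, p2, if_neg (by decide), if_pos rfl, if_neg (fun h => p3 (e0.1 h)), if_neg (fun h => p4 (e23.1 h)),
          hd i (mem_fin.2 p1)]
        ring
      · rw [p1, p2, if_pos rfl, if_neg (by decide), if_neg (fun h => p3 (e0.1 h)), if_neg (fun h => p4 (e23.1 h))]
        norm_num
      · have n23 : ¬ i = LeechMat.Code.pt 23 := fun h => by rw [e23.1 h] at p3; omega
        have ff : ¬ (false = true) := by decide
        rw [p1, p2, if_neg ff, if_neg ff, if_pos (e0.2 p3), if_neg n23]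
        ring
      · have n0 : ¬ i = LeechMat.Code.pt 0 := fun h => by rw [e0.1 h] at p3; omega
        have ff : ¬ (false = true) := by decide
        rw [p1, p2, if_neg ff, if_neg ff, if_neg n0, if_pos (e23.2 p3)]
        ring
    rw [h1, Finset.sum_congr rfl fun i _ => h3 i, Finset.sum_add_distrib, Finset.sum_add_distrib, sum_bits,
      Finset.sum_ite_eq', Finset.sum_ite_eq', if_pos (Finset.mem_univ _), if_pos (Finset.mem_univ _),
      show popcount m10 = 10 by decide +kernel]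
    ring
  rcases scalar (pms_v hP) (by decide +kernel) with h2 | h2
  · have := key 8 (fun i hi => by rw [h2 i hi, e8_self])
    omega
  · have := key (-8) (fun i hi => by rw [h2 i hi, coe_neg, e8_self])
    omega

/-! ### The theorem -/

theorem tr8_cases {x : Co0} (h : Ty my x ∨ Ty mv x) : tr8 x = 64 ∨ tr8 x = 0 := by
  rcases h with h | h
  · exact Or.inl (tr8_y h)
  · exact Or.inr (tr8_v h)

theorem noTriple_a0 : NoTriple a0 := by
  intro g h hga hha hg hh hc hg1 hh1 hgh1 p1 p2 p3 p4 p5 p6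
  have hgh : (g * h) • a0 = a0 := by rw [mul_smul, hha, hga]
  have hsq : (g * h) * (g * h) = 1 := by
    calc (g * h) * (g * h) = g * (h * g) * h := by group
      _ = g * (g * h) * h := by rw [hc]
      _ = (g * g) * (h * h) := by group
      _ = 1 := by rw [hg, hh, one_mul]
  have tg := types hga hg hg1
  have th := types hha hh hh1
  have tgh := types hgh hsq hgh1
  rcases tg with tg | tg
  · -- all of type `z`
    have th' : Ty mz h := by
      rcases th with th | th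
      · exact th
      · exact (noMix tg th p1).elim
    have tgh' : Ty mz (g * h) := by
      rcases tgh with tgh | tgh
      · exact tgh
      · exact (noMix tg tgh p3).elim
    exact pure_z tg hha (tr8_z th') (tr8_z tgh')
  · have th' : Ty my h ∨ Ty mv h := by
      rcases th with th | th
      · exact (noMix th tg p2).elim
      · exact th
    have tgh' : Ty my (g * h) ∨ Ty mv (g * h) := by
      rcases tgh with tgh | tgh
      · exact (noMix tgh tg p4).elim
      · exact tgh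
    rcases tg with tg | tg
    · exact pure_y tg p1 (tr8_cases th') (tr8_cases tgh')
    · exact pure_v tg hha p1 (tr8_cases th') (tr8_cases tgh')

/-- **No four-group of `Co2` with three equal centralisers on `2^{1+22}`** (form `BabyHyp.NoTriple`). -/
theorem noTriple {l : leechLattice} (hl : dt l l = 32) : NoTriple l := by
  intro g h hgl hhl hg hh hc hg1 hh1 hgh1 p1 p2 p3 p4 p5 p6
  obtain ⟨k, hk⟩ := Cfsg.Agent.S0400.result l a0 (by rw [norm_eq]; exact hl) (by rw [norm_eq]; exact dt_a0_a0)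
  have hk' : k⁻¹ • a0 = l := by rw [← hk, inv_smul_smul]
  have fix : ∀ x : Co0, x • l = l → (k * x * k⁻¹) • a0 = a0 := by
    intro x hx
    rw [mul_smul, mul_smul, hk', hx, hk]
  have mul : ∀ x y : Co0, (k * x * k⁻¹) * (k * y * k⁻¹) = k * (x * y) * k⁻¹ := fun x y => by group
  have one : ∀ x : Co0, k * x * k⁻¹ = 1 → x = 1 := by
    intro x hx
    calc x = k⁻¹ * (k * x * k⁻¹) * k := by group
      _ = 1 := by rw [hx]; group
  refine noTriple_a0 (k * g * k⁻¹) (k * h * k⁻¹) (fix g hgl) (fix h hhl) (by rw [mul, hg]; group)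
    (by rw [mul, hh]; group) (by rw [mul, mul, hc]) (fun e => hg1 (one _ e)) (fun e => hh1 (one _ e))
    (fun e => hgh1 (one _ (by rw [← mul]; exact e))) (Pr.conj hk p1) (Pr.conj hk p2) ?_ ?_ ?_ ?_
  · rw [mul]; exact Pr.conj hk p3
  · rw [mul]; exact Pr.conj hk p4
  · rw [mul]; exact Pr.conj hk p5
  · rw [mul]; exact Pr.conj hk p6

end Cfsg.Agent.OddHalf.D4.Spor.LatFour
end
end

-- part: OddHalf/ListedOut
section
set_option linter.all false
open scoped Cfsg.Agent.FastGrp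

/-!
# The listed standard form problems in the odd half

In the situation of the nodes (`Ctx`, `Std`) the listed statements give contradictions:

* `listed_false`: `Listed K`;
* `alt_false`: `K ≅ A_n`, `m_2(C(K)) ≥ 2` (S1766);
* `small_false`: `SmallRank (K / Z(K))`, `C(K)` with cyclic Sylow 2-subgroups, `|Z(K)|` odd;
* `sz_false`: `K / Z(K)` a Suzuki group, `C(K)` with cyclic Sylow 2-subgroups;
* `alt5_false`: `K ≅ A_5`, `C(K)` with cyclic Sylow 2-subgroups (S1773).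
-/

set_option autoImplicit false
set_option linter.style.haveILetI false

namespace Cfsg.Agent.OddHalf.ListedOut

open Subgroup Cfsg Cfsg.Agent.OddHalf.Iface Cfsg.Agent.OddHalf.Stmts

universe u

/-- The listed standard form theorems. -/
structure Forms : Prop where
  p1732 : P1732.{u}
  p1733 : P1733.{u}
  p1734 : P1734.{u}
  p1735 : P1735.{u}
  p1736 : P1736.{u}
  p1737 : P1737.{u}
  p1739 : P1739.{u}
  p1747 : P1747.{u}
  p1748 : P1748.{u}
  p1749 : P1749.{u}
  p1750 : P1750.{u}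
  p1751 : P1751.{u}
  p1752 : P1752.{u}

section

variable {G : Type u} [Group G]

/-! ### Members of the conclusion -/

theorem concl_alt {n : ℕ} (hn : n = 7 ∨ 9 ≤ n) (h : Nonempty (G ≃* ↥(alternatingGroup (Fin n)))) : Concl G :=
  Or.inr (Or.inl ⟨n, hn, h⟩)

theorem concl_m12 (h : Spor.IsoM12 G) : Concl G := Or.inr (Or.inr (Or.inl h))
theorem concl_j1 (h : Spor.IsoJ1 G) : Concl G := Or.inr (Or.inr (Or.inr (Or.inl h)))
theorem concl_j2 (h : Spor.IsoJ2 G) : Concl G := Or.inr (Or.inr (Or.inr (Or.inr (Or.inl h))))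
theorem concl_he (h : Spor.IsoHe G) : Concl G :=
  Or.inr (Or.inr (Or.inr (Or.inr (Or.inr (Or.inr (Or.inr (Or.inr (Or.inl h))))))))
theorem concl_on (h : Spor.IsoON G) : Concl G :=
  Or.inr (Or.inr (Or.inr (Or.inr (Or.inr (Or.inr (Or.inr (Or.inr (Or.inr (Or.inl h)))))))))
theorem concl_suz (h : Spor.IsoSuz G) : Concl G :=
  Or.inr (Or.inr (Or.inr (Or.inr (Or.inr (Or.inr (Or.inr (Or.inr (Or.inr (Or.inr (Or.inl h))))))))))
theorem concl_ru (h : Spor.IsoRu G) : Concl G :=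
  Or.inr (Or.inr (Or.inr (Or.inr (Or.inr (Or.inr (Or.inr (Or.inr (Or.inr (Or.inr (Or.inr (Or.inl h)))))))))))
theorem concl_co3 (h : Spor.IsoCo3 G) : Concl G :=
  Or.inr (Or.inr (Or.inr (Or.inr (Or.inr (Or.inr (Or.inr (Or.inr (Or.inr (Or.inr (Or.inr (Or.inr
    (Or.inl h))))))))))))
theorem concl_co1 (h : Spor.IsoCo1 G) : Concl G :=
  Or.inr (Or.inr (Or.inr (Or.inr (Or.inr (Or.inr (Or.inr (Or.inr (Or.inr (Or.inr (Or.inr (Or.inr (Or.inr
    (Or.inl h)))))))))))))
theorem concl_fi22 (h : Spor.IsoFi22 G) : Concl G :=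
  Or.inr (Or.inr (Or.inr (Or.inr (Or.inr (Or.inr (Or.inr (Or.inr (Or.inr (Or.inr (Or.inr (Or.inr (Or.inr
    (Or.inr (Or.inl h))))))))))))))
theorem concl_fi23 (h : Spor.IsoFi23 G) : Concl G :=
  Or.inr (Or.inr (Or.inr (Or.inr (Or.inr (Or.inr (Or.inr (Or.inr (Or.inr (Or.inr (Or.inr (Or.inr (Or.inr
    (Or.inr (Or.inr (Or.inl h)))))))))))))))
theorem concl_fi24 (h : Spor.IsoFi24' G) : Concl G :=
  Or.inr (Or.inr (Or.inr (Or.inr (Or.inr (Or.inr (Or.inr (Or.inr (Or.inr (Or.inr (Or.inr (Or.inr (Or.inr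
    (Or.inr (Or.inr (Or.inr (Or.inl h))))))))))))))))
theorem concl_hn (h : Spor.IsoHN G) : Concl G :=
  Or.inr (Or.inr (Or.inr (Or.inr (Or.inr (Or.inr (Or.inr (Or.inr (Or.inr (Or.inr (Or.inr (Or.inr (Or.inr
    (Or.inr (Or.inr (Or.inr (Or.inr (Or.inl h)))))))))))))))))
theorem concl_b (h : Spor.IsoB G) : Concl G :=
  Or.inr (Or.inr (Or.inr (Or.inr (Or.inr (Or.inr (Or.inr (Or.inr (Or.inr (Or.inr (Or.inr (Or.inr (Or.inr
    (Or.inr (Or.inr (Or.inr (Or.inr (Or.inr (Or.inl h))))))))))))))))))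
theorem concl_m (h : Spor.IsoM G) : Concl G :=
  Or.inr (Or.inr (Or.inr (Or.inr (Or.inr (Or.inr (Or.inr (Or.inr (Or.inr (Or.inr (Or.inr (Or.inr (Or.inr
    (Or.inr (Or.inr (Or.inr (Or.inr (Or.inr (Or.inr h))))))))))))))))))

theorem lieOdd_psl (p : ℕ) [hp : Fact p.Prime] (hp2 : p ≠ 2) (k : ℕ) {L : Type} [iF : Field L] [iT : Fintype L] (hL : Fintype.card L = p ^ k)
    (n : ℕ) (hn : 2 ≤ n) (h4 : 4 ≤ Fintype.card L)
    (f : Nonempty (G ≃* Matrix.ProjectiveSpecialLinearGroup (Fin n) L)) : LieOdd G := by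
  haveI : CharP L p := charP_of_card_eq_prime_pow hL
  refine ⟨p, hp.out, hp2, Or.inl ?_⟩
  exact ⟨L, iF, iT, this, n, hn, fun _ => h4, f⟩

theorem lieOdd_psu (p : ℕ) [hp : Fact p.Prime] (hp2 : p ≠ 2) (k : ℕ) {L : Type} [iF : Field L] [iT : Fintype L] (hL : Fintype.card L = p ^ k)
    (n q : ℕ) (hq : Fintype.card L = q ^ 2) (hn : 3 ≤ n) (h4 : ¬ (n = 3 ∧ q = 2))
    (f : Nonempty (G ≃* PSU n L q)) : LieOdd G := by
  haveI : CharP L p := charP_of_card_eq_prime_pow hL
  refine ⟨p, hp.out, hp2, Or.inr (Or.inr (Or.inl ?_))⟩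
  exact ⟨L, iF, iT, this, n, q, hq, hn, h4, f⟩

theorem lieOdd_g2 (p : ℕ) [hp : Fact p.Prime] (hp2 : p ≠ 2) (k : ℕ) {L : Type} [iF : Field L] [iT : Fintype L] (hL : Fintype.card L = p ^ k)
    (h4 : 3 ≤ Fintype.card L)
    (f : Nonempty (G ≃* ↥(Lie.chevG2.group L))) : LieOdd G := by
  haveI : CharP L p := charP_of_card_eq_prime_pow hL
  refine ⟨p, hp.out, hp2, Or.inr (Or.inr (Or.inr (Or.inr (Or.inr (Or.inr (Or.inl ?_))))))⟩
  exact ⟨L, iF, iT, this, Or.inl ⟨h4, f⟩⟩

theorem lieOdd_3d4 (p : ℕ) [hp : Fact p.Prime] (hp2 : p ≠ 2) (k : ℕ) {L : Type} [iF : Field L] [iT : Fintype L] (hL : Fintype.card L = p ^ k)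
    (q : ℕ) (hq : IsPrimePow q) (h4 : Fintype.card L = q ^ 3)
    (f : Nonempty (G ≃* ↥(Lie.twistedD4 L q))) : LieOdd G := by
  haveI : CharP L p := charP_of_card_eq_prime_pow hL
  refine ⟨p, hp.out, hp2, Or.inr (Or.inr (Or.inr (Or.inr (Or.inr (Or.inr (Or.inr (Or.inl ?_)))))))⟩
  exact ⟨L, iF, iT, this, q, hq, Or.inr ⟨h4, f⟩⟩
/-- `G` is not of Lie type in odd characteristic. -/
theorem not_lieOdd (R : Small.Excl.Rows) (C : Ctx G) : ¬ LieOdd G := by
  haveI := C.fin
  exact fun h => C.nc (Small.Excl.concl_of_lie R C.notTwo h)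

/-- The conclusion `Lie type in characteristic 3, A_n, or X` with `X` in the list. -/
theorem three_false (R : Small.Excl.Rows) (C : Ctx G) {P : Prop} (hP : P → Concl G)
    (h : IsLieTypeChar 3 G ∨ (∃ n : ℕ, 9 ≤ n ∧ Nonempty (G ≃* ↥(alternatingGroup (Fin n)))) ∨ P) : False := by
  rcases h with h | ⟨n, hn, h⟩ | h
  · exact not_lieOdd R C ⟨3, Nat.prime_three, by decide, h⟩
  · exact C.nc (concl_alt (Or.inr hn) h)
  · exact C.nc (hP h)

/-- A component of `C(t)` with `O(C(t)) = 1` as a 2-component. -/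
theorem isPComponent [Finite G] {t : G} {K : Subgroup G} (hb : centralizerPPrimeCore 2 t = ⊥)
    (h : CompOf t K) : IsPComponent 2 (K.subgroupOf (centralizer ({t} : Set G))) := by
  refine SignalizersComponents.ComponentImage.isPComponent_of_isComponent h.2 ?_
  intro h1
  rw [Subgroup.map_eq_bot_iff, QuotientGroup.ker_mk', Soft.core_eq_bot hb, le_bot_iff] at h1
  exact SignalizersComponents.Components.component_ne_bot h.2 h1

end

section

variable {G : Type u} [Group G]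

/-- an involution centralizing `K` -/
theorem exists_inv {K : Subgroup G} (C : Ctx G) (S : Std0 G K) :
    ∃ t : G, orderOf t = 2 ∧ t ∈ centralizer (K : Set G) := by
  haveI := C.fin
  have h1 := S.std.2.1.1
  haveI : Fact (Nat.Prime 2) := ⟨Nat.prime_two⟩
  obtain ⟨t, ht⟩ := exists_prime_orderOf_dvd_card' (G := ↥(centralizer (K : Set G))) 2 (even_iff_two_dvd.mp h1)
  exact ⟨t, by rw [Subgroup.orderOf_coe, ht], t.2⟩

/-- The odd core of a component is trivial. -/
theorem oddCore_eq_bot {K : Subgroup G} (C : Ctx G) (S : Std0 G K) : oddCore ↥K = ⊥ := by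
  haveI := C.fin
  obtain ⟨t, ht, hc⟩ := S.comp
  have e : ↥(K.subgroupOf (centralizer ({t} : Set G))) ≃* ↥K := subgroupOfEquivOfLe hc.1
  have h3 := Lib.PComponents.map_pPrimeCore_le_of_isSubnormal (p := 2) hc.2.1
  rw [Soft.core_eq_bot (C.bal t ht), le_bot_iff, map_eq_bot_iff_of_injective _ (subtype_injective _)] at h3
  have h4 := Lib.Cores.map_equiv_pPrimeCore e 2
  rw [h3, Subgroup.map_bot] at h4
  exact h4.symm

/-- S1739: `K` is not `McL` or `Ly`. -/
theorem not_mcl_ly (F : P1739.{u}) {K : Subgroup G} (C : Ctx G) (S : Std0 G K) :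
    ¬ Spor.IsoMcL ↥K ∧ ¬ Spor.IsoLy ↥K := by
  haveI := C.fin
  haveI := C.simple
  obtain ⟨t, ht, hc⟩ := S.comp
  have hO : oddCore G = ⊥ := Soft.oddCore_eq_bot (Soft.even_of_rank C.rank3)
  have hF : IsQuasisimple ↥(generalizedFittingSubgroup G) :=
    SignalizersComponents.Components.isQuasisimple_of_mulEquiv (Soft.fstarEquiv C.na).symm
      (Soft.quasisimple C.na)
  have h1 := F hO hF t ht _ (isPComponent (C.bal t ht) hc)
  have hoc := oddCore_eq_bot C S
  have e : ↥(K.subgroupOf (centralizer ({t} : Set G))) ≃* ↥K := subgroupOfEquivOfLe hc.1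
  have e1 : ↥(K.subgroupOf (centralizer ({t} : Set G))) ⧸ oddCore ↥(K.subgroupOf (centralizer ({t} : Set G)))
      ≃* ↥K ⧸ oddCore ↥K := QuotientGroup.congr _ _ e (Lib.Cores.map_equiv_pPrimeCore e 2)
  have e2 : ↥K ⧸ oddCore ↥K ≃* ↥K :=
    (QuotientGroup.quotientMulEquivOfEq hoc).trans QuotientGroup.quotientBot
  exact ⟨fun ⟨f⟩ => h1.1 ⟨(e1.trans e2).trans f⟩, fun ⟨f⟩ => h1.2 ⟨(e1.trans e2).trans f⟩⟩

/-- No standard component is on the list. -/
theorem listed_false (R : Small.Excl.Rows) (F : Forms.{u}) {K : Subgroup G} (C : Ctx G) (S : Std0 G K)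
    (h : Listed K) : False := by
  haveI := C.fin
  haveI := C.simple
  have hF2 : ∃ (F2 : Type) (_ : Field F2) (_ : Fintype F2), Fintype.card F2 = 2 :=
    ⟨ZMod 2, inferInstance, inferInstance, ZMod.card 2⟩
  rcases h with ⟨E, _, _, hE, h⟩ | ⟨E, _, _, hE, h1, h⟩ | ⟨E, _, _, hE, h1, h⟩ | ⟨E, _, _, hE, h⟩ | ⟨h1, h⟩ |
    ⟨E, _, _, hE, h1, h⟩ | ⟨E, _, _, hE, h⟩ | ⟨h1, h⟩ | ⟨E, _, _, hE, h1, h⟩ | ⟨E, _, _, hE, h⟩ |
    ⟨E, _, _, hE, h1, h2, h⟩ | h | ⟨E, _, _, hE, h⟩ | ⟨h1, h⟩ | h | h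
  · exact C.nc (concl_ru (F.p1732 C.na C.bal C.strong K S.std hE h))
  · exact C.nc (concl_co3 (F.p1733 C.na C.bal C.strong K S.std hE ⟨h1, h⟩))
  · obtain ⟨F2, _, _, h2⟩ := hF2
    exact C.nc (concl_fi22 (F.p1734 C.na C.bal C.strong K S.std h2 hE (Or.inl ⟨h1, h⟩)))
  · -- a field with 4 elements
    haveI : Fact (Nat.Prime 2) := ⟨Nat.prime_two⟩
    haveI : Fintype (GaloisField 2 2) := Fintype.ofFinite _
    have h4 : Fintype.card (GaloisField 2 2) = 4 := by
      rw [← Nat.card_eq_fintype_card, GaloisField.card 2 2 (by decide)]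
      norm_num
    exact C.nc (concl_fi22 (F.p1734 C.na C.bal C.strong K S.std hE h4 (Or.inr h)))
  · rcases F.p1735 C.na C.bal C.strong K S.std ⟨h1, h⟩ with h3 | h3
    · exact C.nc (concl_fi23 h3)
    · exact C.nc (concl_fi24 h3)
  · obtain ⟨F2, _, _, h2⟩ := hF2
    exact C.nc (concl_b (F.p1736 C.na C.bal C.strong K S.std h2 hE (Or.inl ⟨h1, h⟩)))
  · haveI : Fact (Nat.Prime 2) := ⟨Nat.prime_two⟩
    haveI : Fintype (GaloisField 2 2) := Fintype.ofFinite _
    have h4 : Fintype.card (GaloisField 2 2) = 4 := by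
      rw [← Nat.card_eq_fintype_card, GaloisField.card 2 2 (by decide)]
      norm_num
    exact C.nc (concl_b (F.p1736 C.na C.bal C.strong K S.std hE h4 (Or.inr h)))
  · exact C.nc (concl_m (F.p1737 C.na C.bal C.strong K S.std ⟨h1, h⟩))
  · exact three_false R C concl_he (F.p1747 C.na C.strong K S.std hE ⟨h1, h⟩)
  · exact three_false R C concl_suz (F.p1748 C.na C.strong K S.std hE h)
  · exact three_false R C concl_on (F.p1749 C.na C.strong K S.std hE ⟨h1, h2, h⟩)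
  · exact three_false R C concl_co3 (F.p1750 C.na C.strong K S.std h)
  · exact three_false R C concl_co1 (F.p1751 C.na C.strong K S.std hE h)
  · exact three_false R C concl_hn (F.p1752 C.na C.strong K S.std ⟨h1, h⟩)
  · exact (not_mcl_ly F.p1739 C S).1 h
  · exact (not_mcl_ly F.p1739 C S).2 h

/-! ### The normal closure -/

theorem not_normal {K : Subgroup G} (C : Ctx G) (S : Std0 G K) : ¬ K.Normal := by
  haveI := C.simple
  intro h
  rcases h.eq_bot_or_eq_top with h1 | h1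
  · obtain ⟨t, -, hc⟩ := S.comp
    exact Soft.CompOf.ne_bot hc h1
  · exact S.ne_top h1

theorem normalClosure_eq_top {K : Subgroup G} (C : Ctx G) (S : Std0 G K) :
    normalClosure (K : Set G) = ⊤ := by
  haveI := C.simple
  rcases (inferInstance : (normalClosure (K : Set G)).Normal).eq_bot_or_eq_top with h1 | h1
  · obtain ⟨t, -, hc⟩ := S.comp
    exact absurd (le_bot_iff.mp (h1 ▸ (le_normalClosure (H := K)))) (Soft.CompOf.ne_bot hc)
  · exact h1

/-- S1766 -/
theorem alt_false (F : P1766.{u}) {K : Subgroup G} (C : Ctx G) (S : Std0 G K)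
    (hr : ¬ PRankLE 2 1 ↥(centralizer (K : Set G))) {n : ℕ} (hn : 5 ≤ n)
    (h : Nonempty (↥K ≃* ↥(alternatingGroup (Fin n)))) : False := by
  haveI := C.fin
  haveI := C.simple
  have hO : oddCore G = ⊥ := Soft.oddCore_eq_bot (Soft.even_of_rank C.rank3)
  have e : ↥(normalClosure (K : Set G)) ≃* G :=
    (MulEquiv.subgroupCongr (normalClosure_eq_top C S)).trans Subgroup.topEquiv
  rcases F hO C.strong K S.std n hn h hr with h1 | ⟨⟨f⟩⟩ | ⟨-, ⟨⟨f⟩⟩ | ⟨⟨f⟩⟩⟩
  · exact not_normal C S h1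
  · exact C.nc (concl_alt (Or.inr (by omega)) ⟨e.symm.trans f⟩)
  · exact C.nc (concl_m12 ⟨e.symm.trans f⟩)
  · exact C.nc (concl_j2 ⟨e.symm.trans f⟩)

/-! ### Cyclic centralizers, small rank -/

theorem not_prod {K : Subgroup G} (C : Ctx G) (S : Std0 G K) :
    ¬ Nonempty (↥(layer G) ≃* ↥K × ↥K) := by
  haveI := C.simple
  rintro ⟨f⟩
  have f1 : G ≃* ↥K × ↥K := (Soft.layerEquiv C.na).symm.trans f
  haveI : IsSimpleGroup (↥K × ↥K) := Known.isSimple_congr f1 inferInstance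
  obtain ⟨t, -, hc⟩ := S.comp
  haveI := SignalizersComponents.Components.quasisimple_nontrivial (Soft.CompOf.quasisimple hc)
  obtain ⟨a, ha⟩ := exists_ne (1 : ↥K)
  rcases (inferInstance : (MonoidHom.fst ↥K ↥K).ker.Normal).eq_bot_or_eq_top with h1 | h1
  · have h2 : ((1, a) : ↥K × ↥K) ∈ (MonoidHom.fst ↥K ↥K).ker := by
      rw [MonoidHom.mem_ker]; rfl
    rw [h1, mem_bot] at h2
    exact ha (congrArg Prod.snd h2)
  · have h2 : ((a, 1) : ↥K × ↥K) ∈ (MonoidHom.fst ↥K ↥K).ker := by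
      rw [h1]; trivial
    rw [MonoidHom.mem_ker] at h2
    exact ha h2

theorem not_outer (C : Ctx G) (t : G) :
    ¬ ¬ ∃ e : G, e ∈ layer G ∧ ∀ x ∈ layer G, t * x * t⁻¹ = e * x * e⁻¹ := by
  haveI := C.simple
  intro h
  apply h
  refine ⟨t, ?_, fun x _ => rfl⟩
  rw [Soft.layer_eq_top C.na]
  trivial

/-- The listed statements on small rank. -/
structure Smalls : Prop where
  p1771 : P1771.{u}
  p1772 : P1772.{u}
  p1773 : P1773.{u}
  p1778 : P1778.{u}

theorem two_false (R : Small.Excl.Rows) (F : P1773.{u}) {K : Subgroup G} (C : Ctx G) (S : Std0 G K)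
    (hc : Cyc K) {E : Type} [Field E] [Fintype E] (a : ℕ) (ha : 2 ≤ a) (hE : Fintype.card E = 2 ^ a)
    (h : Nonempty (↥K ⧸ center ↥K ≃* Matrix.ProjectiveSpecialLinearGroup (Fin 2) E)) : False := by
  haveI := C.fin
  haveI := C.simple
  have hO : oddCore G = ⊥ := Soft.oddCore_eq_bot (Soft.even_of_rank C.rank3)
  obtain ⟨t, ht, htK⟩ := exists_inv C S
  have e := (Soft.layerEquiv C.na).symm
  rcases F hO C.strong K S.std (not_normal C S) hc t ht htK a ha hE h with h1 | ⟨-, h1⟩ | ⟨-, h1⟩ |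
    ⟨-, -, L, _, _, hL, ⟨f⟩⟩
  · exact not_prod C S h1
  · exact not_outer C t h1
  · rcases h1 with ⟨⟨f⟩⟩ | ⟨⟨f⟩⟩ | ⟨⟨f⟩⟩ | ⟨⟨f⟩⟩ | ⟨⟨f⟩⟩ | ⟨L, _, _, hL, h1⟩ | ⟨L, _, _, hL, h1⟩ | ⟨L, _, _, hL, ⟨f⟩⟩
    · exact C.nc (concl_m12 ⟨e.trans f⟩)
    · exact C.nc (concl_alt (Or.inr le_rfl) ⟨e.trans f⟩)
    · exact C.nc (concl_j1 ⟨e.trans f⟩)
    · exact C.nc (concl_j2 ⟨e.trans f⟩)
    · exact C.nc (concl_alt (Or.inl rfl) ⟨e.trans f⟩)
    · haveI : Fact (Nat.Prime 5) := ⟨Nat.prime_five⟩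
      have hL' : Fintype.card L = 5 ^ 2 := hL
      rcases h1 with ⟨⟨f⟩⟩ | ⟨⟨f⟩⟩
      · exact not_lieOdd R C (lieOdd_psl 5 (by decide) 2 hL' 2 le_rfl (by rw [hL]; decide) ⟨e.trans f⟩)
      · exact not_lieOdd R C (lieOdd_psu 5 (by decide) 2 hL' 3 5 hL' le_rfl (by decide) ⟨e.trans f⟩)
    · haveI : Fact (Nat.Prime 5) := ⟨Nat.prime_five⟩
      have hL' : Fintype.card L = 5 ^ 1 := hL
      rcases h1 with ⟨⟨f⟩⟩ | ⟨⟨f⟩⟩
      · exact not_lieOdd R C (lieOdd_psl 5 (by decide) 1 hL' 3 (by decide) (by rw [hL]; decide) ⟨e.trans f⟩)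
      · exact not_lieOdd R C (lieOdd_g2 5 (by decide) 1 hL' (by rw [hL]; decide) ⟨e.trans f⟩)
    · haveI : Fact (Nat.Prime 5) := ⟨Nat.prime_five⟩
      have hL' : Fintype.card L = 5 ^ 3 := hL
      exact not_lieOdd R C (lieOdd_3d4 5 (by decide) 3 hL' 5 Nat.prime_five.isPrimePow hL' ⟨e.trans f⟩)
  · exact C.notTwo (Small.Generic.isCharacteristicTwoType_congr (e.trans f).symm (R.g23 L hL))

theorem sz_false (F : P1772.{u}) {K : Subgroup G} (C : Ctx G) (S : Std0 G K)
    (hc : Cyc K) {E : Type} [Field E] [Fintype E] (m : ℕ) (hm : 1 ≤ m) (hE : Fintype.card E = 2 ^ (2 * m + 1))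
    (h : Nonempty (↥K ⧸ center ↥K ≃* ↥(Lie.Sz E (2 ^ (m + 1))))) : False := by
  haveI := C.fin
  haveI := C.simple
  have hO : oddCore G = ⊥ := Soft.oddCore_eq_bot (Soft.even_of_rank C.rank3)
  obtain ⟨t, ht, htK⟩ := exists_inv C S
  have e := (Soft.layerEquiv C.na).symm
  rcases F hO C.strong K S.std (not_normal C S) hc t ht htK m hm hE h with h1 | ⟨-, h1⟩ | ⟨-, -, ⟨f⟩⟩
  · exact not_prod C S h1
  · exact not_outer C t h1
  · exact C.nc (concl_ru ⟨e.trans f⟩)

theorem small_false (R : Small.Excl.Rows) (F : Smalls.{u}) {K : Subgroup G} (C : Ctx G) (S : Std0 G K)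
    (hc : Cyc K) (hz : center ↥K = ⊥) (h : SmallRank (↥K ⧸ center ↥K)) : False := by
  haveI := C.fin
  haveI := C.simple
  have hO : oddCore G = ⊥ := Soft.oddCore_eq_bot (Soft.even_of_rank C.rank3)
  obtain ⟨t, ht, htK⟩ := exists_inv C S
  have hz' : Odd (Nat.card ↥(center ↥K)) := by
    rw [hz, Subgroup.card_bot]; exact odd_one
  have key : ∀ h' : _, P1778.{u} → False := fun h' F' => by
    rcases F' hO C.strong K S.std (not_normal C S) hz' hc t ht htK h' with h1 | ⟨-, h1⟩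
    · exact not_prod C S h1
    · exact not_outer C t h1
  rcases h with ⟨E, _, _, a, ha, hE, h⟩ | ⟨E, _, _, a, ha, hE, h⟩ | ⟨E, _, _, m, hm, hE, h⟩ | h | h | h | h
  · exact two_false R F.p1773 C S hc a ha hE h
  · rcases F.p1771 hO C.strong K S.std (not_normal C S) hc t ht htK a ha hE h with h1 | ⟨-, h1⟩
    · exact not_prod C S h1
    · exact not_outer C t h1
  · exact sz_false F.p1772 C S hc m hm hE h
  · exact key (Or.inl h) F.p1778
  · exact key (Or.inr (Or.inl h)) F.p1778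
  · exact key (Or.inr (Or.inr (Or.inl h))) F.p1778
  · exact key (Or.inr (Or.inr (Or.inr h))) F.p1778

end

end Cfsg.Agent.OddHalf.ListedOut
end

-- part: OddHalf/AltCoverOut
section
set_option linter.all false
open scoped Cfsg.Agent.FastGrp

/-!
# The covering groups of the alternating groups (S1738)

`altCover_false`: the standard component is not a non-split double cover of an alternating group of degree at
least 8.
-/

set_option autoImplicit false
set_option linter.style.haveILetI false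

namespace Cfsg.Agent.OddHalf.AltCoverOut

open Subgroup Cfsg Cfsg.Agent.OddHalf.Iface

universe u

theorem isPComponent {G : Type u} [Group G] [Finite G] {t : G} {K : Subgroup G}
    (h : CompOf t K) (he : Even (Nat.card ↥K)) : IsPComponent 2 (K.subgroupOf (centralizer ({t} : Set G))) := by
  haveI : Fact (Nat.Prime 2) := ⟨Nat.prime_two⟩
  refine SignalizersComponents.EvenComponent.isPComponent_of_isComponent h.2 ?_
  rw [Nat.card_congr (subgroupOfEquivOfLe h.1).toEquiv]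
  exact even_iff_two_dvd.mp he

theorem altCover_false (h : Stmts.P1738.{u}) {G : Type u} [Group G] {K : Subgroup G} (C : Ctx G) (S : Std0 G K)
    (n : ℕ) (hn : 8 ≤ n) (hK : IsNonsplitDoubleCover ↥K ↥(alternatingGroup (Fin n))) : False := by
  haveI := C.fin
  haveI := C.simple
  haveI : Fact (Nat.Prime 2) := ⟨Nat.prime_two⟩
  obtain ⟨t, ht⟩ := exists_prime_orderOf_dvd_card' (G := ↥(center ↥K)) 2 (by rw [hK.1])
  have ht' : orderOf (((t : ↥K) : G)) = 2 := by
    rw [Subgroup.orderOf_coe, Subgroup.orderOf_coe, ht]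
  have htK : (((t : ↥K) : G)) ∈ centralizer (K : Set G) := by
    rw [Subgroup.mem_centralizer_iff]
    intro g hg
    exact congrArg Subtype.val (Subgroup.mem_center_iff.mp t.2 ⟨g, hg⟩)
  have hc := S.term _ ht' htK
  have heven : Even (Nat.card ↥K) := by
    rw [even_iff_two_dvd, ← hK.1]
    exact card_subgroup_dvd_card _
  have hO := RankOne.oddCore_of_compOf (C.bal _ ht') hc
  have e1 : ↥(K.subgroupOf (centralizer ({((t : ↥K) : G)} : Set G))) ≃* ↥K := subgroupOfEquivOfLe hc.1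
  have hO' : oddCore ↥(K.subgroupOf (centralizer ({((t : ↥K) : G)} : Set G))) = ⊥ := by
    have h5 := Lib.Cores.map_equiv_pPrimeCore e1.symm 2
    rw [show pPrimeCore 2 ↥K = ⊥ from hO, Subgroup.map_bot] at h5
    exact h5.symm
  have e2 : (↥(K.subgroupOf (centralizer ({((t : ↥K) : G)} : Set G))) ⧸
      oddCore ↥(K.subgroupOf (centralizer ({((t : ↥K) : G)} : Set G)))) ≃* ↥K :=
    ((QuotientGroup.quotientMulEquivOfEq hO').trans QuotientGroup.quotientBot).trans e1
  have hF : IsQuasisimple ↥(generalizedFittingSubgroup G) :=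
    SignalizersComponents.Components.isQuasisimple_of_mulEquiv (Soft.fstarEquiv C.na).symm (Soft.quasisimple C.na)
  have hmem : (((t : ↥K) : G)) ∈ (K.subgroupOf (centralizer ({((t : ↥K) : G)} : Set G))).map
      (centralizer ({((t : ↥K) : G)} : Set G)).subtype := by
    rw [subgroupOf_map_subtype]
    exact ⟨(t : ↥K).2, mem_centralizer_singleton_iff.mpr rfl⟩
  rcases h (Soft.oddCore_eq_bot (Soft.even_of_rank C.rank3)) hF _ ht' _ (isPComponent hc heven) hmem n hn
    (Fischer.Centralizer.isNonsplitDoubleCover_congr e2.symm hK) with h1 | ⟨-, ⟨e⟩⟩ | ⟨-, ⟨e⟩⟩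
  · have h2 := (Fischer.Centralizer.isNonsplitDoubleCover_congr (Soft.fstarEquiv C.na) h1).1
    rw [Soft.center_eq_bot C.na, Subgroup.card_bot] at h2
    omega
  · exact C.nc (Or.inr (Or.inr (Or.inr (Or.inr (Or.inr (Or.inl ⟨(Soft.fstarEquiv C.na).symm.trans e⟩))))))
  · exact C.nc (Or.inr (Or.inr (Or.inr (Or.inr (Or.inr (Or.inr (Or.inl ⟨(Soft.fstarEquiv C.na).symm.trans e⟩)))))))

end Cfsg.Agent.OddHalf.AltCoverOut
end

-- part: OddHalf/D3/TwoBB
section
prune_inst 0x100000080000000018000040003c4282000100006b0001c100040405848d0020010721e08006121000ae440030004811000070021000002a000000411c0080002802000041a00000000000a003180c00000000000000000000000000000000000000000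
set_option linter.all false
open scoped Cfsg.Agent.FastGrp

-- merged: Cfsg.Agent.OddHalf.D3.TwoAct
section

/-!
# ODD D3 (iii), `n = 2`: the action lemma (text of helper133, bb ODD 9195, (6), and helper832, bb ODD 9609, (1))

A finite group `X` acts on a set `E` of "ends"; `σ` interchanges the two ends of a point; `J α` is a subgroup of the
stabiliser of `α`.
-/

set_option autoImplicit false

namespace Cfsg.Agent.OddHalf.D3.TwoAct

open Cfsg.Agent.OddHalf.D3.ThreeDefs Cfsg.Agent.OddHalf.D3.ThreeMain Cfsg.Agent.OddHalf.D3.TwoCfg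

universe u v

/-- The action. -/
structure Act (X : Type u) (E : Type v) [Group X] where
  ρ : X →* Equiv.Perm E
  σ : E → E
  σσ : ∀ α, σ (σ α) = α
  σne : ∀ α, σ α ≠ α
  σeq : ∀ x α, σ (ρ x α) = ρ x (σ α)
  J : E → Subgroup X
  Jfix : ∀ α, ∀ t ∈ J α, ρ t α = α
  Jconj : ∀ x α, ∀ y ∈ J α, x * y * x⁻¹ ∈ J (ρ x α)
  Jinv : ∀ α, ∃ t ∈ J α, t * t = 1 ∧ t ≠ 1
  Jcomm : ∀ α, ∀ a ∈ J α, ∀ b ∈ J (σ α), a * b = b * a
  Jtri : ∀ α, ∀ t ∈ J α, t ∈ J (σ α) → t * t = 1 → t = 1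
  A1 : ∀ α β, β ≠ α → β ≠ σ α → ∀ t, t * t = 1 → ρ t α = α → ρ t β = β → t = 1
  A6 : ∀ α β, ∀ a ∈ J α, ∀ b ∈ J (σ α), a * a = 1 → a ≠ 1 → b * b = 1 → b ≠ 1 → a * b ∉ J β

namespace Act

variable {X : Type u} {E : Type v} [Group X] (A : Act X E)

theorem ρmul (x y : X) (α : E) : A.ρ (x * y) α = A.ρ x (A.ρ y α) := by
  rw [map_mul]; rfl

theorem fix_σ {x : X} {α : E} (h : A.ρ x α = α) : A.ρ x (A.σ α) = A.σ α := by
  rw [← A.σeq, h]

theorem fix_of_σ {x : X} {α : E} (h : A.ρ x (A.σ α) = A.σ α) : A.ρ x α = α := by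
  have := A.fix_σ h
  rwa [A.σσ] at this

theorem fib_symm {α β : E} (h1 : β ≠ α) (h2 : β ≠ A.σ α) : α ≠ β ∧ α ≠ A.σ β := by
  refine ⟨h1.symm, fun h => h2 ?_⟩
  rw [h, A.σσ]

theorem fib_σ {α β : E} (h1 : β ≠ α) (h2 : β ≠ A.σ α) : A.σ β ≠ α ∧ A.σ β ≠ A.σ α := by
  refine ⟨fun h => h2 ?_, fun h => h1 ?_⟩
  · rw [← h, A.σσ]
  · have := congrArg A.σ h
    rwa [A.σσ, A.σσ] at this

/-- (D1) -/
theorem cen {t g : X} {α : E} (ht2 : t * t = 1) (ht1 : t ≠ 1) (hα : A.ρ t α = α) (hg : t * g = g * t) :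
    A.ρ g α = α ∨ A.ρ g α = A.σ α := by
  by_contra hcon
  push Not at hcon
  refine ht1 (A.A1 α (A.ρ g α) hcon.1 hcon.2 t ht2 hα ?_)
  rw [← A.ρmul, hg, A.ρmul, hα]

/-- (D2) -/
theorem cenJ {t g : X} {α : E} (ht : t ∈ A.J α) (ht2 : t * t = 1) (ht1 : t ≠ 1) (hg : t * g = g * t) :
    A.ρ g α = α := by
  rcases A.cen ht2 ht1 (A.Jfix α t ht) hg with h | h
  · exact h
  · exfalso
    refine ht1 (A.Jtri α t ht ?_ ht2)
    have h1 := A.Jconj g α t ht
    have h2 : g * t * g⁻¹ = t := by rw [← hg]; group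
    rwa [h, h2] at h1

/-- (D2') -/
theorem moves {t : X} {α β : E} (ht : t ∈ A.J α) (ht2 : t * t = 1) (ht1 : t ≠ 1) (h1 : β ≠ α) (h2 : β ≠ A.σ α) :
    A.ρ t β ≠ β ∧ A.ρ t β ≠ A.σ β := by
  refine ⟨fun h => ht1 (A.A1 α β h1 h2 t ht2 (A.Jfix α t ht) h), fun h => ?_⟩
  obtain ⟨j, hj, hj2, hj1⟩ := A.Jinv β
  have hk := A.Jconj t β j hj
  rw [h] at hk
  set k := t * j * t⁻¹ with hkdef
  have hinv : t⁻¹ = t := inv_of_sq ht2
  have hjk := A.Jcomm β j hj k hk
  have hk2 : k * k = 1 := by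
    calc k * k = t * (j * j) * t⁻¹ := by rw [hkdef]; group
      _ = 1 := by rw [hj2]; group
  have hsq : (j * k) * (j * k) = 1 := by
    calc (j * k) * (j * k) = j * (k * j) * k := by group
      _ = j * (j * k) * k := by rw [hjk]
      _ = (j * j) * (k * k) := by group
      _ = 1 := by rw [hj2, hk2, one_mul]
  have hne : j * k ≠ 1 := by
    intro h3
    apply hj1
    refine A.Jtri β j hj ?_ hj2
    rw [eq_inv_of_mul_eq_one_left h3]
    exact inv_mem hk
  have hc : t * (j * k) = (j * k) * t := by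
    have h3 : t * k = j * t := by
      calc t * k = (t * t) * j * t⁻¹ := by rw [hkdef]; group
        _ = j * t := by rw [ht2, hinv, one_mul]
    calc t * (j * k) = (t * j * t⁻¹) * (t * k) := by group
      _ = k * (j * t) := by rw [h3]
      _ = (k * j) * t := by group
      _ = (j * k) * t := by rw [hjk]
  have h4 := A.cenJ ht ht2 ht1 hc
  refine hne (A.A1 α β h1 h2 (j * k) hsq h4 ?_)
  have h5 : A.ρ k β = β := A.fix_of_σ (A.Jfix _ k hk)
  rw [A.ρmul, h5, A.Jfix β j hj]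

theorem dih_pow {t t' : X} (ht2 : t * t = 1) (ht2' : t' * t' = 1) (k : ℕ) :
    t * (t * t') ^ k * t = ((t * t') ^ k)⁻¹ := by
  have hinv : t⁻¹ = t := inv_of_sq ht2
  have hinv' : t'⁻¹ = t' := inv_of_sq ht2'
  have h1 : t * (t * t') * t⁻¹ = (t * t')⁻¹ := by
    rw [mul_inv_rev, hinv', hinv]
    calc t * (t * t') * t = (t * t) * t' * t := by group
      _ = t' * t := by rw [ht2, one_mul]
  have h2 : (t * (t * t') * t⁻¹) ^ k = t * (t * t') ^ k * t⁻¹ := conj_pow
  calc t * (t * t') ^ k * t = t * (t * t') ^ k * t⁻¹ := by rw [hinv]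
    _ = ((t * t')⁻¹) ^ k := by rw [← h2, h1]
    _ = ((t * t') ^ k)⁻¹ := inv_pow _ _

/-- `c^k t c^{-k} = c^{2k} t`, `c = t t'` -/
theorem dih_pow' {t t' : X} (ht2 : t * t = 1) (ht2' : t' * t' = 1) (k : ℕ) :
    (t * t') ^ k * t * ((t * t') ^ k)⁻¹ = (t * t') ^ (2 * k) * t := by
  rw [← dih_pow ht2 ht2' k, two_mul, pow_add]
  calc (t * t') ^ k * t * (t * (t * t') ^ k * t) = (t * t') ^ k * (t * t) * (t * t') ^ k * t := by group
    _ = _ := by rw [ht2, mul_one]

/-- an odd product: conjugate -/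
theorem conj_of_odd {t t' : X} (ht2 : t * t = 1) (ht2' : t' * t' = 1) {m : ℕ} (h : (t * t') ^ (2 * m + 1) = 1) :
    (t * t') ^ m * t * ((t * t') ^ m)⁻¹ = t' := by
  have hinv : t⁻¹ = t := inv_of_sq ht2
  have hinv' : t'⁻¹ = t' := inv_of_sq ht2'
  rw [dih_pow' ht2 ht2']
  have h1 : (t * t') ^ (2 * m) = (t * t')⁻¹ := by
    rw [pow_succ] at h
    exact eq_inv_of_mul_eq_one_left h
  rw [h1, mul_inv_rev, hinv', hinv]
  calc t' * t * t = t' * (t * t) := by group
    _ = t' := by rw [ht2, mul_one]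

section
variable [Finite X]

/-- the central involution of the dihedral group `⟨t, t'⟩` -/
theorem exists_mid {t t' : X} (ht2 : t * t = 1) (ht2' : t' * t' = 1) (h : ∀ m : ℕ, (t * t') ^ (2 * m + 1) ≠ 1) :
    ∃ z : X, z * z = 1 ∧ z ≠ 1 ∧ t * z = z * t ∧ t' * z = z * t' ∧ ∃ m, z = (t * t') ^ m ∧
      orderOf (t * t') = 2 * m := by
  have hpos : 0 < orderOf (t * t') := orderOf_pos _
  rcases Nat.even_or_odd' (orderOf (t * t')) with ⟨m, hm | hm⟩
  · have hz2 : (t * t') ^ m * (t * t') ^ m = 1 := by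
      rw [← pow_add, ← two_mul, ← hm]; exact pow_orderOf_eq_one _
    have hz1 : (t * t') ^ m ≠ 1 := by
      intro h1
      have h2 := orderOf_dvd_of_pow_eq_one h1
      have h3 := Nat.le_of_dvd (by omega) h2
      omega
    have hc : t * (t * t') ^ m = (t * t') ^ m * t := by
      have h1 := dih_pow ht2 ht2' m
      rw [inv_of_sq hz2] at h1
      calc t * (t * t') ^ m = (t * (t * t') ^ m * t) * t * (t * t)⁻¹ := by group
        _ = _ := by rw [h1, ht2, inv_one, mul_one]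
    refine ⟨(t * t') ^ m, hz2, hz1, hc, ?_, m, rfl, hm⟩
    have h1 : t' = t * (t * t') := by
      calc t' = (t * t) * t' := by rw [ht2, one_mul]
        _ = _ := by group
    have h2 : (t * t') * (t * t') ^ m = (t * t') ^ m * (t * t') := by rw [← pow_succ', ← pow_succ]
    calc t' * (t * t') ^ m = t * (t * t') * (t * t') ^ m := by rw [← h1]
      _ = t * ((t * t') * (t * t') ^ m) := mul_assoc _ _ _
      _ = t * (t * t') ^ m * (t * t') := by rw [h2]; group
      _ = (t * t') ^ m * (t * (t * t')) := by rw [hc]; group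
      _ = (t * t') ^ m * t' := by rw [← h1]
  · exact absurd (by rw [← hm]; exact pow_orderOf_eq_one _) (h m)

/-- (D3) -/
theorem exists_y {α β : E} (h1 : β ≠ α) (h2 : β ≠ A.σ α) {t t' : X} (ht : t ∈ A.J α) (ht2 : t * t = 1) (ht1 : t ≠ 1)
    (ht' : t' ∈ A.J β) (ht2' : t' * t' = 1) (ht1' : t' ≠ 1) :
    ∃ y γ, y ∈ A.J γ ∧ y * y = 1 ∧ y ≠ 1 ∧ y * t * y⁻¹ = t' ∧ A.ρ y α = β := by
  have hex : ∃ m : ℕ, (t * t') ^ (2 * m + 1) = 1 := by
    by_contra hcon
    push Not at hcon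
    obtain ⟨z, hz2, hz1, hc, hc', -⟩ := exists_mid ht2 ht2' hcon
    exact hz1 (A.A1 α β h1 h2 z hz2 (A.cenJ ht ht2 ht1 hc) (A.cenJ ht' ht2' ht1' hc'))
  obtain ⟨m, hm⟩ := hex
  have hinv : t⁻¹ = t := inv_of_sq ht2
  set c := t * t' with hc
  -- `y = c^m t = c^j t c^-j`, `j = m (m + 1)`
  have hy : c ^ (m * (m + 1)) * t * (c ^ (m * (m + 1)))⁻¹ = c ^ m * t := by
    rw [hc, dih_pow' ht2 ht2', ← hc]
    congr 1
    have e : 2 * (m * (m + 1)) = (2 * m + 1) * m + m := by ring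
    rw [e, pow_add, pow_mul, hm, one_pow, one_mul]
  set y := c ^ m * t with hydef
  have hyJ := A.Jconj (c ^ (m * (m + 1))) α t ht
  rw [hy] at hyJ
  have hy2 : y * y = 1 := by
    rw [← hy]
    calc c ^ (m * (m + 1)) * t * (c ^ (m * (m + 1)))⁻¹ * (c ^ (m * (m + 1)) * t * (c ^ (m * (m + 1)))⁻¹)
        = c ^ (m * (m + 1)) * (t * t) * (c ^ (m * (m + 1)))⁻¹ := by group
      _ = 1 := by rw [ht2]; group
  have hy1 : y ≠ 1 := by
    rw [← hy]
    intro h
    apply ht1
    calc t = (c ^ (m * (m + 1)))⁻¹ * (c ^ (m * (m + 1)) * t * (c ^ (m * (m + 1)))⁻¹) * c ^ (m * (m + 1)) := by group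
      _ = 1 := by rw [h]; group
  have hyt : y * t * y⁻¹ = t' := by
    have h3 := conj_of_odd ht2 ht2' hm
    rw [← hc] at h3
    calc y * t * y⁻¹ = c ^ m * (t * t * t⁻¹) * (c ^ m)⁻¹ := by rw [hydef]; group
      _ = c ^ m * t * (c ^ m)⁻¹ := by rw [ht2, hinv, one_mul]
      _ = t' := h3
  refine ⟨y, _, hyJ, hy2, hy1, hyt, ?_⟩
  have h3 := A.Jconj y α t ht
  rw [hyt] at h3
  by_contra hne
  by_cases hne2 : A.ρ y α = A.σ β
  · rw [hne2] at h3
    exact ht1' (A.Jtri β t' ht' h3 ht2')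
  · have h4 : β ≠ A.ρ y α := fun h => hne h.symm
    have h5 : β ≠ A.σ (A.ρ y α) := fun h => hne2 (by rw [h, A.σσ])
    exact (A.moves h3 ht2' ht1' h4 h5).1 (A.Jfix β t' ht')

/-- (D4) -/
theorem exists_f {α β : E} (h1 : β ≠ α) (h2 : β ≠ A.σ α) :
    ∃ f γ, f * f = 1 ∧ f ≠ 1 ∧ A.ρ f α = A.σ α ∧ A.ρ f γ = γ ∧ γ ≠ α ∧ γ ≠ A.σ α := by
  obtain ⟨t, ht, ht2, ht1⟩ := A.Jinv α
  obtain ⟨t', ht', ht2', ht1'⟩ := A.Jinv β
  obtain ⟨t'', ht'', ht2'', ht1''⟩ := A.Jinv (A.σ β)
  obtain ⟨y, γ, hyJ, hy2, hy1, -, hyα⟩ := A.exists_y h1 h2 ht ht2 ht1 ht' ht2' ht1'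
  obtain ⟨y1, γ1, hyJ1, hy21, hy11, -, hyα1⟩ := A.exists_y (A.fib_σ h1 h2).1 (A.fib_σ h1 h2).2 ht ht2 ht1 ht'' ht2'' ht1''
  -- `e = y1 y`
  have hyy : ∀ x : X, x * x = 1 → ∀ δ, A.ρ x (A.ρ x δ) = δ := by
    intro x hx δ
    rw [← A.ρmul, hx, map_one]; rfl
  have hyβ : A.ρ y β = α := by rw [← hyα, hyy y hy2]
  have heβ : A.ρ (y1 * y) β = A.σ β := by rw [A.ρmul, hyβ, hyα1]
  have heα : A.ρ (y1 * y) α = A.σ α := by
    rw [A.ρmul, hyα]
    have h3 : A.ρ y1 (A.σ β) = α := by rw [← hyα1, hyy y1 hy21]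
    rw [← A.σeq] at h3
    rw [← h3, A.σσ]
  have hodd : ∀ m : ℕ, ∀ δ, A.ρ (y1 * y) δ = A.σ δ → A.ρ ((y1 * y) ^ m) δ = δ ∨ A.ρ ((y1 * y) ^ m) δ = A.σ δ := by
    intro m δ hδ
    induction m with
    | zero => left; rw [pow_zero, map_one]; rfl
    | succ m ih =>
      rw [pow_succ', A.ρmul]
      rcases ih with h | h
      · right; rw [h, hδ]
      · left; rw [h, ← A.σeq, hδ, A.σσ]
  have hpar : ∀ m : ℕ, ∀ δ, A.ρ (y1 * y) δ = A.σ δ → A.ρ ((y1 * y) ^ (2 * m)) δ = δ := by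
    intro m δ hδ
    induction m with
    | zero => rw [mul_zero, pow_zero, map_one]; rfl
    | succ m ih =>
      rw [mul_add, mul_one, pow_add, A.ρmul, pow_two, A.ρmul, hδ, ← A.σeq, hδ, A.σσ, ih]
  have hpar' : ∀ m : ℕ, ∀ δ, A.ρ (y1 * y) δ = A.σ δ → A.ρ ((y1 * y) ^ (2 * m + 1)) δ = A.σ δ := by
    intro m δ hδ
    rw [pow_succ', A.ρmul, hpar m δ hδ, hδ]
  obtain ⟨f, hf2, hf1, hfc, hfc', m, hfm, hord⟩ := exists_mid hy21 hy2 (by
    intro m h
    have h3 := hpar' m α heα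
    rw [h, map_one] at h3
    exact A.σne α h3.symm)
  have hγf := A.cenJ hyJ hy2 hy1 hfc'
  rcases Nat.even_or_odd' m with ⟨k, hk | hk⟩
  · exfalso
    refine hf1 (A.A1 α β h1 h2 f hf2 ?_ ?_)
    · rw [hfm, hk]; exact hpar k α heα
    · rw [hfm, hk]; exact hpar k β heβ
  · have hfα : A.ρ f α = A.σ α := by rw [hfm, hk]; exact hpar' k α heα
    refine ⟨f, γ, hf2, hf1, hfα, hγf, ?_, ?_⟩
    · rintro rfl
      exact A.σne γ (hfα.symm.trans hγf)
    · rintro rfl
      rw [← A.σeq, hfα, A.σσ] at hγf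
      exact A.σne α hγf.symm

/-- the stabiliser of an end -/
def stb (α : E) : Subgroup X where
  carrier := {x | A.ρ x α = α}
  one_mem' := by change A.ρ 1 α = α; rw [map_one]; rfl
  mul_mem' := by
    intro x y hx hy
    change A.ρ (x * y) α = α
    rw [A.ρmul, hy, hx]
  inv_mem' := by
    intro x hx
    change A.ρ x⁻¹ α = α
    conv_lhs => rw [← (hx : A.ρ x α = α)]
    rw [← A.ρmul, inv_mul_cancel, map_one]; rfl

theorem mem_stb {α : E} {x : X} : x ∈ A.stb α ↔ A.ρ x α = α := Iff.rfl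

theorem J_le_stb (α : E) : A.J α ≤ A.stb α := fun t ht => A.Jfix α t ht

theorem stb_σ (α : E) : A.stb (A.σ α) = A.stb α := by
  ext x
  exact ⟨fun h => A.fix_of_σ h, fun h => A.fix_σ h⟩

theorem cj_J {x : X} {α : E} (hx : x ∈ A.stb α) : cj x (A.J α) = A.J α := by
  ext y
  rw [mem_cj]
  constructor
  · intro h
    have h1 := A.Jconj x α _ h
    have e : x * (x⁻¹ * y * x) * x⁻¹ = y := by group
    rw [e, A.mem_stb.mp hx] at h1
    exact h1
  · intro h
    have h1 := A.Jconj x⁻¹ α _ h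
    rw [A.mem_stb.mp (inv_mem hx), inv_inv] at h1
    exact h1

/-- (D5): 2-subgroups of the stabiliser of an end have order at most 4 -/
theorem card_le_four {α β : E} (h1 : β ≠ α) (h2 : β ≠ A.σ α) {R : Subgroup X} (hR : IsPGroup 2 R) (hRs : R ≤ A.stb α) :
    Nat.card R ≤ 4 := by
  obtain ⟨f, γ, hf2, hf1, hfα, hfγ, hγα, hγσ⟩ := A.exists_f h1 h2
  have hfinv : f⁻¹ = f := inv_of_sq hf2
  -- `f` normalises the stabiliser
  have hfX : ∀ w ∈ Subgroup.zpowers f, cj w (A.stb α) = A.stb α := by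
    have : Subgroup.zpowers f ≤ Nm ({A.stb α} : Set (Subgroup X)) := by
      rw [Subgroup.zpowers_le]
      intro Y hY
      rw [Set.mem_singleton_iff] at hY
      rw [hY]
      ext x
      rw [mem_cj, hfinv, A.mem_stb, A.mem_stb, A.ρmul, A.ρmul, hfα]
      constructor
      · intro h
        have h3 : A.ρ f (A.ρ f (A.ρ x (A.σ α))) = A.ρ f α := by rw [h]
        rw [← A.ρmul f f, hf2, map_one, hfα] at h3
        exact A.fix_of_σ h3
      · intro h
        rw [A.fix_σ h, ← A.σeq, hfα, A.σσ]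
    exact fun w hw => this hw _ rfl
  have hfz : ∀ w ∈ Subgroup.zpowers f, w * w = 1 := by
    intro w hw
    obtain ⟨k, rfl⟩ := Subgroup.mem_zpowers_iff.mp hw
    have h2 : f ^ (2 : ℤ) = 1 := by rw [zpow_ofNat, pow_two]; exact hf2
    rw [← zpow_add, ← two_mul, zpow_mul, h2, one_zpow]
  obtain ⟨S, hSX, hS, hSf, hSc⟩ := exists_inv_syl (isPGroup_of_sq hfz) hfX
  have hSyl : IsSyl S (A.stb α) := ⟨hSX, hS, hSc⟩
  have hfS : cj f S = S := hSf f (Subgroup.mem_zpowers f)
  -- 2-elements of `S` commuting with `f`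
  have huniq : ∀ g ∈ S, g ≠ 1 → f * g = g * f → ∀ h ∈ S, h ≠ 1 → f * h = h * f → g = h := by
    have hz : ∀ g ∈ S, g ≠ 1 → f * g = g * f → A.ρ g γ = A.σ γ := by
      intro g hg hg1 hgf
      rcases A.cen hf2 hf1 hfγ hgf with h | h
      · exfalso
        obtain ⟨n, hn2, hn1⟩ := exists_pow_inv hS hg hg1
        have hst : g ∈ A.stb γ := h
        exact hn1 (A.A1 α γ hγα hγσ (g ^ n) hn2 (pow_mem (hSX hg) n) (pow_mem hst n))
      · exact h
    intro g hg hg1 hgf h hh hh1 hhf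
    have e1 := hz g hg hg1 hgf
    have e2 := hz h hh hh1 hhf
    by_contra hne
    have hgh : g⁻¹ * h ≠ 1 := fun h3 => hne (inv_mul_eq_one.mp h3)
    have e3 : A.ρ (g⁻¹ * h) γ = γ := by
      rw [A.ρmul, e2, ← e1, ← A.ρmul, inv_mul_cancel, map_one]; rfl
    obtain ⟨n, hn2, hn1⟩ := exists_pow_inv hS (mul_mem (inv_mem hg) hh) hgh
    have hst : g⁻¹ * h ∈ A.stb γ := e3
    exact hn1 (A.A1 α γ hγα hγσ _ hn2 (pow_mem (hSX (mul_mem (inv_mem hg) hh)) n) (pow_mem hst n))
  -- the involution `a`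
  obtain ⟨a0, ha0, ha02, ha01⟩ := A.Jinv α
  obtain ⟨a, ha, haS, ha2, ha1⟩ := hSyl.exists_inv (A.J_le_stb α) (fun x hx => A.cj_J hx) ha0 ha02 ha01
  have hJf : ∀ j ∈ A.J α, f * j * f⁻¹ ∈ A.J (A.σ α) := by
    intro j hj
    have := A.Jconj f α j hj
    rwa [hfα] at this
  have hSf' : ∀ j ∈ S, f * j * f⁻¹ ∈ S := fun j hj => conj_mem_of_cj hfS hj
  have htri : ∀ x ∈ S, x ∈ A.J α → x ∈ A.J (A.σ α) → x = 1 := by
    intro x hx h3 h4
    by_contra hx1
    obtain ⟨n, hn2, hn1⟩ := exists_pow_inv hS hx hx1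
    exact hn1 (A.Jtri α _ (pow_mem h3 n) (pow_mem h4 n) hn2)
  -- `S ∩ J = {1, a}`
  have hdiag : ∀ j ∈ S, j ∈ A.J α → f * (j * (f * j * f⁻¹)) = (j * (f * j * f⁻¹)) * f := by
    intro j hj hjJ
    have h3 := A.Jcomm α j hjJ _ (hJf j hjJ)
    calc f * (j * (f * j * f⁻¹)) = (f * j * f⁻¹) * ((f * f) * j * f⁻¹) := by group
      _ = (f * j * f⁻¹) * (j * f) := by rw [hf2, one_mul, hfinv]
      _ = ((f * j * f⁻¹) * j) * f := by group
      _ = (j * (f * j * f⁻¹)) * f := by rw [h3]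
  have hdne : ∀ j ∈ S, j ∈ A.J α → j ≠ 1 → j * (f * j * f⁻¹) ≠ 1 := by
    intro j hj hjJ hj1 h3
    refine hj1 (htri j hj hjJ ?_)
    rw [eq_inv_of_mul_eq_one_left h3]
    exact inv_mem (hJf j hjJ)
  have hSJ : ∀ j ∈ S, j ∈ A.J α → j ≠ 1 → j = a := by
    intro j hj hjJ hj1
    have h3 := huniq _ (mul_mem hj (hSf' j hj)) (hdne j hj hjJ hj1) (hdiag j hj hjJ) _ (mul_mem haS (hSf' a haS))
      (hdne a haS ha ha1) (hdiag a haS ha)
    have h4 : a⁻¹ * j = (f * a * f⁻¹) * (f * j * f⁻¹)⁻¹ := by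
      calc a⁻¹ * j = a⁻¹ * (j * (f * j * f⁻¹)) * (f * j * f⁻¹)⁻¹ := by group
        _ = a⁻¹ * (a * (f * a * f⁻¹)) * (f * j * f⁻¹)⁻¹ := by rw [h3]
        _ = _ := by group
    have h5 := htri (a⁻¹ * j) (mul_mem (inv_mem haS) hj) (mul_mem (inv_mem ha) hjJ)
      (by rw [h4]; exact mul_mem (hJf a ha) (inv_mem (hJf j hjJ)))
    exact (inv_mul_eq_one.mp h5).symm
  set b := f * a * f⁻¹ with hb
  have hbS : b ∈ S := hSf' a haS
  have hbJ : b ∈ A.J (A.σ α) := hJf a ha
  have hb2 : b * b = 1 := by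
    calc b * b = f * (a * a) * f⁻¹ := by rw [hb]; group
      _ = 1 := by rw [ha2]; group
  have hb1 : b ≠ 1 := by
    intro h3
    apply ha1
    calc a = f⁻¹ * b * f := by rw [hb]; group
      _ = 1 := by rw [h3]; group
  have hfb : f * b * f⁻¹ = a := by
    calc f * b * f⁻¹ = (f * f) * a * (f * f)⁻¹ := by rw [hb]; group
      _ = a := by rw [hf2]; group
  -- `a` is central in `S`
  have hac : ∀ s ∈ S, s * a = a * s := by
    intro s hs
    have h3 := A.Jconj s α a ha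
    rw [A.mem_stb.mp (hSX hs)] at h3
    have h4 := hSJ _ (mul_mem (mul_mem hs haS) (inv_mem hs)) h3 (by
      intro h5
      apply ha1
      calc a = s⁻¹ * (s * a * s⁻¹) * s := by group
        _ = 1 := by rw [h5]; group)
    calc s * a = s * a * s⁻¹ * s := by group
      _ = a * s := by rw [h4]
  have hbc : ∀ s ∈ S, s * b = b * s := by
    intro s hs
    have h3 : f⁻¹ * s * f ∈ S := by
      have := conj_mem_of_cj (cj_inv_eq hfS) hs
      rwa [inv_inv] at this
    have h4 := hac _ h3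
    calc s * b = f * ((f⁻¹ * s * f) * a) * f⁻¹ := by rw [hb]; group
      _ = f * (a * (f⁻¹ * s * f)) * f⁻¹ := by rw [h4]
      _ = b * s := by rw [hb]; group
  have hab := A.Jcomm α a ha b hbJ
  -- the four-group
  let V : Subgroup X :=
    { carrier := {x | x = 1 ∨ x = a ∨ x = b ∨ x = a * b}
      one_mem' := Or.inl rfl
      mul_mem' := by
        rintro x y (rfl | rfl | rfl | rfl) (rfl | rfl | rfl | rfl)
        · left; rw [one_mul]
        · right; left; rw [one_mul]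
        · right; right; left; rw [one_mul]
        · right; right; right; rw [one_mul]
        · right; left; rw [mul_one]
        · left; exact ha2
        · right; right; right; rfl
        · right; right; left; rw [← mul_assoc, ha2, one_mul]
        · right; right; left; rw [mul_one]
        · right; right; right; rw [hab]
        · left; exact hb2
        · right; left; rw [hab, ← mul_assoc, hb2, one_mul]
        · right; right; right; rw [mul_one]
        · right; right; left; rw [hab, mul_assoc, ha2, mul_one]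
        · right; left; rw [mul_assoc, hb2, mul_one]
        · left
          calc a * b * (a * b) = a * (b * a) * b := by group
            _ = a * (a * b) * b := by rw [hab]
            _ = (a * a) * (b * b) := by group
            _ = 1 := by rw [ha2, hb2, one_mul]
      inv_mem' := by
        rintro x (rfl | rfl | rfl | rfl)
        · left; rw [inv_one]
        · right; left; exact inv_of_sq ha2
        · right; right; left; exact inv_of_sq hb2
        · right; right; right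
          rw [mul_inv_rev, inv_of_sq ha2, inv_of_sq hb2, hab] }
  have hVmem : ∀ x, x ∈ V ↔ x = 1 ∨ x = a ∨ x = b ∨ x = a * b := fun x => Iff.rfl
  have hVcard : Nat.card V ≤ 4 := by
    have h3 : (V : Set X) ⊆ (({1, a, b, a * b} : Set X)) := by
      intro x hx
      exact hx
    have h4 : Nat.card V ≤ Set.ncard ({1, a, b, a * b} : Set X) := by
      rw [← Nat.card_coe_set_eq]
      exact Set.ncard_le_ncard h3 (Set.toFinite _)
    refine h4.trans ?_
    calc Set.ncard ({1, a, b, a * b} : Set X) ≤ Set.ncard ({a, b, a * b} : Set X) + 1 := Set.ncard_insert_le _ _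
      _ ≤ Set.ncard ({b, a * b} : Set X) + 1 + 1 := by have := Set.ncard_insert_le a ({b, a * b} : Set X); omega
      _ ≤ Set.ncard ({a * b} : Set X) + 1 + 1 + 1 := by have := Set.ncard_insert_le b ({a * b} : Set X); omega
      _ = 4 := by rw [Set.ncard_singleton]
  have hVS : V ≤ S := by
    intro x hx
    rcases (hVmem x).mp hx with rfl | rfl | rfl | rfl
    · exact one_mem _
    · exact haS
    · exact hbS
    · exact mul_mem haS hbS
  have hfV : cj f V = V := by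
    ext x
    rw [mem_cj, hfinv, hVmem, hVmem]
    have hfa : f * a = b * f := by rw [hb]; group
    have hfb' : f * b = a * f := by rw [← hfb]; group
    have e : x = f * (f * x * f) * f := by
      calc x = (f * f) * x * (f * f) := by rw [hf2, one_mul, mul_one]
        _ = _ := by group
    constructor
    · rintro (h | h | h | h)
      · left; rw [e, h, mul_one, hf2]
      · right; right; left
        rw [e, h, hfa]
        calc b * f * f = b * (f * f) := by group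
          _ = b := by rw [hf2, mul_one]
      · right; left
        rw [e, h, hfb']
        calc a * f * f = a * (f * f) := by group
          _ = a := by rw [hf2, mul_one]
      · right; right; right
        rw [e, h]
        calc f * (a * b) * f = (f * a) * b * f := by group
          _ = b * (f * b) * f := by rw [hfa]; group
          _ = b * a * (f * f) := by rw [hfb']; group
          _ = a * b := by rw [hf2, mul_one, hab]
    · rintro (rfl | rfl | rfl | rfl)
      · left; rw [mul_one, hf2]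
      · right; right; left
        rw [hfa]
        calc b * f * f = b * (f * f) := by group
          _ = b := by rw [hf2, mul_one]
      · right; left
        rw [hfb']
        calc a * f * f = a * (f * f) := by group
          _ = a := by rw [hf2, mul_one]
      · right; right; right
        calc f * (a * b) * f = (f * a) * b * f := by group
          _ = b * (f * b) * f := by rw [hfa]; group
          _ = b * a * (f * f) := by rw [hfb']; group
          _ = a * b := by rw [hf2, mul_one, hab]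
  -- `S = V`
  have hSV : S ≤ V := by
    have hVf : ∀ w ∈ Subgroup.zpowers f, cj w V = V := by
      have : Subgroup.zpowers f ≤ Nm ({V} : Set (Subgroup X)) := by
        rw [Subgroup.zpowers_le]
        intro Y hY
        rw [Set.mem_singleton_iff] at hY
        rw [hY]; exact hfV
      exact fun w hw => this hw _ rfl
    have hT := isPGroup_mulSub (h := hSf) hS (isPGroup_of_sq hfz)
    have hDT : mulSub V (Subgroup.zpowers f) hVf ≤ mulSub S (Subgroup.zpowers f) hSf :=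
      mulSub_le (hVS.trans le_mulSub_left) le_mulSub_right
    have hfS' : f ∉ S := by
      intro h
      exact A.σne α (hfα.symm.trans (hSX h))
    have hfz' : ∀ w ∈ Subgroup.zpowers f, w = 1 ∨ w = f := by
      intro w hw
      obtain ⟨k, rfl⟩ := Subgroup.mem_zpowers_iff.mp hw
      have h2 : f ^ (2 : ℤ) = 1 := by rw [zpow_ofNat, pow_two]; exact hf2
      rcases Int.even_or_odd' k with ⟨m, rfl | rfl⟩
      · left; rw [zpow_mul, h2, one_zpow]
      · right; rw [zpow_add, zpow_mul, h2, one_zpow, one_mul, zpow_one]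
    by_contra hnot
    -- `V⟨f⟩ < S⟨f⟩`
    obtain ⟨x0, ⟨s, hs, w, hw, rfl⟩, hx0, hx0c⟩ := exists_norm hT hDT (by
      intro hle
      apply hnot
      intro s hs
      obtain ⟨v, hv, w, hw, hsvw⟩ := hle (le_mulSub_left hs)
      rcases hfz' w hw with rfl | rfl
      · rw [hsvw, mul_one]; exact hv
      · exfalso
        apply hfS'
        have : w = v⁻¹ * s := by rw [hsvw]; group
        rw [this]
        exact mul_mem (inv_mem (hVS hv)) hs)
    have hsV : s ∉ V := fun h => hx0 ⟨s, h, w, hw, rfl⟩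
    have hsc : cj s (mulSub V (Subgroup.zpowers f) hVf) = mulSub V (Subgroup.zpowers f) hVf := by
      have h3 : s = s * w * w⁻¹ := by group
      rw [h3]
      exact cj_mul_eq hx0c (cj_eq_of_mem (inv_mem (le_mulSub_right hw)))
    obtain ⟨v, hv, w', hw', hsf⟩ := conj_mem_of_cj hsc (le_mulSub_right (h := hVf) (Subgroup.mem_zpowers f))
    -- `s f s⁻¹ = v f`
    have hsf' : s * f * s⁻¹ = v * f := by
      rcases hfz' w' hw' with rfl | rfl
      · exfalso
        apply hfS'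
        rw [mul_one] at hsf
        have : f = s⁻¹ * v * s := by rw [← hsf]; group
        rw [this]
        exact mul_mem (mul_mem (inv_mem hs) (hVS hv)) hs
      · exact hsf
    have hvf : v * f * (v * f) = 1 := by
      rw [← hsf']
      calc s * f * s⁻¹ * (s * f * s⁻¹) = s * (f * f) * s⁻¹ := by group
        _ = 1 := by rw [hf2]; group
    have hfa : f * a = b * f := by rw [hb]; group
    have hfb' : f * b = a * f := by rw [← hfb]; group
    -- an element of `S - V` commuting with `f`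
    have hex : ∃ s' ∈ S, s' ∉ V ∧ f * s' = s' * f := by
      rcases (hVmem v).mp hv with rfl | rfl | rfl | rfl
      · refine ⟨s, hs, hsV, ?_⟩
        rw [one_mul] at hsf'
        calc f * s = (s * f * s⁻¹) * s := by rw [hsf']
          _ = s * f := by group
      · exfalso
        apply ha1
        have h3 : v * b = 1 := by
          calc v * b = v * (b * f) * f⁻¹ := by group
            _ = v * (f * v) * f⁻¹ := by rw [← hfa]
            _ = (v * f * (v * f)) * f⁻¹ * f⁻¹ := by group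
            _ = 1 := by rw [hvf, hfinv, one_mul, hf2]
        exact htri v haS ha (by rw [eq_inv_of_mul_eq_one_left h3]; exact inv_mem hbJ)
      · exfalso
        apply ha1
        have h3 : b * a = 1 := by
          calc b * a = b * (a * f) * f⁻¹ := by group
            _ = b * (f * b) * f⁻¹ := by rw [← hfb']
            _ = (b * f * (b * f)) * f⁻¹ * f⁻¹ := by group
            _ = 1 := by rw [hvf, hfinv, one_mul, hf2]
        exact htri a haS ha (by rw [eq_inv_of_mul_eq_one_right h3]; exact inv_mem hbJ)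
      · refine ⟨a * s, mul_mem haS hs, fun h => hsV ?_, ?_⟩
        · have : s = a⁻¹ * (a * s) := by group
          rw [this]
          exact mul_mem (inv_mem (show a ∈ V from Or.inr (Or.inl rfl))) h
        · have h3 : s * f = a * b * f * s := by
            calc s * f = s * f * s⁻¹ * s := by group
              _ = a * b * f * s := by rw [hsf']
          calc f * (a * s) = b * f * s := by rw [← mul_assoc, hfa]
            _ = (a * a) * b * f * s := by rw [ha2, one_mul]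
            _ = a * (a * b * f * s) := by group
            _ = a * s * f := by rw [← h3]; group
    obtain ⟨s', hs', hs'V, hs'f⟩ := hex
    apply hs'V
    have h3 := huniq s' hs' (fun h => hs'V (by rw [h]; exact one_mem _)) hs'f _ (mul_mem haS hbS)
      (hdne a haS ha ha1) (hdiag a haS ha)
    rw [h3]
    exact Or.inr (Or.inr (Or.inr rfl))
  have h3 := hSyl.card_le hRs hR
  have h4 : Nat.card S ≤ Nat.card V := Nat.card_le_card_of_injective _ (Subgroup.inclusion_injective hSV)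
  omega

/-- **(1) of helper832** -/
theorem main {α β : E} (h1 : β ≠ α) (h2 : β ≠ A.σ α) {a b a' : X} (ha : a ∈ A.J α) (ha2 : a * a = 1) (ha1 : a ≠ 1)
    (hb : b ∈ A.J (A.σ α)) (hb2 : b * b = 1) (hb1 : b ≠ 1) (ha' : a' ∈ A.J β) (ha2' : a' * a' = 1) (ha1' : a' ≠ 1) :
    ∃ b' ∈ A.J (A.σ β), b' * b' = 1 ∧ b' ≠ 1 ∧ A.ρ (a' * b') α = A.σ α ∧ A.ρ (a * b) β = A.σ β := by
  have hab := A.Jcomm α a ha b hb
  obtain ⟨h1', h2'⟩ := A.fib_symm h1 h2
  have hx2 : a * b * (a * b) = 1 := by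
    calc a * b * (a * b) = a * (b * a) * b := by group
      _ = a * (a * b) * b := by rw [hab]
      _ = (a * a) * (b * b) := by group
      _ = 1 := by rw [ha2, hb2, one_mul]
  have hx1 : a * b ≠ 1 := by
    intro h
    refine ha1 (A.Jtri α a ha ?_ ha2)
    rw [eq_inv_of_mul_eq_one_left h]
    exact inv_mem hb
  have hxα : A.ρ (a * b) α = α := by
    rw [A.ρmul, A.fix_of_σ (A.Jfix _ b hb), A.Jfix α a ha]
  set x := a * b with hx
  obtain ⟨z, hz2, hz1, hzx, hza, -⟩ := exists_mid hx2 ha2' (by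
    intro m hm
    have h3 := conj_of_odd hx2 ha2' hm
    have h4 := A.Jconj ((x * a') ^ m)⁻¹ β a' ha'
    refine A.A6 α (A.ρ ((x * a') ^ m)⁻¹ β) a ha b hb ha2 ha1 hb2 hb1 ?_
    rw [← hx]
    have e : ((x * a') ^ m)⁻¹ * a' * ((x * a') ^ m)⁻¹⁻¹ = x := by
      calc ((x * a') ^ m)⁻¹ * a' * ((x * a') ^ m)⁻¹⁻¹
          = ((x * a') ^ m)⁻¹ * ((x * a') ^ m * x * ((x * a') ^ m)⁻¹) * ((x * a') ^ m)⁻¹⁻¹ := by rw [h3]
        _ = x := by group
    rwa [e] at h4)
  have hzβ := A.cenJ ha' ha2' ha1' hza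
  have hzα : A.ρ z α = A.σ α := by
    rcases A.cen hx2 hx1 hxα hzx with h | h
    · exact absurd (A.A1 α β h1 h2 z hz2 h hzβ) hz1
    · exact h
  have hmv := A.moves ha' ha2' ha1' h1' h2'
  have hza1 : a' ≠ z := fun h => hmv.2 (by rw [h]; exact hzα)
  -- the four-group `⟨a', z⟩`
  let V : Subgroup X :=
    { carrier := {y | y = 1 ∨ y = a' ∨ y = z ∨ y = a' * z}
      one_mem' := Or.inl rfl
      mul_mem' := by
        rintro p q (rfl | rfl | rfl | rfl) (rfl | rfl | rfl | rfl)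
        · left; rw [one_mul]
        · right; left; rw [one_mul]
        · right; right; left; rw [one_mul]
        · right; right; right; rw [one_mul]
        · right; left; rw [mul_one]
        · left; exact ha2'
        · right; right; right; rfl
        · right; right; left; rw [← mul_assoc, ha2', one_mul]
        · right; right; left; rw [mul_one]
        · right; right; right; rw [hza]
        · left; exact hz2
        · right; left; rw [hza, ← mul_assoc, hz2, one_mul]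
        · right; right; right; rw [mul_one]
        · right; right; left; rw [hza, mul_assoc, ha2', mul_one]
        · right; left; rw [mul_assoc, hz2, mul_one]
        · left
          calc a' * z * (a' * z) = a' * (z * a') * z := by group
            _ = a' * (a' * z) * z := by rw [hza]
            _ = (a' * a') * (z * z) := by group
            _ = 1 := by rw [ha2', hz2, one_mul]
      inv_mem' := by
        rintro p (rfl | rfl | rfl | rfl)
        · left; rw [inv_one]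
        · right; left; exact inv_of_sq ha2'
        · right; right; left; exact inv_of_sq hz2
        · right; right; right
          rw [mul_inv_rev, inv_of_sq ha2', inv_of_sq hz2, hza] }
  have hVmem : ∀ y, y ∈ V ↔ y = 1 ∨ y = a' ∨ y = z ∨ y = a' * z := fun y => Iff.rfl
  have hVsq : ∀ y ∈ V, y * y = 1 := by
    intro y hy
    rcases (hVmem y).mp hy with rfl | rfl | rfl | rfl
    · exact one_mul 1
    · exact ha2'
    · exact hz2
    · calc a' * z * (a' * z) = a' * (z * a') * z := by group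
        _ = a' * (a' * z) * z := by rw [hza]
        _ = (a' * a') * (z * z) := by group
        _ = 1 := by rw [ha2', hz2, one_mul]
  have hV2 : IsPGroup 2 V := isPGroup_of_sq hVsq
  have hVs : V ≤ A.stb β := by
    intro y hy
    have e1 : a' ∈ A.stb β := A.Jfix β a' ha'
    have e2 : z ∈ A.stb β := hzβ
    rcases (hVmem y).mp hy with rfl | rfl | rfl | rfl
    · exact one_mem _
    · exact e1
    · exact e2
    · exact mul_mem e1 e2
  have haz : a' * z ≠ 1 := fun h => hza1 (by rw [eq_inv_of_mul_eq_one_left h, inv_of_sq hz2])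
  have hVcard : 4 ≤ Nat.card V := by
    let f : Fin 4 → V := ![⟨1, Or.inl rfl⟩, ⟨a', Or.inr (Or.inl rfl)⟩, ⟨z, Or.inr (Or.inr (Or.inl rfl))⟩,
      ⟨a' * z, Or.inr (Or.inr (Or.inr rfl))⟩]
    have hf : Function.Injective f := by
      have e01 : (1 : X) ≠ a' := fun h => ha1' h.symm
      have e02 : (1 : X) ≠ z := fun h => hz1 h.symm
      have e03 : (1 : X) ≠ a' * z := fun h => haz h.symm
      have e13 : a' ≠ a' * z := fun h => hz1 (by simpa using h)
      have e23 : z ≠ a' * z := fun h => ha1' (by simpa using h)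
      intro i j hij
      have hij' : ((f i : V) : X) = ((f j : V) : X) := congrArg Subtype.val hij
      fin_cases i <;> fin_cases j <;> simp [f] at hij' ⊢ <;>
        first
        | exact absurd hij' e01
        | exact absurd hij' e02
        | exact absurd hij' e03
        | exact absurd hij' e13
        | exact absurd hij' e23
        | exact absurd hij' hza1
        | exact absurd hij'.symm e01
        | exact absurd hij'.symm e02
        | exact absurd hij'.symm e03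
        | exact absurd hij'.symm e13
        | exact absurd hij'.symm e23
        | exact absurd hij'.symm hza1
        | exact ha1' hij'
        | exact hz1 hij'
        | exact haz hij'
        | skip
    have := Nat.card_le_card_of_injective f hf
    rwa [Nat.card_fin] at this
  have hSyl : IsSyl V (A.stb β) := isSyl_of_max hVs hV2 fun R hR hR2 =>
    (A.card_le_four h1' h2' hR2 hR).trans hVcard
  obtain ⟨j, hj, hj2, hj1⟩ := A.Jinv (A.σ β)
  have hJs : A.J (A.σ β) ≤ A.stb β := by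
    rw [← A.stb_σ β]; exact A.J_le_stb _
  obtain ⟨b', hb', hb'V, hb2', hb1'⟩ := hSyl.exists_inv hJs (fun x hx => A.cj_J (by rw [A.stb_σ]; exact hx)) hj hj2 hj1
  have hb'z : b' = a' * z := by
    rcases (hVmem b').mp hb'V with h | h | h | h
    · exact absurd h hb1'
    · rw [h] at hb'
      exact absurd (A.Jtri β a' ha' hb' ha2') ha1'
    · exfalso
      rw [h] at hb'
      have h3 : α ≠ A.σ β := h2'
      have h4 : α ≠ A.σ (A.σ β) := by rw [A.σσ]; exact h1'
      exact (A.moves hb' hz2 hz1 h3 h4).2 hzα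
    · exact h
  have hzab : a' * b' = z := by
    rw [hb'z, ← mul_assoc, ha2', one_mul]
  refine ⟨b', hb', hb2', hb1', by rw [hzab]; exact hzα, ?_⟩
  rcases A.cen hz2 hz1 hzβ hzx.symm with h | h
  · exact absurd (A.A1 α β h1 h2 x hx2 hxα h) hx1
  · exact h

end

end Act

end Cfsg.Agent.OddHalf.D3.TwoAct

end

-- merged: Cfsg.Agent.OddHalf.D3.TwoBB
section

/-!
# ODD D3 (iii), `n = 2`: reduction to (B2) (texts of helper133, bb ODD 9195, (6), and helper832, bb ODD 9609, (1))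
-/

set_option autoImplicit false

namespace Cfsg.Agent.OddHalf.D3.TwoBB

open Cfsg.Agent.OddHalf.D3.ThreeDefs Cfsg.Agent.OddHalf.D3.ThreeFam Cfsg.Agent.OddHalf.D3.ThreeMain
open Cfsg.Agent.OddHalf.D3.Swap Cfsg.Agent.OddHalf.D3.TwoCfg Cfsg.Agent.OddHalf.D3.TwoNF
open Cfsg.Agent.OddHalf.D3.TwoKey Cfsg.Agent.OddHalf.D3.TwoAct

universe u

variable {G : Type u} [Group G]

/-- the normaliser of `Q` -/
def NQ (Q : Subgroup G) : Subgroup G where
  carrier := {g | cj g Q = Q}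
  one_mem' := cj_one Q
  mul_mem' := fun ha hb => cj_mul_eq ha hb
  inv_mem' := fun ha => cj_inv_eq ha

theorem mem_NQ {Q : Subgroup G} {g : G} : g ∈ NQ Q ↔ cj g Q = Q := Iff.rfl

instance (Q : Subgroup G) : (Q.subgroupOf (NQ Q)).Normal := ⟨fun x hx g => by
  have h1 : (x : G) ∈ Q := hx
  have h2 : (g : G) * x * (g : G)⁻¹ ∈ Q := conj_mem_of_cj g.2 h1
  exact h2⟩

/-- the quotient `N_G(Q) / Q` -/
abbrev XQ (Q : Subgroup G) := NQ Q ⧸ Q.subgroupOf (NQ Q)

/-- the members of the classes stabilised by `Q` -/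
def Ends (𝓒 : Set (Set (Subgroup G))) (Q : Subgroup G) := {A : Subgroup G // ∃ c ∈ 𝓒, Q ≤ Nm c ∧ A ∈ c}

section
variable {𝓒 : Set (Set (Subgroup G))} {Q : Subgroup G}

/-- the action of `N_G(Q)` -/
def actE (F : Fam 𝓒) (g : NQ Q) (A : Ends 𝓒 Q) : Ends 𝓒 Q :=
  ⟨cj (g : G) A.1, by
    obtain ⟨c, hc, hQc, hA⟩ := A.2
    exact ⟨cjs g c, F.conj g c hc, le_Nm_cjs g.2 hQc, cj_mem_cjs hA⟩⟩

/-- the permutation representation of `N_G(Q)` -/
def rho0 (F : Fam 𝓒) : NQ Q →* Equiv.Perm (Ends 𝓒 Q) where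
  toFun g := ⟨actE F g, actE F g⁻¹, fun A => Subtype.ext (cj_inv_cj _ _), fun A => Subtype.ext (cj_cj_inv _ _)⟩
  map_one' := Equiv.ext fun A => Subtype.ext (cj_one _)
  map_mul' := fun a b => Equiv.ext fun A => Subtype.ext (cj_mul _ _ _)

/-- the permutation representation of `N_G(Q) / Q` -/
def rho (F : Fam 𝓒) : XQ Q →* Equiv.Perm (Ends 𝓒 Q) :=
  QuotientGroup.lift (Q.subgroupOf (NQ Q)) (rho0 F) (by
    intro x hx
    refine Equiv.ext fun A => Subtype.ext ?_
    obtain ⟨c, hc, hQc, hA⟩ := A.2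
    exact hQc hx A.1 hA)

theorem exists_partner (F : Fam 𝓒) (A : Ends 𝓒 Q) : ∃ B : Ends 𝓒 Q, B.1 ≠ A.1 ∧ ∃ c ∈ 𝓒, Q ≤ Nm c ∧ A.1 ∈ c ∧ B.1 ∈ c := by
  obtain ⟨c, hc, hQc, hA⟩ := A.2
  obtain ⟨B, hB, hne⟩ := F.two c hc A.1
  exact ⟨⟨B, c, hc, hQc, hB⟩, hne, c, hc, hQc, hA, hB⟩

/-- the partner -/
noncomputable def partner (F : Fam 𝓒) (A : Ends 𝓒 Q) : Ends 𝓒 Q := (exists_partner F A).choose

theorem partner_ne (F : Fam 𝓒) (A : Ends 𝓒 Q) : (partner F A).1 ≠ A.1 := (exists_partner F A).choose_spec.1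

theorem partner_mem (F : Fam 𝓒) (A : Ends 𝓒 Q) : ∃ c ∈ 𝓒, Q ≤ Nm c ∧ A.1 ∈ c ∧ (partner F A).1 ∈ c :=
  (exists_partner F A).choose_spec.2

theorem partner_eq (F : Fam2 𝓒) {A B : Ends 𝓒 Q} (hne : B.1 ≠ A.1) {c : Set (Subgroup G)} (hc : c ∈ 𝓒) (hA : A.1 ∈ c)
    (hB : B.1 ∈ c) : partner F.toFam A = B := by
  obtain ⟨c', hc', hQc', hA', hP⟩ := partner_mem F.toFam A
  have h1 := class_unique F.toFam hc hc' hA hA'
  subst h1
  rcases F.le2 c hc A.1 hA B.1 hB _ hP with h | h | h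
  · exact absurd h.symm hne
  · exact absurd h.symm (partner_ne F.toFam A)
  · exact Subtype.ext h.symm

/-- the subgroup `N_A(Q) Q / Q` -/
def JQ (Q A : Subgroup G) : Subgroup (XQ Q) :=
  (A.subgroupOf (NQ Q)).map (QuotientGroup.mk' (Q.subgroupOf (NQ Q)))

theorem mem_JQ {Q A : Subgroup G} {t : XQ Q} : t ∈ JQ Q A ↔ ∃ s : NQ Q, (s : G) ∈ A ∧ (s : XQ Q) = t := by
  unfold JQ
  rw [Subgroup.mem_map]
  rfl

theorem mk_eq_one {Q : Subgroup G} {s : NQ Q} : (s : XQ Q) = 1 ↔ (s : G) ∈ Q := by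
  rw [QuotientGroup.eq_one_iff]
  rfl

theorem mk_eq_mk {Q : Subgroup G} {s t : NQ Q} : (s : XQ Q) = (t : XQ Q) ↔ (s : G)⁻¹ * t ∈ Q := by
  rw [QuotientGroup.eq]
  rfl

/-- involutions of `JQ` come from witnesses -/
theorem wit_of_mem {A : Subgroup G} {t : XQ Q} (ht : t ∈ JQ Q A) (ht2 : t * t = 1) (ht1 : t ≠ 1) :
    ∃ s : NQ Q, Wit Q A s ∧ (s : XQ Q) = t := by
  obtain ⟨s, hsA, rfl⟩ := mem_JQ.mp ht
  refine ⟨s, ⟨hsA, s.2, fun h => ht1 (mk_eq_one.mpr h), ?_⟩, rfl⟩
  have h1 : ((s * s : NQ Q) : XQ Q) = 1 := ht2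
  exact mk_eq_one.mp h1

/-- different classes -/
theorem class_ne (F : Fam2 𝓒) {α β : Ends 𝓒 Q} (h1 : β ≠ α) (h2 : β ≠ partner F.toFam α) {c d : Set (Subgroup G)}
    (hc : c ∈ 𝓒) (hα : α.1 ∈ c) (hβ : β.1 ∈ d) : c ≠ d := by
  rintro rfl
  exact h2 (partner_eq F (fun h => h1 (Subtype.ext h)) hc hα hβ).symm

/-- **the action** -/
noncomputable def act [Finite G] (F : Fam2 𝓒) (C : NF 𝓒 Q) : Act (XQ Q) (Ends 𝓒 Q) where
  ρ := rho F.toFam
  σ := partner F.toFam
  σσ := by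
    intro α
    obtain ⟨c, hc, hQc, hα, hP⟩ := partner_mem F.toFam α
    exact partner_eq F (Ne.symm (partner_ne F.toFam α)) hc hP hα
  σne := fun α h => partner_ne F.toFam α (congrArg Subtype.val h)
  σeq := by
    intro x α
    obtain ⟨g, rfl⟩ := QuotientGroup.mk_surjective x
    obtain ⟨c, hc, hQc, hα, hP⟩ := partner_mem F.toFam α
    refine partner_eq F ?_ (F.conj g c hc) (cj_mem_cjs hα) (cj_mem_cjs hP)
    exact fun h => partner_ne F.toFam α (cj_injective _ h)
  J := fun α => JQ Q α.1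
  Jfix := by
    intro α t ht
    obtain ⟨s, hs, rfl⟩ := mem_JQ.mp ht
    exact Subtype.ext (cj_eq_of_mem hs)
  Jconj := by
    intro x α y hy
    obtain ⟨g, rfl⟩ := QuotientGroup.mk_surjective x
    obtain ⟨s, hs, rfl⟩ := mem_JQ.mp hy
    refine mem_JQ.mpr ⟨g * s * g⁻¹, ?_, rfl⟩
    exact conj_mem_cj hs
  Jinv := by
    intro α
    obtain ⟨c, hc, hQc, hα⟩ := α.2
    obtain ⟨s, w⟩ := C.wit c hc hQc α.1 hα
    refine ⟨((⟨s, w.norm⟩ : NQ Q) : XQ Q), mem_JQ.mpr ⟨⟨s, w.norm⟩, w.mem, rfl⟩, ?_, ?_⟩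
    · change (((⟨s, w.norm⟩ : NQ Q) * ⟨s, w.norm⟩ : NQ Q) : XQ Q) = 1
      rw [mk_eq_one]
      exact w.sq
    · intro h
      exact w.not (mk_eq_one.mp h)
  Jcomm := by
    intro α a ha b hb
    obtain ⟨s, hs, rfl⟩ := mem_JQ.mp ha
    obtain ⟨t, ht, rfl⟩ := mem_JQ.mp hb
    obtain ⟨c, hc, hQc, hα, hP⟩ := partner_mem F.toFam α
    change ((s * t : NQ Q) : XQ Q) = ((t * s : NQ Q) : XQ Q)
    congr 1
    exact Subtype.ext (F.comm c hc α.1 hα _ hP (Ne.symm (partner_ne F.toFam α)) s hs t ht)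
  Jtri := by
    intro α t ht ht' ht2
    by_contra ht1
    obtain ⟨s, w, hst⟩ := wit_of_mem ht ht2 ht1
    obtain ⟨s', hs', hst'⟩ := mem_JQ.mp ht'
    obtain ⟨c, hc, hQc, hα, hP⟩ := partner_mem F.toFam α
    have h1 : (s : G)⁻¹ * s' ∈ Q := mk_eq_mk.mp (hst.trans hst'.symm)
    refine key F C.toCfg hc hQc hα w h1 ?_
    intro a ha
    have e : (s : G) * ((s : G)⁻¹ * s') = s' := by group
    rw [e]
    exact (F.comm c hc α.1 hα _ hP (Ne.symm (partner_ne F.toFam α)) a ha s' hs').symm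
  A1 := by
    intro α β h1 h2 t ht2 hα hβ
    obtain ⟨g, rfl⟩ := QuotientGroup.mk_surjective t
    obtain ⟨c, hc, hQc, hαc⟩ := α.2
    obtain ⟨d, hd, hQd, hβd⟩ := β.2
    have hcd := class_ne F h1 h2 hc hαc hβd
    have h3 : cj (g : G) α.1 = α.1 := congrArg Subtype.val hα
    have h4 : cj (g : G) β.1 = β.1 := congrArg Subtype.val hβ
    have h5 : ((g * g : NQ Q) : XQ Q) = 1 := ht2
    rw [mk_eq_one] at h5
    change ((g : NQ Q) : XQ Q) = 1
    rw [mk_eq_one]
    exact C.mem_of_norm hc hd hcd hQc hQd (sq_pgroup C.pg h5) g.2 (mem_Nm_of_cj F hc hαc h3) (mem_Nm_of_cj F hd hβd h4)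
  A6 := by
    intro α β a ha b hb ha2 ha1 hb2 hb1 hab
    obtain ⟨s, w, rfl⟩ := wit_of_mem ha ha2 ha1
    obtain ⟨t, w', rfl⟩ := wit_of_mem hb hb2 hb1
    obtain ⟨r, hr, hrt⟩ := mem_JQ.mp hab
    obtain ⟨c, hc, hQc, hα, hP⟩ := partner_mem F.toFam α
    obtain ⟨d, hd, hQd, hβ⟩ := β.2
    have h1 : ((s * t : NQ Q) : G)⁻¹ * r ∈ Q := mk_eq_mk.mp hrt.symm
    refine not_prod F C hc hd hQc hQd hα hP (partner_ne F.toFam α) hβ w w' h1 ?_
    have e : (s : G) * t * (((s * t : NQ Q) : G)⁻¹ * r) = r := by push_cast; group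
    rw [e]
    exact hr

/-- **The configuration (B2).** -/
theorem exists_conf [Finite G] (F : Fam2 𝓒) (C : NF 𝓒 Q) :
    ∃ Λ ∈ 𝓒, ∃ Λ' ∈ 𝓒, Λ ≠ Λ' ∧ Q ≤ Nm Λ ∧ Q ≤ Nm Λ' ∧ ∃ L1 ∈ Λ, ∃ L2 ∈ Λ, ∃ M1 ∈ Λ', ∃ M2 ∈ Λ', L2 ≠ L1 ∧ M2 ≠ M1 ∧
      ∃ g1 g2 h1 h2 : G, Wit Q L1 g1 ∧ Wit Q L2 g2 ∧ Wit Q M1 h1 ∧ Wit Q M2 h2 ∧
        cj (h1 * h2) L1 = L2 ∧ cj (g1 * g2) M1 = M2 := by
  obtain ⟨c, hc, d, hd, hcd, hQc, hQd⟩ := C.ex
  obtain ⟨L1, hL1, -⟩ := F.two c hc ⊥
  obtain ⟨M1, hM1, -⟩ := F.two d hd ⊥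
  set A := act F C with hA
  let α : Ends 𝓒 Q := ⟨L1, c, hc, hQc, hL1⟩
  let β : Ends 𝓒 Q := ⟨M1, d, hd, hQd, hM1⟩
  have h1 : β ≠ α := by
    intro h
    have h3 : M1 = L1 := congrArg Subtype.val h
    subst h3
    exact hcd (class_unique F.toFam hc hd hL1 hM1)
  obtain ⟨c', hc', hQc', hα, hP⟩ := partner_mem F.toFam α
  have hcc : c' = c := class_unique F.toFam hc' hc hα hL1
  subst hcc
  obtain ⟨d', hd', hQd', hβ, hP'⟩ := partner_mem F.toFam β
  have hdd : d' = d := class_unique F.toFam hd' hd hβ hM1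
  subst hdd
  have h2 : β ≠ A.σ α := by
    intro h
    have h3 : M1 = (partner F.toFam α).1 := congrArg Subtype.val h
    rw [← h3] at hP
    exact hcd (class_unique F.toFam hc hd hP hM1)
  obtain ⟨a, ha, ha2, ha1⟩ := A.Jinv α
  obtain ⟨b, hb, hb2, hb1⟩ := A.Jinv (A.σ α)
  obtain ⟨a', ha', ha2', ha1'⟩ := A.Jinv β
  obtain ⟨b', hb', hb2', hb1', e1, e2⟩ := A.main h1 h2 ha ha2 ha1 hb hb2 hb1 ha' ha2' ha1'
  obtain ⟨g1, w1, rfl⟩ := wit_of_mem ha ha2 ha1
  obtain ⟨g2, w2, rfl⟩ := wit_of_mem hb hb2 hb1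
  obtain ⟨k1, w3, rfl⟩ := wit_of_mem ha' ha2' ha1'
  obtain ⟨k2, w4, rfl⟩ := wit_of_mem hb' hb2' hb1'
  refine ⟨c', hc, d', hd, hcd, hQc, hQd, L1, hL1, (partner F.toFam α).1, hP, M1, hM1, (partner F.toFam β).1, hP',
    partner_ne F.toFam α, partner_ne F.toFam β, g1, g2, k1, k2, w1, w2, w3, w4, ?_, ?_⟩
  · exact congrArg Subtype.val e1
  · exact congrArg Subtype.val e2

end

end Cfsg.Agent.OddHalf.D3.TwoBB

end
end

-- part: OddHalf/D3/BEven/Frame
section
set_option linter.all false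
open scoped Cfsg.Agent.FastGrp

/-!
# ODD D3 (iii), even centre, `n = 2`: the (mv)-world (texts of helper760, bb ODD 10166, 13086; helper159, bb ODD 10707)

`MW 𝓒 Q`: the maximal 2-subgroup `Q` normalising the members of two classes; every witness `s ∈ N_L(Q) - Q` moves
the other classes.
-/

set_option autoImplicit false

namespace Cfsg.Agent.OddHalf.D3.BEven

open Cfsg Cfsg.Agent.OddHalf.D3.ThreeDefs Cfsg.Agent.OddHalf.D3.ThreeFam Cfsg.Agent.OddHalf.D3.ThreeMain
open Cfsg.Agent.OddHalf.D3.Swap Cfsg.Agent.OddHalf.D3.TwoCfg Cfsg.Agent.OddHalf.D3.TwoNF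
open Cfsg.Agent.OddHalf.D3.EvDefs
open scoped commutatorElement

universe u

variable {G : Type u} [Group G]

/-- The frame of D3 (iii), even centre, `n = 2` -/
structure EF2 (𝓒 : Set (Set (Subgroup G))) : Prop extends EFam 𝓒 where
  le2 : ∀ Λ ∈ 𝓒, AtMostTwo Λ

/-- The (mv)-world -/
structure MW (𝓒 : Set (Set (Subgroup G))) (Q : Subgroup G) : Prop where
  pg : IsPGroup 2 Q
  mx : ∀ c ∈ 𝓒, ∀ d ∈ 𝓒, c ≠ d → Q ≤ Nm c → Q ≤ Nm d → ∀ R : Subgroup G, IsPGroup 2 R → R ≤ Nm c → R ≤ Nm d →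
    Nat.card R ≤ Nat.card Q
  ex : ∃ c ∈ 𝓒, ∃ d ∈ 𝓒, c ≠ d ∧ Q ≤ Nm c ∧ Q ≤ Nm d
  wit : ∀ c ∈ 𝓒, Q ≤ Nm c → ∀ A ∈ c, ∃ s, Wit Q A s
  mv : ∀ c ∈ 𝓒, ∀ d ∈ 𝓒, c ≠ d → Q ≤ Nm c → Q ≤ Nm d → ∀ A ∈ c, ∀ s, Wit Q A s → s ∉ St d
  zc : ∀ c ∈ 𝓒, Q ≤ Nm c → ∃ z ∈ Zc c, z ∈ Q ∧ z ≠ 1

variable {𝓒 : Set (Set (Subgroup G))} {Q : Subgroup G}

/-! ### General facts on the frame -/

/-- an element normalising a member of a class with two members normalises all the members -/
theorem mem_Nm_of_cj (F : EF2 𝓒) {Λ : Set (Subgroup G)} (hΛ : Λ ∈ 𝓒) {A : Subgroup G} (hA : A ∈ Λ) {g : G}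
    (hg : cj g A = A) : g ∈ Nm Λ := by
  have hSt : g ∈ St Λ := by
    rw [mem_St]
    refine F.class_unique (F.conj g Λ hΛ) hΛ (A := A) ?_ hA
    have h1 : cj g A ∈ cjs g Λ := cj_mem_cjs hA
    rwa [hg] at h1
  obtain ⟨B, hB, hBA⟩ := F.two Λ hΛ A
  intro C hC
  rcases two_cases (F.le2 Λ hΛ) hA hB hBA hSt with ⟨h1, h2⟩ | ⟨h1, h2⟩
  · rcases F.le2 Λ hΛ A hA B hB C hC with h | h | h
    · exact absurd h.symm hBA
    · rw [← h]; exact h1
    · rw [← h]; exact h2
  · exact absurd (h1.symm.trans hg) hBA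

/-- no element of the 2-group `Q` centralises members of two different classes -/
theorem eq_one_of_two (F : EFam 𝓒) (hQ : IsPGroup 2 Q) {c d : Set (Subgroup G)} (hc : c ∈ 𝓒) (hd : d ∈ 𝓒)
    (hcd : c ≠ d) {A M : Subgroup G} (hA : A ∈ c) (hM : M ∈ d) {x : G} (hx : x ∈ QC Q A) (hx' : x ∈ QC Q M) : x = 1 := by
  by_contra h1
  obtain ⟨n, hn2, hn1⟩ := exists_pow_inv hQ (mem_QC.mp hx).1 h1
  refine hcd (F.uniq c hc d hd (x ^ n) ⟨hn2, hn1, A, hA, ?_⟩ ⟨hn2, hn1, M, hM, ?_⟩)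
  · intro a ha
    have : Commute x a := (mem_QC.mp hx).2 a ha
    exact (this.pow_left n).eq
  · intro a ha
    have : Commute x a := (mem_QC.mp hx').2 a ha
    exact (this.pow_left n).eq

/-- **C1** -/
theorem comm_of_two (F : EFam 𝓒) (hQ : IsPGroup 2 Q) {c d : Set (Subgroup G)} (hc : c ∈ 𝓒) (hd : d ∈ 𝓒)
    (hcd : c ≠ d) (hQc : Q ≤ Nm c) (hQd : Q ≤ Nm d) {A M : Subgroup G} (hA : A ∈ c) (hM : M ∈ d) {x y : G}
    (hx : x ∈ QC Q A) (hy : y ∈ QC Q M) : x * y = y * x := by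
  have hxQ := (mem_QC.mp hx).1
  have hyQ := (mem_QC.mp hy).1
  have h1 : cj y (QC Q A) = QC Q A := by
    rw [cj_QC (cj_eq_of_mem hyQ), hQc hyQ A hA]
  have h2 : cj x (QC Q M) = QC Q M := by
    rw [cj_QC (cj_eq_of_mem hxQ), hQd hxQ M hM]
  have h3 : ⁅x, y⁆ ∈ QC Q A := by
    have e : ⁅x, y⁆ = x * (y * x⁻¹ * y⁻¹) := by rw [commutatorElement_def]; group
    rw [e]
    exact mul_mem hx (conj_mem_of_cj h1 (inv_mem hx))
  have h4 : ⁅x, y⁆ ∈ QC Q M := by
    rw [commutatorElement_def]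
    exact mul_mem (conj_mem_of_cj h2 hy) (inv_mem hy)
  have h5 := eq_one_of_two F hQ hc hd hcd hA hM h3 h4
  rw [commutatorElement_def] at h5
  calc x * y = (x * y * x⁻¹ * y⁻¹) * (y * x) := by group
    _ = y * x := by rw [h5, one_mul]

/-- `Q ∩ A' ≤ Q ∩ C(A)` -/
theorem inf_le_QC (F : EFam 𝓒) {c : Set (Subgroup G)} (hc : c ∈ 𝓒) {A A' : Subgroup G} (hA : A ∈ c) (hA' : A' ∈ c)
    (hne : A' ≠ A) : Q ⊓ A' ≤ QC Q A := by
  intro x hx
  rw [Subgroup.mem_inf] at hx
  exact mem_QC.mpr ⟨hx.1, F.comm c hc A' hA' A hA hne x hx.2⟩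

theorem tri_QC (F : EFam 𝓒) (hQ : IsPGroup 2 Q) {c d : Set (Subgroup G)} (hc : c ∈ 𝓒) (hd : d ∈ 𝓒) (hcd : c ≠ d)
    {A M : Subgroup G} (hA : A ∈ c) (hM : M ∈ d) : ∀ x ∈ QC Q M, x ∈ A → x = 1 := by
  intro x hx hxA
  obtain ⟨A', hA', hne⟩ := F.two c hc A
  exact eq_one_of_two F hQ hc hd hcd hA' hM
    (mem_QC.mpr ⟨(mem_QC.mp hx).1, F.comm c hc A hA A' hA' (Ne.symm hne) x hxA⟩) hx

/-- (mv) -/
theorem rp_mv (F : EFam 𝓒) (hQ : IsPGroup 2 Q) {c d : Set (Subgroup G)} (hc : c ∈ 𝓒) (hd : d ∈ 𝓒)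
    (hcd : c ≠ d) (hQd : Q ≤ Nm d) {A M : Subgroup G} (hA : A ∈ c) (hM : M ∈ d)
    {s : G} (hs : cj s Q = Q) (hmv : cjs s d ≠ d) : RP Q A (QC Q M) s where
  le := QC_le
  tri := tri_QC F hQ hc hd hcd hA hM
  comm := by
    intro b hb b' hb'
    have h1 : s * b' * s⁻¹ ∈ QC Q (cj s M) := by
      rw [← cj_QC hs]; exact conj_mem_cj hb'
    exact comm_of_two F hQ hd (F.conj s d hd) (Ne.symm hmv) hQd (le_Nm_cjs hs hQd) hM (cj_mem_cjs hM) hb h1
  inj := by
    intro b hb h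
    have h1 : s * b * s⁻¹ ∈ QC Q (cj s M) := by
      rw [← cj_QC hs]; exact conj_mem_cj hb
    rw [h] at h1
    exact eq_one_of_two F hQ hd (F.conj s d hd) (Ne.symm hmv) hM (cj_mem_cjs hM) hb h1

/-- a power of a 2-element normalising `Q` is a witness -/
theorem exists_wit_pow (hQ : IsPGroup 2 Q) {A : Subgroup G} {p : G} (hp : p ∈ A) {k : ℕ} (hk : p ^ 2 ^ k ∈ Q)
    (hpQ : p ∉ Q) (hpc : cj p Q = Q) : ∃ n : ℕ, Wit Q A (p ^ n) := by
  have hcpow : ∀ n : ℕ, cj (p ^ n) Q = Q := by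
    intro n
    induction n with
    | zero => rw [pow_zero, cj_one]
    | succ n ih => rw [pow_succ]; exact cj_mul_eq ih hpc
  induction k with
  | zero => exact absurd (by simpa using hk) hpQ
  | succ k ih =>
    by_cases h2 : p ^ 2 ^ k ∈ Q
    · exact ih h2
    · refine ⟨2 ^ k, pow_mem hp _, hcpow _, h2, ?_⟩
      rw [← pow_add, ← two_mul, ← pow_succ']
      exact hk

/-! ### The (mv)-world -/

namespace MW

theorem other (C : MW 𝓒 Q) (c : Set (Subgroup G)) : ∃ d ∈ 𝓒, Q ≤ Nm d ∧ d ≠ c := by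
  obtain ⟨a, ha, b, hb, hab, hQa, hQb⟩ := C.ex
  by_cases h : a = c
  · exact ⟨b, hb, hQb, fun h' => hab (h.trans h'.symm)⟩
  · exact ⟨a, ha, hQa, h⟩

theorem rp (F : EFam 𝓒) (C : MW 𝓒 Q) {c d : Set (Subgroup G)} (hc : c ∈ 𝓒) (hd : d ∈ 𝓒)
    (hcd : c ≠ d) (hQc : Q ≤ Nm c) (hQd : Q ≤ Nm d) {A M : Subgroup G} (hA : A ∈ c) (hM : M ∈ d) {s : G}
    (w : Wit Q A s) : RP Q A (QC Q M) s :=
  rp_mv F C.pg hc hd hcd hQd hA hM w.norm (C.mv c hc d hd hcd hQc hQd A hA s w)

theorem card_QC_le [Finite G] (F : EFam 𝓒) (C : MW 𝓒 Q) {c d : Set (Subgroup G)} (hc : c ∈ 𝓒) (hd : d ∈ 𝓒)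
    (hcd : c ≠ d) (hQc : Q ≤ Nm c) (hQd : Q ≤ Nm d) {A M : Subgroup G} (hA : A ∈ c) (hM : M ∈ d) :
    Nat.card (QC Q M) ≤ Nat.card (Q ⊓ A : Subgroup G) := by
  obtain ⟨s, w⟩ := C.wit c hc hQc A hA
  exact (C.rp F hc hd hcd hQc hQd hA hM w).card_le (fun q hq => hQc hq A hA) w

theorem card_inf_le [Finite G] (F : EFam 𝓒) {c : Set (Subgroup G)} (hc : c ∈ 𝓒) {A A' : Subgroup G} (hA : A ∈ c)
    (hA' : A' ∈ c) (hne : A' ≠ A) : Nat.card (Q ⊓ A : Subgroup G) ≤ Nat.card (QC Q A') :=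
  Nat.card_le_card_of_injective _ (Subgroup.inclusion_injective (inf_le_QC F hc hA' hA (Ne.symm hne)))

/-- `|Q ∩ A| ≤ |Q ∩ M|` -/
theorem card_le [Finite G] (F : EFam 𝓒) (C : MW 𝓒 Q) {c d : Set (Subgroup G)} (hc : c ∈ 𝓒) (hd : d ∈ 𝓒)
    (hcd : c ≠ d) (hQc : Q ≤ Nm c) (hQd : Q ≤ Nm d) {A M : Subgroup G} (hA : A ∈ c) (hM : M ∈ d) :
    Nat.card (Q ⊓ A : Subgroup G) ≤ Nat.card (Q ⊓ M : Subgroup G) := by
  obtain ⟨A', hA', hne⟩ := F.two c hc A
  exact (card_inf_le F hc hA hA' hne).trans (C.card_QC_le F hd hc (Ne.symm hcd) hQd hQc hM hA')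

/-- all the groups `Q ∩ A` have the same order -/
theorem card_eq [Finite G] (F : EFam 𝓒) (C : MW 𝓒 Q) {c d : Set (Subgroup G)} (hc : c ∈ 𝓒) (hd : d ∈ 𝓒)
    (hQc : Q ≤ Nm c) (hQd : Q ≤ Nm d) {A M : Subgroup G} (hA : A ∈ c) (hM : M ∈ d) :
    Nat.card (Q ⊓ A : Subgroup G) = Nat.card (Q ⊓ M : Subgroup G) := by
  by_cases hcd : c = d
  · subst hcd
    obtain ⟨e, he, hQe, hec⟩ := C.other c
    obtain ⟨N, hN, -⟩ := F.two e he ⊥
    exact le_antisymm ((C.card_le F hc he (Ne.symm hec) hQc hQe hA hN).trans (C.card_le F he hc hec hQe hQc hN hM))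
      ((C.card_le F hc he (Ne.symm hec) hQc hQe hM hN).trans (C.card_le F he hc hec hQe hQc hN hA))
  · exact le_antisymm (C.card_le F hc hd hcd hQc hQd hA hM) (C.card_le F hd hc (Ne.symm hcd) hQd hQc hM hA)

/-- `C_Q(A') = Q ∩ A` -/
theorem QC_eq [Finite G] (F : EFam 𝓒) (C : MW 𝓒 Q) {c : Set (Subgroup G)} (hc : c ∈ 𝓒) (hQc : Q ≤ Nm c)
    {A A' : Subgroup G} (hA : A ∈ c) (hA' : A' ∈ c) (hne : A' ≠ A) : QC Q A' = Q ⊓ A := by
  obtain ⟨d, hd, hQd, hdc⟩ := C.other c
  obtain ⟨M, hM, -⟩ := F.two d hd ⊥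
  symm
  refine Subgroup.eq_of_le_of_card_ge (inf_le_QC F hc hA' hA (Ne.symm hne)) ?_
  rw [C.card_eq F hc hd hQc hQd hA hM]
  exact C.card_QC_le F hd hc hdc hQd hQc hM hA'

/-- the homomorphism `b ↦ b⁻¹ (s b s⁻¹)`, `Q ∩ M → Q ∩ A` -/
theorem rp' (F : EFam 𝓒) (C : MW 𝓒 Q) {c d : Set (Subgroup G)} (hc : c ∈ 𝓒) (hd : d ∈ 𝓒)
    (hcd : c ≠ d) (hQc : Q ≤ Nm c) (hQd : Q ≤ Nm d) {A M : Subgroup G} (hA : A ∈ c) (hM : M ∈ d) {s : G}
    (w : Wit Q A s) : RP Q A (Q ⊓ M) s := by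
  obtain ⟨M', hM', hne⟩ := F.two d hd M
  exact (C.rp F hc hd hcd hQc hQd hA hM' w).mono (inf_le_QC F hd hM' hM (Ne.symm hne))

/-- a witness inverts `Q ∩ A` -/
theorem inverts [Finite G] (F : EFam 𝓒) (C : MW 𝓒 Q) {c : Set (Subgroup G)} (hc : c ∈ 𝓒) (hQc : Q ≤ Nm c)
    {A : Subgroup G} (hA : A ∈ c) {s : G} (w : Wit Q A s) {a : G} (ha : a ∈ Q) (haA : a ∈ A) : s * a * s⁻¹ = a⁻¹ := by
  obtain ⟨d, hd, hQd, hdc⟩ := C.other c
  obtain ⟨M, hM, -⟩ := F.two d hd ⊥
  obtain ⟨M', hM', hne'⟩ := F.two d hd M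
  obtain ⟨A', hA', hne⟩ := F.two c hc A
  have hQA : ∀ q ∈ Q, cj q A = A := fun q hq => hQc hq A hA
  obtain ⟨b, hb, hba⟩ := (C.rp' F hc hd (Ne.symm hdc) hQc hQd hA hM w).surj hQA w
    (C.card_eq F hc hd hQc hQd hA hM).le ha haA
  have hs2 : s * s ∈ QC Q A' := inf_le_QC F hc hA' hA (Ne.symm hne)
    (Subgroup.mem_inf.mpr ⟨w.sq, mul_mem w.mem w.mem⟩)
  have hb2 : b ∈ QC Q M' := inf_le_QC F hd hM' hM (Ne.symm hne') hb
  have h1 := comm_of_two F C.pg hc hd (Ne.symm hdc) hQc hQd hA' hM' hs2 hb2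
  rw [← hba]
  calc s * (b⁻¹ * (s * b * s⁻¹)) * s⁻¹ = (s * b * s⁻¹)⁻¹ * ((s * s * b) * (s * s)⁻¹) := by group
    _ = (s * b * s⁻¹)⁻¹ * ((b * (s * s)) * (s * s)⁻¹) := by rw [h1]
    _ = (b⁻¹ * (s * b * s⁻¹))⁻¹ := by group

/-- `Q ∩ A ∩ A'` is elementary -/
theorem D_sq [Finite G] (F : EFam 𝓒) (C : MW 𝓒 Q) {c : Set (Subgroup G)} (hc : c ∈ 𝓒) (hQc : Q ≤ Nm c)
    {A A' : Subgroup G} (hA : A ∈ c) (hA' : A' ∈ c) (hne : A' ≠ A) {x : G} (hx : x ∈ Q) (hxA : x ∈ A) (hxA' : x ∈ A') :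
    x * x = 1 := by
  obtain ⟨s, w⟩ := C.wit c hc hQc A hA
  have h1 := C.inverts F hc hQc hA w hx hxA
  have h2 := F.comm c hc A hA A' hA' (Ne.symm hne) s w.mem x hxA'
  have h3 : s * x * s⁻¹ = x := by rw [h2]; group
  rw [h3] at h1
  nth_rw 1 [h1]
  exact inv_mul_cancel x

/-- `Q ∩ A ∩ A' = Q ∩ Z_c` -/
theorem mem_D [Finite G] (F : EFam 𝓒) (C : MW 𝓒 Q) {c : Set (Subgroup G)} (hc : c ∈ 𝓒) (hQc : Q ≤ Nm c)
    {A A' : Subgroup G} (hA : A ∈ c) (hA' : A' ∈ c) (hne : A' ≠ A) {x : G} (hx : x ∈ Q) :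
    (x ∈ A ∧ x ∈ A') ↔ x ∈ Zc c := by
  constructor
  · rintro ⟨h1, h2⟩
    exact mem_Zc_of_mem (F.comm c hc) hA h1 (C.D_sq F hc hQc hA hA' hne hx h1 h2)
      fun a ha => (F.comm c hc A hA A' hA' (Ne.symm hne) a ha x h2).symm
  · intro h
    constructor
    · have h1 : x ∈ QC Q A' := mem_QC.mpr ⟨hx, h.2.2 A' hA'⟩
      rw [C.QC_eq F hc hQc hA hA' hne] at h1
      exact (Subgroup.mem_inf.mp h1).2
    · have h1 : x ∈ QC Q A := mem_QC.mpr ⟨hx, h.2.2 A hA⟩
      rw [C.QC_eq F hc hQc hA' hA (Ne.symm hne)] at h1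
      exact (Subgroup.mem_inf.mp h1).2

/-- the elements of `A ∩ St d` in a 2-group over `Q` are in `Q` -/
theorem inf_St_le [Finite G] (C : MW 𝓒 Q) {c d : Set (Subgroup G)} (hc : c ∈ 𝓒) (hd : d ∈ 𝓒)
    (hcd : c ≠ d) (hQc : Q ≤ Nm c) (hQd : Q ≤ Nm d) {A : Subgroup G} (hA : A ∈ c) {S : Subgroup G} (hS : IsPGroup 2 S)
    (hQS : Q ≤ S) {x : G} (hx : x ∈ S) (hxA : x ∈ A) (hxd : x ∈ St d) : x ∈ Q := by
  set S' : Subgroup G := S ⊓ (A ⊓ St d) with hS'
  have hn : ∀ q ∈ Q, cj q S' = S' := by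
    intro q hq
    rw [hS', cj_inf, cj_inf, cj_eq_of_mem (hQS hq), hQc hq A hA, cj_eq_of_mem (Nm_le_St d (hQd hq))]
  have hxS' : x ∈ S' := Subgroup.mem_inf.mpr ⟨hx, Subgroup.mem_inf.mpr ⟨hxA, hxd⟩⟩
  by_contra hxQ
  have hT := isPGroup_mulSub (h := hn) (hS.to_le inf_le_left) C.pg
  obtain ⟨t, ⟨p, hp, q, hq, rfl⟩, htn, htc⟩ := exists_norm hT le_mulSub_right (fun hle => hxQ (hle (le_mulSub_left hxS')))
  have hpQ : p ∉ Q := fun h => htn (mul_mem h hq)
  have hpc : cj p Q = Q := by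
    have h1 : p = p * q * q⁻¹ := by group
    rw [h1]
    exact cj_mul_eq htc (cj_eq_of_mem (inv_mem hq))
  rw [hS', Subgroup.mem_inf, Subgroup.mem_inf] at hp
  obtain ⟨k, hk⟩ := hS ⟨p, hp.1⟩
  have hk' : p ^ 2 ^ k = 1 := congrArg Subtype.val hk
  obtain ⟨n, w⟩ := exists_wit_pow C.pg hp.2.1 (k := k) (by rw [hk']; exact one_mem _) hpQ hpc
  exact C.mv c hc d hd hcd hQc hQd A hA _ w (pow_mem hp.2.2 n)

/-- an element of `A` in a 2-group over `Q` commuting with `1 ≠ e ∈ C_Q(M)` is in `Q` -/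
theorem mem_of_comm [Finite G] (F : EFam 𝓒) (C : MW 𝓒 Q) {c d : Set (Subgroup G)} (hc : c ∈ 𝓒) (hd : d ∈ 𝓒)
    (hcd : c ≠ d) (hQc : Q ≤ Nm c) (hQd : Q ≤ Nm d) {A M : Subgroup G} (hA : A ∈ c) (hM : M ∈ d) {S : Subgroup G}
    (hS : IsPGroup 2 S) (hQS : Q ≤ S) {x e : G} (hx : x ∈ S) (hxA : x ∈ A) (he : e ∈ QC Q M) (he1 : e ≠ 1)
    (hxe : x * e = e * x) : x ∈ Q := by
  obtain ⟨n, hn2, hn1⟩ := exists_pow_inv C.pg (QC_le he) he1
  refine C.inf_St_le hc hd hcd hQc hQd hA hS hQS hx hxA ?_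
  refine F.cen hd (u := e ^ n) ⟨hn2, hn1, M, hM, ?_⟩ ?_
  · intro m hm
    have : Commute e m := (mem_QC.mp he).2 m hm
    exact (this.pow_left n).eq
  · have : Commute e x := hxe.symm
    exact (this.pow_left n).eq

end MW

end Cfsg.Agent.OddHalf.D3.BEven
end

-- part: OddHalf/D3/BEven/Conf
section
set_option linter.all false
open scoped Cfsg.Agent.FastGrp

/-!
# ODD D3 (iii), even centre, `n = 2`, (mv)-world, (beta2): the swapping elements (text of helper159, bb ODD 10707)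
-/

set_option autoImplicit false

namespace Cfsg.Agent.OddHalf.D3.BEven

open Cfsg Cfsg.Agent.OddHalf.D3.ThreeDefs Cfsg.Agent.OddHalf.D3.ThreeFam Cfsg.Agent.OddHalf.D3.ThreeMain
open Cfsg.Agent.OddHalf.D3.Swap Cfsg.Agent.OddHalf.D3.TwoCfg Cfsg.Agent.OddHalf.D3.TwoNF
open Cfsg.Agent.OddHalf.D3.EvDefs Cfsg.Agent.OddHalf.D3.TwoAct
open Cfsg.Agent.OddHalf.D3.TwoBB (NQ mem_NQ XQ Ends JQ mem_JQ mk_eq_one mk_eq_mk wit_of_mem)
open scoped commutatorElement

universe u

variable {G : Type u} [Group G]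

/-- (beta2) -/
structure B2 (𝓒 : Set (Set (Subgroup G))) (Q : Subgroup G) : Prop extends MW 𝓒 Q where
  el : ∀ c ∈ 𝓒, Q ≤ Nm c → ∀ A ∈ c, ∀ x ∈ Q, x ∈ A → x * x = 1
  nz : ∀ c ∈ 𝓒, Q ≤ Nm c → ∀ A ∈ c, ∃ x ∈ Q, x ∈ A ∧ x ∉ Zc c

variable {𝓒 : Set (Set (Subgroup G))} {Q : Subgroup G}

/-- (a) -/
theorem eq_one_of_prod [Finite G] (F : EFam 𝓒) (C : B2 𝓒 Q) {c d : Set (Subgroup G)} (hc : c ∈ 𝓒) (hd : d ∈ 𝓒)
    (hcd : c ≠ d) (hQc : Q ≤ Nm c) (hQd : Q ≤ Nm d) {A A' M : Subgroup G} (hA : A ∈ c) (hA' : A' ∈ c) (hne : A' ≠ A)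
    (hM : M ∈ d) {a b : G} (ha : a ∈ Q) (haA : a ∈ A) (hb : b ∈ Q) (hbA : b ∈ A') (hab : ∀ m ∈ M, a * b * m = m * (a * b)) :
    a * b = 1 := by
  by_contra hab1
  have hcomm : ∀ a ∈ A, ∀ b ∈ A', a * b = b * a := F.comm c hc A hA A' hA' (Ne.symm hne)
  have ha2 := C.el c hc hQc A hA a ha haA
  have hb2 := C.el c hc hQc A' hA' b hb hbA
  have h2 : a * b * (a * b) = 1 := by
    calc a * b * (a * b) = a * (b * a) * b := by group
      _ = a * (a * b) * b := by rw [hcomm a haA b hbA]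
      _ = (a * a) * (b * b) := by group
      _ = 1 := by rw [ha2, hb2, one_mul]
  obtain ⟨s, w⟩ := C.wit c hc hQc A hA
  have h1 := C.inverts F hc hQc hA w ha haA
  rw [inv_of_sq ha2] at h1
  have h3 : s * a = a * s := mul_inv_eq_iff_eq_mul.mp h1
  have h4 := hcomm s w.mem b hbA
  refine C.mv c hc d hd hcd hQc hQd A hA s w (F.cen hd (u := a * b) ⟨h2, hab1, M, hM, hab⟩ ?_)
  rw [mul_assoc, ← h4, ← mul_assoc, ← h3, mul_assoc]

/-- (a), for elements of `M` -/
theorem eq_one_of_prod' [Finite G] (F : EFam 𝓒) (C : B2 𝓒 Q) {c d : Set (Subgroup G)} (hc : c ∈ 𝓒) (hd : d ∈ 𝓒)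
    (hcd : c ≠ d) (hQc : Q ≤ Nm c) (hQd : Q ≤ Nm d) {A A' M : Subgroup G} (hA : A ∈ c) (hA' : A' ∈ c) (hne : A' ≠ A)
    (hM : M ∈ d) {a b : G} (ha : a ∈ Q) (haA : a ∈ A) (hb : b ∈ Q) (hbA : b ∈ A') (hab : a * b ∈ M) : a * b = 1 := by
  obtain ⟨M', hM', hne'⟩ := F.two d hd M
  exact eq_one_of_prod F C hc hd hcd hQc hQd hA hA' hne hM' ha haA hb hbA
    fun m hm => (F.comm d hd M hM M' hM' (Ne.symm hne') _ hab m hm)

/-- **(KEY)** -/
theorem key [Finite G] (F : EFam 𝓒) (C : B2 𝓒 Q) {c : Set (Subgroup G)} (hc : c ∈ 𝓒) (hQc : Q ≤ Nm c)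
    {A A' : Subgroup G} (hA : A ∈ c) (hA' : A' ∈ c) (hne : A' ≠ A) {s q : G} (w : Wit Q A s) (hq : q ∈ Q)
    (h : s * q ∈ A') : False := by
  obtain ⟨d, hd, hQd, hdc⟩ := C.other c
  obtain ⟨M, hM, -⟩ := F.two d hd ⊥
  have hQA : ∀ q ∈ Q, cj q A = A := fun q hq => hQc hq A hA
  have hQA' : ∀ q ∈ Q, cj q A' = A' := fun q hq => hQc hq A' hA'
  -- `s q` is a witness for `A'`
  have w' : Wit Q A' (s * q) := by
    refine ⟨h, cj_mul_eq w.norm (cj_eq_of_mem hq), fun h1 => w.not ?_, ?_⟩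
    · have : s = s * q * q⁻¹ := by group
      rw [this]; exact mul_mem h1 (inv_mem hq)
    · have h1 : s * q * s⁻¹ ∈ Q := conj_mem_of_cj w.norm hq
      have : s * q * (s * q) = (s * q * s⁻¹) * (s * s) * q := by group
      rw [this]
      exact mul_mem (mul_mem h1 w.sq) hq
  have key : ∀ x ∈ Q, x ∈ M → x⁻¹ * (s * x * s⁻¹) ∈ A' := by
    intro x hx hxM
    set y := q * x * q⁻¹ with hy
    have hyQ : y ∈ Q := mul_mem (mul_mem hq hx) (inv_mem hq)
    have hyM : y ∈ M := conj_mem_of_cj (hQd hq M hM) hxM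
    have h1 := r_mem hQA' w' (le_refl Q) hx
    have h2 := r_mem hQA w (le_refl Q) hyQ
    rw [Subgroup.mem_inf] at h1 h2
    have e : (x⁻¹ * ((s * q) * x * (s * q)⁻¹)) * (y⁻¹ * (s * y * s⁻¹))⁻¹ = x⁻¹ * y := by
      rw [hy]; group
    have h3 := eq_one_of_prod' F C hc hd (Ne.symm hdc) hQc hQd hA' hA (Ne.symm hne) hM h1.1 h1.2
      (inv_mem h2.1) (inv_mem h2.2) (by rw [e]; exact mul_mem (inv_mem hxM) hyM)
    have h4 : x⁻¹ * y = 1 := by rw [← e]; exact h3
    have h5 : x = y := inv_mul_eq_one.mp h4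
    rw [← h5] at h3
    have h6 := mul_inv_eq_one.mp h3
    rw [← h6]
    exact h1.2
  obtain ⟨x, hx, hxA, hxn⟩ := C.nz c hc hQc A hA
  obtain ⟨b, hb, hbx⟩ := (C.rp' F hc hd (Ne.symm hdc) hQc hQd hA hM w).surj hQA w
    (C.card_eq F hc hd hQc hQd hA hM).le hx hxA
  rw [Subgroup.mem_inf] at hb
  have h1 := key b hb.1 hb.2
  rw [hbx] at h1
  exact hxn ((C.mem_D F hc hQc hA hA' hne hx).mp ⟨hxA, h1⟩)

/-! ### The action -/

section act

/-- the action of `N_G(Q)` -/
def actE (F : EFam 𝓒) (g : NQ Q) (A : Ends 𝓒 Q) : Ends 𝓒 Q :=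
  ⟨cj (g : G) A.1, by
    obtain ⟨c, hc, hQc, hA⟩ := A.2
    exact ⟨cjs g c, F.conj g c hc, le_Nm_cjs g.2 hQc, cj_mem_cjs hA⟩⟩

/-- the permutation representation of `N_G(Q)` -/
def rho0 (F : EFam 𝓒) : NQ Q →* Equiv.Perm (Ends 𝓒 Q) where
  toFun g := ⟨actE F g, actE F g⁻¹, fun A => Subtype.ext (cj_inv_cj _ _), fun A => Subtype.ext (cj_cj_inv _ _)⟩
  map_one' := Equiv.ext fun A => Subtype.ext (cj_one _)
  map_mul' := fun a b => Equiv.ext fun A => Subtype.ext (cj_mul _ _ _)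

/-- the permutation representation of `N_G(Q) / Q` -/
def rho (F : EFam 𝓒) : XQ Q →* Equiv.Perm (Ends 𝓒 Q) :=
  QuotientGroup.lift (Q.subgroupOf (NQ Q)) (rho0 F) (by
    intro x hx
    refine Equiv.ext fun A => Subtype.ext ?_
    obtain ⟨c, hc, hQc, hA⟩ := A.2
    exact hQc hx A.1 hA)

theorem exists_partner (F : EFam 𝓒) (A : Ends 𝓒 Q) :
    ∃ B : Ends 𝓒 Q, B.1 ≠ A.1 ∧ ∃ c ∈ 𝓒, Q ≤ Nm c ∧ A.1 ∈ c ∧ B.1 ∈ c := by
  obtain ⟨c, hc, hQc, hA⟩ := A.2
  obtain ⟨B, hB, hne⟩ := F.two c hc A.1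
  exact ⟨⟨B, c, hc, hQc, hB⟩, hne, c, hc, hQc, hA, hB⟩

/-- the partner -/
noncomputable def partner (F : EFam 𝓒) (A : Ends 𝓒 Q) : Ends 𝓒 Q := (exists_partner F A).choose

theorem partner_ne (F : EFam 𝓒) (A : Ends 𝓒 Q) : (partner F A).1 ≠ A.1 := (exists_partner F A).choose_spec.1

theorem partner_mem (F : EFam 𝓒) (A : Ends 𝓒 Q) : ∃ c ∈ 𝓒, Q ≤ Nm c ∧ A.1 ∈ c ∧ (partner F A).1 ∈ c :=
  (exists_partner F A).choose_spec.2

theorem partner_eq (F : EF2 𝓒) {A B : Ends 𝓒 Q} (hne : B.1 ≠ A.1) {c : Set (Subgroup G)} (hc : c ∈ 𝓒) (hA : A.1 ∈ c)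
    (hB : B.1 ∈ c) : partner F.toEFam A = B := by
  obtain ⟨c', hc', hQc', hA', hP⟩ := partner_mem F.toEFam A
  have h1 := F.class_unique hc hc' hA hA'
  subst h1
  rcases F.le2 c hc A.1 hA B.1 hB _ hP with h | h | h
  · exact absurd h.symm hne
  · exact absurd h.symm (partner_ne F.toEFam A)
  · exact Subtype.ext h.symm

/-- different classes -/
theorem class_ne (F : EF2 𝓒) {α β : Ends 𝓒 Q} (h1 : β ≠ α) (h2 : β ≠ partner F.toEFam α) {c d : Set (Subgroup G)}
    (hc : c ∈ 𝓒) (hα : α.1 ∈ c) (hβ : β.1 ∈ d) : c ≠ d := by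
  rintro rfl
  exact h2 (partner_eq F (fun h => h1 (Subtype.ext h)) hc hα hβ).symm

/-- no element of `J α ∩ J (σ α)` -/
theorem no_both [Finite G] (F : EF2 𝓒) (C : B2 𝓒 Q) {α : Ends 𝓒 Q} {t : XQ Q} (ht : t ∈ JQ Q α.1)
    (ht' : t ∈ JQ Q (partner F.toEFam α).1) (ht2 : t * t = 1) : t = 1 := by
  by_contra ht1
  obtain ⟨s, w, hst⟩ := wit_of_mem ht ht2 ht1
  obtain ⟨s', hs', hst'⟩ := mem_JQ.mp ht'
  obtain ⟨c, hc, hQc, hα, hP⟩ := partner_mem F.toEFam α
  have h1 : (s : G)⁻¹ * s' ∈ Q := mk_eq_mk.mp (hst.trans hst'.symm)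
  refine key F.toEFam C hc hQc hα hP (partner_ne F.toEFam α) w h1 ?_
  have e : (s : G) * ((s : G)⁻¹ * s') = s' := by group
  rw [e]; exact hs'

/-- **the action** -/
noncomputable def act [Finite G] (F : EF2 𝓒) (C : B2 𝓒 Q) : Act (XQ Q) (Ends 𝓒 Q) where
  ρ := rho F.toEFam
  σ := partner F.toEFam
  σσ := by
    intro α
    obtain ⟨c, hc, hQc, hα, hP⟩ := partner_mem F.toEFam α
    exact partner_eq F (Ne.symm (partner_ne F.toEFam α)) hc hP hα
  σne := fun α h => partner_ne F.toEFam α (congrArg Subtype.val h)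
  σeq := by
    intro x α
    obtain ⟨g, rfl⟩ := QuotientGroup.mk_surjective x
    obtain ⟨c, hc, hQc, hα, hP⟩ := partner_mem F.toEFam α
    refine partner_eq F ?_ (F.conj g c hc) (cj_mem_cjs hα) (cj_mem_cjs hP)
    exact fun h => partner_ne F.toEFam α (cj_injective _ h)
  J := fun α => JQ Q α.1
  Jfix := by
    intro α t ht
    obtain ⟨s, hs, rfl⟩ := mem_JQ.mp ht
    exact Subtype.ext (cj_eq_of_mem hs)
  Jconj := by
    intro x α y hy
    obtain ⟨g, rfl⟩ := QuotientGroup.mk_surjective x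
    obtain ⟨s, hs, rfl⟩ := mem_JQ.mp hy
    refine mem_JQ.mpr ⟨g * s * g⁻¹, ?_, rfl⟩
    exact conj_mem_cj hs
  Jinv := by
    intro α
    obtain ⟨c, hc, hQc, hα⟩ := α.2
    obtain ⟨s, w⟩ := C.wit c hc hQc α.1 hα
    refine ⟨((⟨s, w.norm⟩ : NQ Q) : XQ Q), mem_JQ.mpr ⟨⟨s, w.norm⟩, w.mem, rfl⟩, ?_, ?_⟩
    · change (((⟨s, w.norm⟩ : NQ Q) * ⟨s, w.norm⟩ : NQ Q) : XQ Q) = 1
      rw [mk_eq_one]
      exact w.sq
    · intro h
      exact w.not (mk_eq_one.mp h)
  Jcomm := by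
    intro α a ha b hb
    obtain ⟨s, hs, rfl⟩ := mem_JQ.mp ha
    obtain ⟨t, ht, rfl⟩ := mem_JQ.mp hb
    obtain ⟨c, hc, hQc, hα, hP⟩ := partner_mem F.toEFam α
    change ((s * t : NQ Q) : XQ Q) = ((t * s : NQ Q) : XQ Q)
    congr 1
    exact Subtype.ext (F.comm c hc α.1 hα _ hP (Ne.symm (partner_ne F.toEFam α)) s hs t ht)
  Jtri := fun α t ht ht' ht2 => no_both F C ht ht' ht2
  A1 := by
    intro α β h1 h2 t ht2 hα hβ
    obtain ⟨g, rfl⟩ := QuotientGroup.mk_surjective t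
    obtain ⟨c, hc, hQc, hαc⟩ := α.2
    obtain ⟨d, hd, hQd, hβd⟩ := β.2
    have hcd := class_ne F h1 h2 hc hαc hβd
    have h3 : cj (g : G) α.1 = α.1 := congrArg Subtype.val hα
    have h4 : cj (g : G) β.1 = β.1 := congrArg Subtype.val hβ
    have h5 : ((g * g : NQ Q) : XQ Q) = 1 := ht2
    rw [mk_eq_one] at h5
    change ((g : NQ Q) : XQ Q) = 1
    rw [mk_eq_one]
    have hz := sq_pgroup C.pg h5
    have hn : ∀ w ∈ Subgroup.zpowers (g : G), cj w Q = Q := by
      have : Subgroup.zpowers (g : G) ≤ NQ Q := by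
        rw [Subgroup.zpowers_le]; exact g.2
      exact fun w hw => this hw
    have hg1 := mem_Nm_of_cj F hc hαc h3
    have hg2 := mem_Nm_of_cj F hd hβd h4
    have h6 := C.mx c hc d hd hcd hQc hQd (mulSub Q (Subgroup.zpowers (g : G)) hn) (isPGroup_mulSub C.pg hz)
      (mulSub_le hQc (by rw [Subgroup.zpowers_le]; exact hg1)) (mulSub_le hQd (by rw [Subgroup.zpowers_le]; exact hg2))
    exact (Subgroup.eq_of_le_of_card_ge le_mulSub_left h6).ge (le_mulSub_right (Subgroup.mem_zpowers _))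
  A6 := by
    intro α β a ha b hb ha2 ha1 hb2 hb1 hab
    have habc : a * b = b * a := by
      obtain ⟨s, hs, rfl⟩ := mem_JQ.mp ha
      obtain ⟨t, ht, rfl⟩ := mem_JQ.mp hb
      obtain ⟨c, hc, hQc, hα, hP⟩ := partner_mem F.toEFam α
      change ((s * t : NQ Q) : XQ Q) = ((t * s : NQ Q) : XQ Q)
      congr 1
      exact Subtype.ext (F.comm c hc α.1 hα _ hP (Ne.symm (partner_ne F.toEFam α)) s hs t ht)
    have hab2 : a * b * (a * b) = 1 := by
      calc a * b * (a * b) = a * (b * a) * b := by group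
        _ = a * (a * b) * b := by rw [habc]
        _ = (a * a) * (b * b) := by group
        _ = 1 := by rw [ha2, hb2, one_mul]
    have hab1 : a * b ≠ 1 := by
      intro h
      have h1 : a = b := by rw [eq_inv_of_mul_eq_one_left h, inv_of_sq hb2]
      subst h1
      exact ha1 (no_both F C ha hb ha2)
    obtain ⟨c, hc, hQc, hα, hP⟩ := partner_mem F.toEFam α
    by_cases h1 : β = α
    · subst h1
      have h2 : b ∈ JQ Q β.1 := by
        have : b = a⁻¹ * (a * b) := by group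
        rw [this]; exact mul_mem (inv_mem ha) hab
      exact hb1 (no_both F C h2 hb hb2)
    by_cases h2 : β = partner F.toEFam α
    · subst h2
      have h3 : a ∈ JQ Q (partner F.toEFam α).1 := by
        have : a = (a * b) * b⁻¹ := by group
        rw [this]; exact mul_mem hab (inv_mem hb)
      exact ha1 (no_both F C ha h3 ha2)
    · obtain ⟨d, hd, hQd, hβ⟩ := β.2
      have hcd := class_ne F h1 h2 hc hα hβ
      obtain ⟨r, w, hr⟩ := wit_of_mem hab hab2 hab1
      obtain ⟨s, hs, rfl⟩ := mem_JQ.mp ha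
      obtain ⟨t, ht, rfl⟩ := mem_JQ.mp hb
      have h3 : ((s * t : NQ Q) : G)⁻¹ * r ∈ Q := mk_eq_mk.mp hr.symm
      refine C.mv d hd c hc (Ne.symm hcd) hQd hQc β.1 hβ r w ?_
      have e : (r : G) = (s : G) * t * (((s * t : NQ Q) : G)⁻¹ * r) := by push_cast; group
      rw [e]
      exact mul_mem (mul_mem (F.mem_le_St hc hα hs) (F.mem_le_St hc hP ht)) (Nm_le_St c (hQc h3))

/-- **The swapping elements.** -/
theorem exists_conf [Finite G] (F : EF2 𝓒) (C : B2 𝓒 Q) {c d : Set (Subgroup G)} (hc : c ∈ 𝓒) (hd : d ∈ 𝓒)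
    (hcd : c ≠ d) (hQc : Q ≤ Nm c) (hQd : Q ≤ Nm d) :
    ∃ L1 ∈ c, ∃ L2 ∈ c, ∃ M1 ∈ d, ∃ M2 ∈ d, L2 ≠ L1 ∧ M2 ≠ M1 ∧
      ∃ g1 g2 h1 h2 : G, Wit Q L1 g1 ∧ Wit Q L2 g2 ∧ Wit Q M1 h1 ∧ Wit Q M2 h2 ∧
        cj (h1 * h2) L1 = L2 ∧ cj (g1 * g2) M1 = M2 := by
  obtain ⟨L1, hL1, -⟩ := F.two c hc ⊥
  obtain ⟨M1, hM1, -⟩ := F.two d hd ⊥
  set A := act F C with hA
  let α : Ends 𝓒 Q := ⟨L1, c, hc, hQc, hL1⟩
  let β : Ends 𝓒 Q := ⟨M1, d, hd, hQd, hM1⟩
  have h1 : β ≠ α := by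
    intro h
    have h3 : M1 = L1 := congrArg Subtype.val h
    subst h3
    exact hcd (F.class_unique hc hd hL1 hM1)
  obtain ⟨c', hc', hQc', hα, hP⟩ := partner_mem F.toEFam α
  have hcc : c' = c := F.class_unique hc' hc hα hL1
  subst hcc
  obtain ⟨d', hd', hQd', hβ, hP'⟩ := partner_mem F.toEFam β
  have hdd : d' = d := F.class_unique hd' hd hβ hM1
  subst hdd
  have h2 : β ≠ A.σ α := by
    intro h
    have h3 : M1 = (partner F.toEFam α).1 := congrArg Subtype.val h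
    rw [← h3] at hP
    exact hcd (F.class_unique hc hd hP hM1)
  obtain ⟨a, ha, ha2, ha1⟩ := A.Jinv α
  obtain ⟨b, hb, hb2, hb1⟩ := A.Jinv (A.σ α)
  obtain ⟨a', ha', ha2', ha1'⟩ := A.Jinv β
  obtain ⟨b', hb', hb2', hb1', e1, e2⟩ := A.main h1 h2 ha ha2 ha1 hb hb2 hb1 ha' ha2' ha1'
  obtain ⟨g1, w1, rfl⟩ := wit_of_mem ha ha2 ha1
  obtain ⟨g2, w2, rfl⟩ := wit_of_mem hb hb2 hb1
  obtain ⟨k1, w3, rfl⟩ := wit_of_mem ha' ha2' ha1'
  obtain ⟨k2, w4, rfl⟩ := wit_of_mem hb' hb2' hb1'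
  refine ⟨L1, hL1, (partner F.toEFam α).1, hP, M1, hM1, (partner F.toEFam β).1, hP',
    partner_ne F.toEFam α, partner_ne F.toEFam β, g1, g2, k1, k2, w1, w2, w3, w4, ?_, ?_⟩
  · exact congrArg Subtype.val e1
  · exact congrArg Subtype.val e2

end act

end Cfsg.Agent.OddHalf.D3.BEven
end

-- part: OddHalf/D3/BEven/Abs
section
prune_inst 0x101041001c0000000018000040003c42a2000102006b0001c10004040dc48d0080450721e0c006121010aec440300048101000700038000020000800411c0080002b12220075ac0011000000a003180c00000000000000000000000000000000000000000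
set_option linter.all false
open scoped Cfsg.Agent.FastGrp

/-!
# ODD D3 (iii), even centre, `n = 2`, (mv)-world, (beta2): the abstract configuration (text of helper159, bb ODD 10707)

`L a i` (`a i : Bool`): the two members of the class `a`; `T`: maximal 2-subgroup normalising the four members;
`g a i ∈ L a i` normalises `T`. All groups `P a i = T ∩ L a i` are elementary, `D a = P a 0 ∩ P a 1 ≠ P a i`.
-/

set_option autoImplicit false

namespace Cfsg.Agent.OddHalf.D3.BEven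

open Cfsg.Agent.OddHalf.D3.ThreeDefs Cfsg.Agent.OddHalf.D3.ThreeFam Cfsg.Agent.OddHalf.D3.ThreeMain
  Cfsg.Agent.OddHalf.D3.ThreeEnd
open Cfsg.Agent.OddHalf.D3.BTwo (comm_mem comm_mem' conj_eq_comm_mul comm_eq_one comm_one_of exists_two exists_fix Gd
  comm_mul_of dbl mem_dbl bool_third dich)
open scoped commutatorElement

universe u

variable {G : Type u} [Group G]

/-- The configuration (beta2). -/
structure BE (L : Bool → Bool → Subgroup G) (T : Subgroup G) (g : Bool → Bool → G) : Prop where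
  comm : ∀ a i i', i ≠ i' → ∀ x ∈ L a i, ∀ y ∈ L a i', x * y = y * x
  inj : ∀ a i b k, L a i = L b k → a = b ∧ i = k
  dis : ∀ a i b k, a ≠ b → ∀ x ∈ T, x ∈ L a i → x ∈ L b k → x = 1
  fus : ∀ a i b k x y, x ∈ T → x ∈ L a i → x ≠ 1 → y * x * y⁻¹ ∈ L b k → ∀ i', ∃ k', cj y (L a i') = L b k'
  mem : ∀ S : Subgroup G, IsPGroup 2 S → T ≤ S → ∀ a i b k, a ≠ b → ∀ d ∈ S, d ∈ L a i → ∀ x ∈ T, x ∈ L b k →
    x ≠ 1 → d * x = x * d → d ∈ T
  two : IsPGroup 2 T
  nrm : ∀ t ∈ T, ∀ a i, cj t (L a i) = L a i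
  el : ∀ a i, ∀ x ∈ T, x ∈ L a i → x * x = 1
  nz : ∀ a i i', i ≠ i' → ∃ x ∈ T, x ∈ L a i ∧ x ∉ L a i'
  prod : ∀ a i i' b k, a ≠ b → i ≠ i' → ∀ x ∈ T, x ∈ L a i → ∀ y ∈ T, y ∈ L a i' → x * y ∈ L b k → x * y = 1
  gm : ∀ a i, g a i ∈ L a i
  gT : ∀ a i, cj (g a i) T = T
  gn : ∀ a i, g a i ∉ T
  gs : ∀ a i, g a i * g a i ∈ T
  sw : ∀ a b, a ≠ b → ∀ k k', k ≠ k' → ∀ i i', i ≠ i' → cj (g b k * g b k') (L a i) = L a i'

namespace BE

variable {L : Bool → Bool → Subgroup G} {T : Subgroup G} {g : Bool → Bool → G}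

/-- the groups `P` of different classes commute -/
theorem comm_ne (h : BE L T g) {a b i k : Bool} (hab : a ≠ b) {x y : G} (hx : x ∈ T) (hxL : x ∈ L a i) (hy : y ∈ T)
    (hyL : y ∈ L b k) : x * y = y * x := by
  apply comm_eq_one
  refine h.dis a i b k hab _ ?_ (comm_mem hxL (h.nrm y hy a i)) (comm_mem' hyL (h.nrm x hx b k))
  rw [commutatorElement_def]
  exact mul_mem (mul_mem (mul_mem hx hy) (inv_mem hx)) (inv_mem hy)

theorem comm_P (h : BE L T g) {a i : Bool} {x y : G} (hx : x ∈ T) (hxL : x ∈ L a i) (hy : y ∈ T)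
    (hyL : y ∈ L a i) : x * y = y * x := by
  refine comm_of_sq (E := T ⊓ L a i) (fun z hz => ?_) ⟨hx, hxL⟩ ⟨hy, hyL⟩
  exact h.el a i z hz.1 hz.2

/-- all the groups `P` commute -/
theorem cT (h : BE L T g) {a b i k : Bool} {x y : G} (hx : x ∈ T) (hxL : x ∈ L a i) (hy : y ∈ T)
    (hyL : y ∈ L b k) : x * y = y * x := by
  by_cases hab : a = b
  · subst hab
    by_cases hik : i = k
    · subst hik; exact h.comm_P hx hxL hy hyL
    · exact h.comm a i k hik x hxL y hyL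
  · exact h.comm_ne hab hx hxL hy hyL

variable [Finite G]

theorem exS (h : BE L T g) (a i : Bool) : ∃ S : Subgroup G, IsPGroup 2 S ∧ T ≤ S ∧ g a i ∈ S :=
  exists_two h.two (h.gT a i) (h.gs a i)

omit [Finite G] in
theorem g_conj (h : BE L T g) (a i : Bool) {x : G} (hx : x ∈ T) : g a i * x * (g a i)⁻¹ ∈ T :=
  conj_mem_of_cj (h.gT a i) hx

theorem gd (h : BE L T g) (a i b k : Bool) : ∃ S, Gd L T a i b k S (g a i) := by
  obtain ⟨S, hS, hTS, hgS⟩ := h.exS a i
  exact ⟨S, hS, hTS, hgS, h.gm a i, h.gn a i, fun x hx _ => h.g_conj a i hx, fun x hx _ => h.g_conj a i hx⟩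

section gd
variable {a i b k : Bool} {S : Subgroup G} {d : G}

omit [Finite G] in
theorem rT (_h : BE L T g) (D : Gd L T a i b k S d) {x : G} (hx : x ∈ T) (hxL : x ∈ L b k) : ⁅d, x⁆ ∈ T := by
  rw [commutatorElement_def]
  exact mul_mem (D.R x hx hxL) (inv_mem hx)

omit [Finite G] in
theorem rL (h : BE L T g) (D : Gd L T a i b k S d) {x : G} (hx : x ∈ T) : ⁅d, x⁆ ∈ L a i :=
  comm_mem D.dL (h.nrm x hx a i)

omit [Finite G] in
theorem rmul (h : BE L T g) (D : Gd L T a i b k S d) {x y : G} (hx : x ∈ T) (hxL : x ∈ L b k)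
    (hy : y ∈ T) (hyL : y ∈ L b k) : ⁅d, x * y⁆ = ⁅d, x⁆ * ⁅d, y⁆ :=
  comm_mul_of (h.cT hx hxL (h.rT D hy hyL) (h.rL D hy))

omit [Finite G] in
theorem rinj (h : BE L T g) (hab : a ≠ b) (D : Gd L T a i b k S d) {x : G} (hx : x ∈ T) (hxL : x ∈ L b k)
    (h1 : ⁅d, x⁆ = 1) : x = 1 := by
  by_contra hx1
  exact D.nT (h.mem S D.hS D.TS a i b k hab d D.dS D.dL x hx hxL hx1 (comm_eq_one h1))

/-- the homomorphism `⁅d, ·⁆ : P b k → P a i` -/
def hom (h : BE L T g) (D : Gd L T a i b k S d) : ↥(T ⊓ L b k) →* ↥(T ⊓ L a i) where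
  toFun x := ⟨⁅d, (x : G)⁆, h.rT D x.2.1 x.2.2, h.rL D x.2.1⟩
  map_one' := by
    apply Subtype.ext
    simp
  map_mul' := by
    intro x y
    exact Subtype.ext (h.rmul D x.2.1 x.2.2 y.2.1 y.2.2)

omit [Finite G] in
theorem hom_injective (h : BE L T g) (hab : a ≠ b) (D : Gd L T a i b k S d) : Function.Injective (h.hom D) := by
  rw [injective_iff_map_eq_one]
  intro x hx
  exact Subtype.ext (h.rinj hab D x.2.1 x.2.2 (congrArg Subtype.val hx))

end gd

omit [Finite G] in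
theorem exists_ne (a : Bool) : ∃ b, a ≠ b := ⟨!a, by cases a <;> decide⟩

theorem card_eq (h : BE L T g) (a i b k : Bool) : Nat.card ↥(T ⊓ L a i) = Nat.card ↥(T ⊓ L b k) := by
  have key : ∀ a i b k : Bool, a ≠ b → Nat.card ↥(T ⊓ L a i) ≤ Nat.card ↥(T ⊓ L b k) := by
    intro a i b k hab
    obtain ⟨S, D⟩ := h.gd b k a i
    exact Nat.card_le_card_of_injective _ (h.hom_injective (Ne.symm hab) D)
  have key2 : ∀ a i b k : Bool, Nat.card ↥(T ⊓ L a i) ≤ Nat.card ↥(T ⊓ L b k) := by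
    intro a i b k
    by_cases hab : a = b
    · subst hab
      obtain ⟨c, hc⟩ := exists_ne a
      exact (key a i c i hc).trans (key c i a k (Ne.symm hc))
    · exact key a i b k hab
  exact le_antisymm (key2 a i b k) (key2 b k a i)

omit [Finite G] in
/-- `P a i ≠ 1` -/
theorem P_ne (h : BE L T g) (a i : Bool) : ∃ x ∈ T ⊓ L a i, x ≠ 1 := by
  obtain ⟨i', hi⟩ := exists_ne i
  obtain ⟨x, hx, hxL, hx'⟩ := h.nz a i i' hi
  exact ⟨x, ⟨hx, hxL⟩, fun h1 => hx' (h1 ▸ one_mem _)⟩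

section gd2
variable {a i b k : Bool} {S : Subgroup G} {d : G}

theorem rsurj (h : BE L T g) (hab : a ≠ b) (D : Gd L T a i b k S d) {p : G} (hp : p ∈ T) (hpL : p ∈ L a i) :
    ∃ x ∈ T, x ∈ L b k ∧ ⁅d, x⁆ = p := by
  have h1 : Function.Bijective (h.hom D) := by
    rw [Nat.bijective_iff_injective_and_card]
    exact ⟨h.hom_injective hab D, h.card_eq b k a i⟩
  obtain ⟨x, hx⟩ := h1.2 ⟨p, hp, hpL⟩
  exact ⟨x, x.2.1, x.2.2, congrArg Subtype.val hx⟩

/-- `d² ∈ T` -/
theorem d_sq (h : BE L T g) (hab : a ≠ b) (D : Gd L T a i b k S d) : d * d ∈ T := by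
  obtain ⟨p, hp, hp2, hp1, hdp⟩ := exists_fix D.hS D.dS (P := T ⊓ L a i) (inf_le_left.trans D.TS)
    (fun x hx => ⟨D.P x hx.1 hx.2, (L a i).mul_mem ((L a i).mul_mem D.dL hx.2) ((L a i).inv_mem D.dL)⟩) (h.P_ne a i)
  obtain ⟨x, hx, hxL, hxp⟩ := h.rsurj hab D hp.1 hp.2
  have hx1 : x ≠ 1 := by
    rintro rfl
    apply hp1
    rw [← hxp]; simp
  refine h.mem S D.hS D.TS a i b k hab _ (mul_mem D.dS D.dS) (mul_mem D.dL D.dL) x hx hxL hx1 ?_
  have h1 : d * x * d⁻¹ = p * x := by rw [conj_eq_comm_mul, hxp]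
  have h2 : d * (p * x) * d⁻¹ = x := by
    calc d * (p * x) * d⁻¹ = (d * p * d⁻¹) * (d * x * d⁻¹) := by group
      _ = (p * d * d⁻¹) * (p * x) := by rw [h1, hdp]
      _ = (p * p) * x := by group
      _ = x := by rw [hp2, one_mul]
  calc d * d * x = d * (d * x * d⁻¹) * d⁻¹ * (d * d) := by group
    _ = d * (p * x) * d⁻¹ * (d * d) := by rw [h1]
    _ = x * (d * d) := by rw [h2]

/-- `d` centralises `P a i` -/
theorem d_comm (h : BE L T g) (hab : a ≠ b) (D : Gd L T a i b k S d) {p : G} (hp : p ∈ T) (hpL : p ∈ L a i) :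
    d * p = p * d := by
  obtain ⟨x, hx, hxL, hxp⟩ := h.rsurj hab D hp hpL
  have h1 : d * x * d⁻¹ = p * x := by rw [conj_eq_comm_mul, hxp]
  have h2 : (d * d) * x = x * (d * d) := h.cT (h.d_sq hab D) (mul_mem D.dL D.dL) hx hxL
  have h3 : (d * p * d⁻¹) * (p * x) = x := by
    calc (d * p * d⁻¹) * (p * x) = (d * p * d⁻¹) * (d * x * d⁻¹) := by rw [h1]
      _ = d * (p * x) * d⁻¹ := by group
      _ = d * (d * x * d⁻¹) * d⁻¹ := by rw [h1]
      _ = (d * d) * x * (d * d)⁻¹ := by group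
      _ = x := by rw [h2]; group
  have h4 : (d * p * d⁻¹) * p = 1 := by
    calc (d * p * d⁻¹) * p = (d * p * d⁻¹) * (p * x) * x⁻¹ := by group
      _ = 1 := by rw [h3]; group
  have h5 : d * p * d⁻¹ = p := by
    rw [eq_inv_of_mul_eq_one_left h4, inv_of_sq (h.el a i p hp hpL)]
  exact mul_inv_eq_iff_eq_mul.mp h5

end gd2

theorem g_cent (h : BE L T g) (a i : Bool) {p : G} (hp : p ∈ T) (hpL : p ∈ L a i) : g a i * p = p * g a i := by
  obtain ⟨b, hab⟩ := exists_ne a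
  obtain ⟨S, D⟩ := h.gd a i b i
  exact h.d_comm hab D hp hpL

omit [Finite G] in
theorem cm_T (h : BE L T g) {x : G} (hx : x ∈ T) (a i : Bool) : ⁅g a i, x⁆ ∈ T := by
  rw [commutatorElement_def]
  exact mul_mem (h.g_conj a i hx) (inv_mem hx)

omit [Finite G] in
theorem cm_L (h : BE L T g) {x : G} (hx : x ∈ T) (a i : Bool) : ⁅g a i, x⁆ ∈ L a i := comm_mem (h.gm a i) (h.nrm x hx a i)

theorem cm_one (h : BE L T g) {a b : Bool} (hab : a ≠ b) {i k : Bool} {x : G} (hx : x ∈ T) (hxL : x ∈ L b k)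
    (h1 : ⁅g a i, x⁆ = 1) : x = 1 := by
  obtain ⟨S, D⟩ := h.gd a i b k
  exact h.rinj hab D hx hxL h1

theorem cm_surj (h : BE L T g) {a b : Bool} (hab : a ≠ b) (i k : Bool) {p : G} (hp : p ∈ T) (hpL : p ∈ L a i) :
    ∃ x ∈ T, x ∈ L b k ∧ ⁅g a i, x⁆ = p := by
  obtain ⟨S, D⟩ := h.gd a i b k
  exact h.rsurj hab D hp hpL

section sw
variable {a b i i' k k' : Bool}

omit [Finite G] in
/-- conjugation by `g b k g b k'` -/
theorem j_conj (h : BE L T g) (hk : k ≠ k') {p : G} (hp : p ∈ T) :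
    g b k * g b k' * p * (g b k * g b k')⁻¹ = ⁅g b k, p⁆ * ⁅g b k', p⁆ * p := by
  have h1 : g b k * ⁅g b k', p⁆ = ⁅g b k', p⁆ * g b k := h.comm b k k' hk _ (h.gm b k) _ (h.cm_L hp b k')
  have h2 : ⁅g b k, p⁆ * ⁅g b k', p⁆ = ⁅g b k', p⁆ * ⁅g b k, p⁆ := h.comm b k k' hk _ (h.cm_L hp b k) _ (h.cm_L hp b k')
  calc g b k * g b k' * p * (g b k * g b k')⁻¹ = g b k * (g b k' * p * (g b k')⁻¹) * (g b k)⁻¹ := by group
    _ = g b k * (⁅g b k', p⁆ * p) * (g b k)⁻¹ := by rw [conj_eq_comm_mul (g b k') p]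
    _ = (g b k * ⁅g b k', p⁆) * p * (g b k)⁻¹ := by group
    _ = (⁅g b k', p⁆ * g b k) * p * (g b k)⁻¹ := by rw [h1]
    _ = ⁅g b k', p⁆ * (g b k * p * (g b k)⁻¹) := by group
    _ = ⁅g b k', p⁆ * (⁅g b k, p⁆ * p) := by rw [conj_eq_comm_mul (g b k) p]
    _ = (⁅g b k', p⁆ * ⁅g b k, p⁆) * p := by group
    _ = _ := by rw [h2]

omit [Finite G] in
theorem j_L (h : BE L T g) (hab : a ≠ b) (hk : k ≠ k') (hi : i ≠ i') {p : G} (hpL : p ∈ L a i) :
    g b k * g b k' * p * (g b k * g b k')⁻¹ ∈ L a i' := by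
  have h1 := conj_mem_cj (g := g b k * g b k') hpL
  rwa [h.sw a b hab k k' hk i i' hi] at h1

omit [Finite G] in
/-- (c): `⁅g b k, D a⁆ ≤ D b` -/
theorem cm_D (h : BE L T g) (hab : a ≠ b) (hi : i ≠ i') (hk : k ≠ k') {z : G} (hz : z ∈ T) (hz1 : z ∈ L a i)
    (hz2 : z ∈ L a i') : ⁅g b k, z⁆ ∈ L b k' := by
  have h1 : ⁅g b k, z⁆ * ⁅g b k', z⁆ ∈ L a i := by
    have h2 := h.j_conj (b := b) hk hz
    have h3 : ⁅g b k, z⁆ * ⁅g b k', z⁆ = g b k * g b k' * z * (g b k * g b k')⁻¹ * z⁻¹ := by rw [h2]; group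
    rw [h3]
    exact mul_mem (h.j_L hab hk (Ne.symm hi) hz2) (inv_mem hz1)
  have h2 := h.prod b k k' a i (Ne.symm hab) hk _ (h.cm_T hz b k) (h.cm_L hz b k) _ (h.cm_T hz b k') (h.cm_L hz b k') h1
  rw [eq_inv_of_mul_eq_one_left h2]
  exact inv_mem (h.cm_L hz b k')

end sw

end BE

end Cfsg.Agent.OddHalf.D3.BEven
end
end
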