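import Cfsg.Agent.KFacts.HN.Sheet
import Cfsg.Agent.Co2Type.Quad
import Cfsg.Agent.OddHalf.D4.Spor.OfBasic
import Cfsg.Agent.OddHalf.D4.Spor.Transport
import Cfsg.Agent.KFacts.J4.SheetJ4
import Cfsg.Agent.J4Type.DuadCent
import Cfsg.Agent.J4Type.FusionComm
import Cfsg.Agent.J4Type.FrameInput
import Cfsg.Agent.J4Type.Final
import Cfsg.Agent.FastGrp
import Cfsg.Agent.Prune
set_option linter.all false

section
prune_inst 0x7ffcfefbaff8bfffffff7e7fffffdffff9fcffffffdffbfbfffdffffffff6b6ffff5fbafffefdafffef7f2bef2f87bd3fdffbefeefb9fd7ffffdfff47fffff9fffffbfae7dffbcbe1ffe7ffffbffffffffffffffffffffffffffffffffffffffffffffffffff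

-- part: OddHalf/D4/Spor/HN
section
prune_inst 0x200004002000000000000000000000600000000000000000000000000001000000000000020000000000000000020020040010046000000000000000000000000000100000000000000000000000000000000000000000000000000000000000000000000
set_option linter.all false
open scoped Cfsg.Agent.FastGrp

-- merged: Cfsg.Agent.KFacts.HN.Hs
section

/-!
# Normal subgroups of the centraliser of `τ` in HN

`normal_cases_H0`: a normal subgroup of `H0 = 2.HS.2` is contained in `{1, τ}` or contains `2.HS` up to `τ`.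
`normal_cases_w`: the same for the centraliser of an involution `w` conjugate to `Q 0 = ψ τ`.
-/

set_option autoImplicit false
set_option Elab.async false

namespace Cfsg.Agent.KFacts.HN

open Cfsg.Agent.HN Cfsg.Agent.HN.Pres Cfsg.Agent.HN.P1408 Cfsg.Agent.HN.H0Basic
open Cfsg.Agent.HN.XStruct Cfsg.Agent.HN.XWords Cfsg.Agent.HN.XInst Cfsg.Agent.HN.FusGen

theorem ker_cases {g : HS100.K} (hg : g ∈ DoubleCover.φK.ker) : (g : H0) = 1 ∨ (g : H0) = gx ^ 2 := by
  have hx : gx ^ 2 ≠ 1 := gx_sq_ne_one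
  have hc := DoubleCover.card_ker H0Basic.card_H0 hx
  by_contra hcon
  push Not at hcon
  have hmem : (⟨gx ^ 2, HS100.K.pow_mem HS100.gx_mem 2⟩ : HS100.K) ∈ DoubleCover.φK.ker := by
    rw [MonoidHom.mem_ker]
    apply Subtype.ext
    rw [DoubleCover.φK_coe]
    change HS100.φ (gx ^ 2) = 1
    rw [map_pow, HS100.φ_gx, HS100.X_sq]
  obtain ⟨u, v, huv, huniv⟩ := Nat.card_eq_two_iff.1 hc
  have m1 : (1 : DoubleCover.φK.ker) ∈ ({u, v} : Set DoubleCover.φK.ker) := by rw [huniv]; trivial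
  have m2 : (⟨g, hg⟩ : DoubleCover.φK.ker) ∈ ({u, v} : Set DoubleCover.φK.ker) := by rw [huniv]; trivial
  have m3 : (⟨_, hmem⟩ : DoubleCover.φK.ker) ∈ ({u, v} : Set DoubleCover.φK.ker) := by rw [huniv]; trivial
  have n12 : (⟨g, hg⟩ : DoubleCover.φK.ker) ≠ 1 := fun h =>
    hcon.1 (congrArg (fun x : DoubleCover.φK.ker => ((x : HS100.K) : H0)) h)
  have n13 : (⟨_, hmem⟩ : DoubleCover.φK.ker) ≠ 1 := fun h =>
    hx (congrArg (fun x : DoubleCover.φK.ker => ((x : HS100.K) : H0)) h)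
  have n23 : (⟨g, hg⟩ : DoubleCover.φK.ker) ≠ ⟨_, hmem⟩ := fun h =>
    hcon.2 (congrArg (fun x : DoubleCover.φK.ker => ((x : HS100.K) : H0)) h)
  rcases m1 with h | h <;> rcases m2 with h' | h' <;> rcases m3 with h'' | h''
  · exact n12 (h'.trans h.symm)
  · exact n12 (h'.trans h.symm)
  · exact n13 (h''.trans h.symm)
  · exact n23 (h'.trans h''.symm)
  · exact n23 (h'.trans h''.symm)
  · exact n13 (h''.trans h.symm)
  · exact n12 (h'.trans h.symm)
  · exact n12 (h'.trans h.symm)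

theorem normal_cases_H0 (N : Subgroup H0) (hN : N.Normal) :
    (∀ n ∈ N, n = 1 ∨ n = gx ^ 2) ∨ (∀ k ∈ HS100.K, k ∈ N ∨ k * gx ^ 2 ∈ N) := by
  have hx : gx ^ 2 ≠ 1 := gx_sq_ne_one
  obtain ⟨-, hs⟩ := DoubleCover.nonempty_Q H0Basic.card_H0 hx
  have hM : (N.subgroupOf HS100.K).Normal := Subgroup.normal_subgroupOf
  rcases hs.eq_bot_or_eq_top_of_normal ((N.subgroupOf HS100.K).map DoubleCover.φK)
    (hM.map DoubleCover.φK DoubleCover.φK_surj) with h | h
  · left
    have h1 : N.subgroupOf HS100.K ≤ DoubleCover.φK.ker := (Subgroup.map_eq_bot_iff (N.subgroupOf HS100.K)).1 h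
    have h3 : ∀ n ∈ N, n ∈ HS100.K → n = 1 ∨ n = gx ^ 2 := by
      intro n hn hk
      have h4 : (⟨n, hk⟩ : HS100.K) ∈ N.subgroupOf HS100.K := hn
      exact ker_cases (h1 h4)
    have hφx : HS100.φ (gx ^ 2) = 1 := by rw [map_pow, HS100.φ_gx, HS100.X_sq]
    intro n hn
    have h8 : HS100.φ n = 1 := by
      apply NormalH.eq_one_of_commute_Q
      rintro _ ⟨k, hk, rfl⟩
      have h6 : k * n * k⁻¹ * n⁻¹ = 1 ∨ k * n * k⁻¹ * n⁻¹ = gx ^ 2 := by
        apply h3
        · exact N.mul_mem (hN.conj_mem n hn k) (N.inv_mem hn)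
        · have h7 : k * (n * k⁻¹ * n⁻¹) ∈ HS100.K :=
            HS100.K.mul_mem hk (HS100.K_normal.conj_mem _ (HS100.K.inv_mem hk) n)
          simpa only [mul_assoc] using h7
      have h9 : HS100.φ (k * n * k⁻¹ * n⁻¹) = 1 := by
        rcases h6 with h6 | h6
        · rw [h6, map_one]
        · rw [h6, hφx]
      rw [map_mul, map_mul, map_mul, map_inv, map_inv, mul_inv_eq_one, mul_inv_eq_iff_eq_mul] at h9
      exact h9
    exact h3 n hn (DoubleCover.ker_le h8)
  · right
    intro k hk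
    have h1 : DoubleCover.φK ⟨k, hk⟩ ∈ (N.subgroupOf HS100.K).map DoubleCover.φK := by rw [h]; trivial
    obtain ⟨n, hn, h2⟩ := h1
    have h3 : (⟨k, hk⟩ : HS100.K) * n⁻¹ ∈ DoubleCover.φK.ker := by
      rw [MonoidHom.mem_ker, map_mul, map_inv, h2, mul_inv_cancel]
    rcases ker_cases h3 with h4 | h4
    · left
      have h5 : k * (n : H0)⁻¹ = 1 := h4
      rw [mul_inv_eq_one] at h5
      rw [h5]; exact hn
    · right
      have h5 : k * (n : H0)⁻¹ = gx ^ 2 := h4
      have h6 : k = gx ^ 2 * n := by rw [← h5]; group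
      have h7 : ∀ u : H0, gx ^ 2 * u = u * gx ^ 2 := fun u => (τ_comm u).symm
      have h8 : gx ^ 2 * gx ^ 2 = 1 := τ_mul_τ
      rw [h6, mul_assoc, ← h7 n, ← mul_assoc, h8, one_mul]
      exact hn

theorem Q0_eq : Q 0 = NormalH.ψ τ := inst.t_eq

theorem mem_range_of_comm {c : Cfsg.Spor.HN} (hc : c * Q 0 = Q 0 * c) : ∃ u : H0, NormalH.ψ u = c := by
  have h1 : c ∈ NormalH.H := by
    apply Central.centralizer_le
    rw [Subgroup.mem_centralizer_singleton_iff]
    have h2 : NormalH.ψ τ = Pres.hx ^ 2 := by rw [τ, map_pow, NormalH.ψ_gx]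
    rw [← h2, ← Q0_eq]
    exact hc
  rw [← NormalH.range_ψ] at h1
  exact h1

theorem comm_of_ψ (u : H0) : NormalH.ψ u * Q 0 = Q 0 * NormalH.ψ u := by
  rw [Q0_eq, ← map_mul, ← map_mul, τ_comm]

theorem aτ_mem_K : (Syl.a * τ) ∈ HS100.K := by
  rw [← Syl.hw_a, ← hw_τ, ← hw_append]
  have h : ∀ w : List ℕ, (∀ l ∈ w, l = 0 ∨ l = 2) → hw w ∈ HS100.K := by
    intro w
    induction w with
    | nil => intro _; exact HS100.K.one_mem
    | cons l w ih =>
      intro hl
      rw [hw_cons]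
      refine HS100.K.mul_mem ?_ (ih fun k hk => hl k (List.mem_cons_of_mem _ hk))
      rcases hl l List.mem_cons_self with rfl | rfl
      · rw [hw_x]; exact HS100.gx_mem
      · rw [hw_y]; exact HS100.gy_mem
  exact h _ (by decide)

theorem Q0_sq : Q 0 * Q 0 = 1 := Q_sq (by norm_num)

theorem Q0_ne : Q 0 ≠ 1 := by
  rw [Q0_eq, ← map_one NormalH.ψ]
  exact fun h => τ_ne_one (emb.inj h)

/-- subgroups of `C(τ)` normalised by `C(τ)` -/
theorem normal_cases_Q0 (N : Subgroup Cfsg.Spor.HN) (h1 : ∀ n ∈ N, n * Q 0 = Q 0 * n)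
    (h2 : ∀ c, c * Q 0 = Q 0 * c → ∀ n ∈ N, c * n * c⁻¹ ∈ N) :
    (∀ n ∈ N, n = 1 ∨ n = Q 0) ∨ (W0 ∈ N ∨ W0 * Q 0 ∈ N) := by
  have hnor : (N.comap NormalH.ψ).Normal := by
    refine ⟨fun n hn g => ?_⟩
    rw [Subgroup.mem_comap] at hn ⊢
    rw [map_mul, map_mul, map_inv]
    exact h2 _ (comm_of_ψ g) _ hn
  rcases normal_cases_H0 _ hnor with h | h
  · left
    intro n hn
    obtain ⟨u, rfl⟩ := mem_range_of_comm (h1 n hn)
    rcases h u hn with h3 | h3
    · left; rw [h3, map_one]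
    · right; rw [h3, Q0_eq]; rfl
  · right
    rcases h _ aτ_mem_K with h3 | h3
    · left
      rw [W0_eq]; exact h3
    · right
      rw [Subgroup.mem_comap, map_mul] at h3
      rw [W0_eq, Q0_eq]; exact h3

/-- the same for a conjugate of `τ` -/
theorem normal_cases_w {w : Cfsg.Spor.HN} (hw : IsConj (Q 0) w) (N : Subgroup Cfsg.Spor.HN)
    (h1 : ∀ n ∈ N, n * w = w * n) (h2 : ∀ c, c * w = w * c → ∀ n ∈ N, c * n * c⁻¹ ∈ N) :
    (∀ n ∈ N, n = 1 ∨ n = w) ∨ ∃ b, IsConj W0 b ∧ (b ∈ N ∨ b * w ∈ N) ∧ b * w = w * b := by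
  obtain ⟨g, rfl⟩ := isConj_iff.1 hw
  have e1 : ∀ c : Cfsg.Spor.HN, c * Q 0 = Q 0 * c → (g * c * g⁻¹) * (g * Q 0 * g⁻¹) = (g * Q 0 * g⁻¹) * (g * c * g⁻¹) := by
    intro c hc
    calc (g * c * g⁻¹) * (g * Q 0 * g⁻¹) = g * (c * Q 0) * g⁻¹ := by group
      _ = g * (Q 0 * c) * g⁻¹ := by rw [hc]
      _ = _ := by group
  have hA : ∀ n ∈ N.comap (MulAut.conj g).toMonoidHom, n * Q 0 = Q 0 * n := by
    intro n hn
    have h3 := h1 _ hn
    change g * n * g⁻¹ * (g * Q 0 * g⁻¹) = g * Q 0 * g⁻¹ * (g * n * g⁻¹) at h3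
    have h4 : g * (n * Q 0) * g⁻¹ = g * (Q 0 * n) * g⁻¹ := by
      calc g * (n * Q 0) * g⁻¹ = g * n * g⁻¹ * (g * Q 0 * g⁻¹) := by group
        _ = _ := h3
        _ = g * (Q 0 * n) * g⁻¹ := by group
    exact mul_left_cancel (mul_right_cancel h4)
  have hB : ∀ c, c * Q 0 = Q 0 * c → ∀ n ∈ N.comap (MulAut.conj g).toMonoidHom,
      c * n * c⁻¹ ∈ N.comap (MulAut.conj g).toMonoidHom := by
    intro c hc n hn
    have h3 := h2 _ (e1 c hc) _ hn
    change g * c * g⁻¹ * (g * n * g⁻¹) * (g * c * g⁻¹)⁻¹ ∈ N at h3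
    change g * (c * n * c⁻¹) * g⁻¹ ∈ N
    have e : g * (c * n * c⁻¹) * g⁻¹ = g * c * g⁻¹ * (g * n * g⁻¹) * (g * c * g⁻¹)⁻¹ := by group
    rwa [e]
  rcases normal_cases_Q0 (N.comap (MulAut.conj g).toMonoidHom) hA hB with h | h
  · left
    intro n hn
    have h3 : g⁻¹ * n * g ∈ N.comap (MulAut.conj g).toMonoidHom := by
      rw [Subgroup.mem_comap]
      change g * (g⁻¹ * n * g) * g⁻¹ ∈ N
      have e : g * (g⁻¹ * n * g) * g⁻¹ = n := by group
      rwa [e]
    rcases h _ h3 with h4 | h4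
    · left
      calc n = g * (g⁻¹ * n * g) * g⁻¹ := by group
        _ = 1 := by rw [h4]; group
    · right
      calc n = g * (g⁻¹ * n * g) * g⁻¹ := by group
        _ = g * Q 0 * g⁻¹ := by rw [h4]
  · right
    refine ⟨g * W0 * g⁻¹, isConj_iff.2 ⟨g, rfl⟩, ?_, e1 W0 (cw (by norm_num))⟩
    rcases h with h | h
    · exact Or.inl h
    · right
      have h3 : g * (W0 * Q 0) * g⁻¹ ∈ N := h
      have e : g * W0 * g⁻¹ * (g * Q 0 * g⁻¹) = g * (W0 * Q 0) * g⁻¹ := by group
      rwa [e]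

end Cfsg.Agent.KFacts.HN

end

-- merged: Cfsg.Agent.KFacts.LargeOutTwo
section

/-!
# Involutory automorphisms which almost centralise `C(q)`, `q ∈ Q` an involution

`Large Q z`, `β` an automorphism fixing `z`, `q ∈ Q`, `q ∉ ⟨z⟩`, `q² = 1`, `β q = q`, `β c ∈ {c, q c}` for the elements
`c` of `C(q)`, `β² = 1` on `Q`. If no involution `e ∈ Q` outside `⟨z, q⟩` is fixed modulo `⟨z, q⟩` by `C(z) ∩ C(q)`
(by a subset `U` of it), then `β` is trivial on `Q/⟨z⟩` (`triv`).
(The field `out2` of the sheets of `OddHalf/D4/Spor`.)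
-/

set_option autoImplicit false

namespace Cfsg.Agent.KFacts.LargeOutTwo

open Cfsg.Agent.Co2Type.Quad

variable {K : Type*} [Group K] {Q : Subgroup K} {z q : K}

/-- membership in `⟨z, q⟩` -/
def Z2 (z q x : K) : Prop := x = 1 ∨ x = z ∨ x = q ∨ x = q * z

/-- the double centraliser in `Q` -/
theorem bicomm (L : Large Q z) (hqQ : q ∈ Q) (hqq : q * q = 1) {r : K} (hr : r ∈ Q) (hrq : r * q ≠ q * r) {x : K}
    (hx : x ∈ Q) (h : ∀ y ∈ Q, y * q = q * y → x * y = y * x) : Z2 z q x := by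
  have hc := L.comm_z
  have hrz := (L.comm r hr q hqQ).resolve_left hrq
  -- an element of `Q` commuting with `C_Q(q)` and `r` is in `⟨z⟩`
  have key : ∀ x ∈ Q, (∀ y ∈ Q, y * q = q * y → x * y = y * x) → x * r = r * x → x = 1 ∨ x = z := by
    intro x hx h hxr
    refine L.cent x hx fun y hy => ?_
    rcases L.comm y hy q hqQ with h1 | h1
    · exact h y hy h1
    · have h2 : (y * r) * q = q * (y * r) := by
        calc y * r * q = y * (r * q) := by group
          _ = (y * q) * (r * z) := by rw [hrz]; group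
          _ = q * y * (z * r) * z := by rw [h1]; group
          _ = q * (y * r) * (z * z) := by rw [← hc r hr]; group
          _ = _ := by rw [L.z_sq, mul_one]
      have h3 := h _ (Q.mul_mem hy hr) h2
      have h4 : x * y * r = y * x * r := by
        calc x * y * r = x * (y * r) := by group
          _ = y * (r * x) := by rw [h3]; group
          _ = y * x * r := by rw [← hxr]; group
      exact mul_right_cancel h4
  by_cases hxr : x * r = r * x
  · rcases key x hx h hxr with h1 | h1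
    · exact Or.inl h1
    · exact Or.inr (Or.inl h1)
  · have h1 := (L.comm x hx r hr).resolve_left hxr
    have h2 : (x * q) * r = r * (x * q) := by
      have h3 : q * r = r * q * z := by
        rw [hrz, mul_assoc, L.z_sq, mul_one]
      calc x * q * r = x * (q * r) := by group
        _ = (x * r) * (q * z) := by rw [h3]; group
        _ = r * x * (z * q) * z := by rw [h1]; group
        _ = r * (x * q) * (z * z) := by rw [← hc q hqQ]; group
        _ = _ := by rw [L.z_sq, mul_one]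
    have h4 := key (x * q) (Q.mul_mem hx hqQ) (fun y hy hyq => by
      calc x * q * y = x * (y * q) := by rw [hyq]; group
        _ = (x * y) * q := by group
        _ = y * (x * q) := by rw [h y hy hyq]; group) h2
    have hqi : q⁻¹ = q := inv_eq_of_mul_eq_one_left hqq
    rcases h4 with h4 | h4
    · right; right; left
      rw [mul_eq_one_iff_eq_inv, hqi] at h4
      exact h4
    · right; right; right
      rw [← eq_mul_inv_iff_mul_eq, hqi, ← hc q hqQ] at h4
      exact h4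

/-- the hypotheses -/
structure Hyp (Q : Subgroup K) (z q : K) (β : MulAut K) : Prop where
  L : Large Q z
  hz : β z = z
  hQ : ∀ x ∈ Q, β x ∈ Q
  hqQ : q ∈ Q
  hq1 : q ≠ 1
  hqz : q ≠ z
  hqq : q * q = 1
  hq : β q = q
  hD : ∀ c ∈ Q, c * q = q * c → β c = c ∨ β c = q * c

/-- the elements commuting with `D = {x ∈ C_Q(q) | β x = x}` -/
def E (Q : Subgroup K) (q : K) (β : MulAut K) (e : K) : Prop :=
  e ∈ Q ∧ ∀ x ∈ Q, x * q = q * x → β x = x → e * x = x * e

namespace Hyp

variable {β : MulAut K}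

theorem exists_r (H : Hyp Q z q β) : ∃ r ∈ Q, r * q ≠ q * r := by
  by_contra h
  push Not at h
  rcases H.L.cent q H.hqQ (fun y hy => (h y hy).symm) with h1 | h1
  · exact H.hq1 h1
  · exact H.hqz h1

theorem bic (H : Hyp Q z q β) {x : K} (hx : x ∈ Q) (h : ∀ y ∈ Q, y * q = q * y → x * y = y * x) : Z2 z q x := by
  obtain ⟨r, hr, hrq⟩ := H.exists_r
  exact bicomm H.L H.hqQ H.hqq hr hrq hx h

theorem z2_fix (H : Hyp Q z q β) {x : K} (h : Z2 z q x) : β x = x := by
  rcases h with rfl | rfl | rfl | rfl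
  · exact map_one β
  · exact H.hz
  · exact H.hq
  · rw [map_mul, H.hq, H.hz]

theorem q_mem_D (H : Hyp Q z q β) {e : K} (he : E Q q β e) : e * q = q * e := he.2 q H.hqQ rfl H.hq

/-- an element of `E` commuting with some `y ∈ C_Q(q)`, `β y ≠ y` -/
theorem z2_of_comm (H : Hyp Q z q β) {e : K} (he : E Q q β e) {y : K} (hy : y ∈ Q) (hyq : y * q = q * y)
    (hβ : β y ≠ y) (hey : e * y = y * e) : Z2 z q e := by
  have hβy := (H.hD y hy hyq).resolve_left hβ
  refine H.bic he.1 fun x hx hxq => ?_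
  rcases H.hD x hx hxq with h1 | h1
  · exact he.2 x hx hxq h1
  · have h2 : x * y⁻¹ ∈ Q := Q.mul_mem hx (Q.inv_mem hy)
    have hyq' : y⁻¹ * q = q * y⁻¹ := by
      rw [inv_mul_eq_iff_eq_mul, ← mul_assoc, hyq, mul_assoc, mul_inv_cancel, mul_one]
    have h3 : (x * y⁻¹) * q = q * (x * y⁻¹) := by
      rw [mul_assoc, hyq', ← mul_assoc, hxq, mul_assoc]
    have h4 : β (x * y⁻¹) = x * y⁻¹ := by
      rw [map_mul, map_inv, h1, hβy, mul_inv_rev]
      calc q * x * (y⁻¹ * q⁻¹) = q * (x * y⁻¹) * q⁻¹ := by group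
        _ = x * y⁻¹ * q * q⁻¹ := by rw [h3]
        _ = x * y⁻¹ := by group
    have h5 := he.2 _ h2 h3 h4
    calc e * x = e * (x * y⁻¹) * y := by group
      _ = (x * y⁻¹) * (e * y) := by rw [h5]; group
      _ = x * e := by rw [hey]; group

theorem fix_E (H : Hyp Q z q β) {e : K} (he : E Q q β e) : β e = e := by
  by_contra hβ
  exact hβ (H.z2_fix (H.z2_of_comm he he.1 (H.q_mem_D he) hβ rfl))

theorem s_mem (H : Hyp Q z q β) {r : K} (hr : r ∈ Q) : E Q q β (r⁻¹ * β r) := by
  refine ⟨Q.mul_mem (Q.inv_mem hr) (H.hQ r hr), fun x hx hxq hβ => ?_⟩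
  have hxz := H.L.comm_z x hx
  have h1 : (r⁻¹ * β r) * x * (r⁻¹ * β r)⁻¹ = r⁻¹ * (β (r * x * r⁻¹)) * r := by
    rw [map_mul, map_mul, map_inv, hβ]; group
  have h2 : β (r * x * r⁻¹) = r * x * r⁻¹ := by
    rcases H.L.comm r hr x hx with h | h
    · rw [h, mul_inv_cancel_right, hβ]
    · have e : r * x * r⁻¹ = x * z := by
        have := H.L.comm_z r hr
        calc r * x * r⁻¹ = x * (r * z) * r⁻¹ := by rw [h]; group
          _ = x * z := by rw [this]; group
      rw [e, map_mul, hβ, H.hz]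
  rw [h2] at h1
  rw [← mul_inv_eq_iff_eq_mul, h1]
  group

/-- elements of `E` are fixed modulo `⟨z, q⟩` by `C(z) ∩ C(q)` -/
theorem z2_conj (H : Hyp Q z q β) {e : K} (he : E Q q β e) {u : K} (huz : u * z = z * u) (huq : u * q = q * u)
    (hu : β u = u ∨ β u = q * u) : Z2 z q (e⁻¹ * (u⁻¹ * e * u)) := by
  have huz' : u⁻¹ * z = z * u⁻¹ := by
    rw [inv_mul_eq_iff_eq_mul, ← mul_assoc, huz, mul_assoc, mul_inv_cancel, mul_one]
  have he' : E Q q β (u⁻¹ * e * u) := by
    constructor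
    · have := H.L.conj_mem u⁻¹ huz' e he.1
      rwa [inv_inv] at this
    · intro x hx hxq hβ
      have h1 : u * x * u⁻¹ ∈ Q := H.L.conj_mem u huz x hx
      have h2 : u * x * u⁻¹ * q = q * (u * x * u⁻¹) := by
        have huq' : u⁻¹ * q = q * u⁻¹ := by
          rw [inv_mul_eq_iff_eq_mul, ← mul_assoc, huq, mul_assoc, mul_inv_cancel, mul_one]
        calc u * x * u⁻¹ * q = u * (x * q) * u⁻¹ := by rw [mul_assoc, huq']; group
          _ = (u * q) * x * u⁻¹ := by rw [hxq]; group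
          _ = _ := by rw [huq]; group
      have h3 : β (u * x * u⁻¹) = u * x * u⁻¹ := by
        rw [map_mul, map_mul, map_inv, hβ]
        rcases hu with h | h
        · rw [h]
        · rw [h, ← huq]
          calc u * q * x * (u * q)⁻¹ = u * (q * x) * q⁻¹ * u⁻¹ := by group
            _ = u * (x * q) * q⁻¹ * u⁻¹ := by rw [hxq]
            _ = _ := by group
      have h4 := he.2 _ h1 h2 h3
      calc u⁻¹ * e * u * x = u⁻¹ * (e * (u * x * u⁻¹)) * u := by group
        _ = u⁻¹ * ((u * x * u⁻¹) * e) * u := by rw [h4]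
        _ = _ := by group
  by_cases hz2 : Z2 z q e
  · have h1 : u⁻¹ * e * u = e := by
      have h2 : e * u = u * e := by
        rcases hz2 with rfl | rfl | rfl | rfl
        · rw [one_mul, mul_one]
        · exact huz.symm
        · exact huq.symm
        · rw [mul_assoc, ← huz, ← mul_assoc, ← huq, mul_assoc]
      rw [mul_assoc, h2, inv_mul_cancel_left]
    rw [h1, inv_mul_cancel]
    exact Or.inl rfl
  · have hz2' : ¬ Z2 z q (u⁻¹ * e * u) := by
      intro h
      apply hz2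
      have h2 : e = u * (u⁻¹ * e * u) * u⁻¹ := by group
      have h3 : u * (u⁻¹ * e * u) * u⁻¹ = u⁻¹ * e * u := by
        rw [mul_inv_eq_iff_eq_mul]
        rcases h with h | h | h | h <;> rw [h]
        · rw [one_mul, mul_one]
        · exact huz
        · exact huq
        · rw [← mul_assoc, huq, mul_assoc, huz, mul_assoc]
      rw [h2, h3]
      exact h
    refine H.bic (Q.mul_mem (Q.inv_mem he.1) he'.1) fun y hy hyq => ?_
    by_cases hβ : β y = y
    · have h1 := he.2 y hy hyq hβ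
      have h2 := he'.2 y hy hyq hβ
      calc e⁻¹ * (u⁻¹ * e * u) * y = e⁻¹ * (u⁻¹ * e * u * y) := by group
        _ = e⁻¹ * (y * e) * e⁻¹ * (u⁻¹ * e * u) := by rw [h2]; group
        _ = e⁻¹ * (e * y) * e⁻¹ * (u⁻¹ * e * u) := by rw [h1]
        _ = _ := by group
    · have h1 := (H.L.comm e he.1 y hy).resolve_left fun h => hz2 (H.z2_of_comm he hy hyq hβ h)
      have h2 := (H.L.comm _ he'.1 y hy).resolve_left fun h => hz2' (H.z2_of_comm he' hy hyq hβ h)
      have hyz := H.L.comm_z y hy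
      have hez := H.L.comm_z e he.1
      have h3 : y * e = e * y * z := by rw [h1, mul_assoc, H.L.z_sq, mul_one]
      calc e⁻¹ * (u⁻¹ * e * u) * y = e⁻¹ * (u⁻¹ * e * u * y) := by group
        _ = e⁻¹ * (y * e) * e⁻¹ * (u⁻¹ * e * u) * z := by rw [h2]; group
        _ = y * (z * e⁻¹) * (u⁻¹ * e * u) * z := by rw [h3]; group
        _ = y * e⁻¹ * (z * (u⁻¹ * e * u)) * z := by
            rw [show z * e⁻¹ = e⁻¹ * z by rw [eq_inv_mul_iff_mul_eq, ← mul_assoc, hez]; group]; group
        _ = y * (e⁻¹ * (u⁻¹ * e * u)) * (z * z) := by rw [← H.L.comm_z _ he'.1]; group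
        _ = _ := by rw [H.L.z_sq, mul_one]

/-- **`β` is trivial on `Q/⟨z⟩`** -/
theorem triv (H : Hyp Q z q β) (hββ : ∀ x ∈ Q, β (β x) = x) (U : Set K)
    (hU : ∀ u ∈ U, u * z = z * u ∧ u * q = q * u ∧ (β u = u ∨ β u = q * u))
    (hno : ∀ e ∈ Q, e * q = q * e → (∀ u ∈ U, Z2 z q (e⁻¹ * (u⁻¹ * e * u))) → e * e = 1 → Z2 z q e) :
    ∀ x ∈ Q, β x = x ∨ β x = x * z := by
  have hqi : q⁻¹ = q := inv_eq_of_mul_eq_one_left H.hqq
  have hs : ∀ r ∈ Q, Z2 z q (r⁻¹ * β r) := by
    intro r hr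
    have h1 := H.s_mem hr
    refine hno _ h1.1 (H.q_mem_D h1) (fun u hu => H.z2_conj h1 (hU u hu).1 (hU u hu).2.1 (hU u hu).2.2) ?_
    have h2 := H.fix_E h1
    have h3 := hββ r hr
    have h4 : β (β r) = r * ((r⁻¹ * β r) * (r⁻¹ * β r)) := by
      conv_lhs => rw [show β r = r * (r⁻¹ * β r) by group]
      rw [map_mul β r, h2]; group
    rw [h3] at h4
    exact (mul_eq_left.1 h4.symm)
  have hcase : ∀ r ∈ Q, (β r = r ∨ β r = r * z) ∨ (β r = r * q ∨ β r = r * (q * z)) := by
    intro r hr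
    rcases hs r hr with h | h | h | h
    · left; left; rw [inv_mul_eq_iff_eq_mul, mul_one] at h; exact h
    · left; right; rwa [inv_mul_eq_iff_eq_mul] at h
    · right; left; rwa [inv_mul_eq_iff_eq_mul] at h
    · right; right; rwa [inv_mul_eq_iff_eq_mul] at h
  -- the second case implies `[r, q] = 1`
  have hcom : ∀ r ∈ Q, (β r = r * q ∨ β r = r * (q * z)) → r * q = q * r := by
    intro r hr h
    have hqz' := H.L.comm_z q H.hqQ
    have hrz := H.L.comm_z r hr
    have h1 : β (r * r) = r * r := by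
      rcases H.L.sq r hr with h1 | h1 <;> rw [h1]
      · exact map_one β
      · exact H.hz
    have h2 : (r * q) * (r * q) = r * r := by
      rw [map_mul] at h1
      rcases h with h | h
      · rw [h] at h1; exact h1
      · rw [h] at h1
        rw [← h1]
        calc r * q * (r * q) = r * q * (r * q) * (z * z) := by rw [H.L.z_sq, mul_one]
          _ = r * q * r * (q * z) * z := by group
          _ = r * q * r * (z * q) * z := by rw [hqz']
          _ = r * q * r * z * (q * z) := by group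
          _ = r * q * (r * z) * (q * z) := by group
          _ = r * (q * z) * (r * (q * z)) := by rw [hrz]; group
    have h3 : q * r * q = r := by
      have : r * (q * r * q) = r * r := by rw [← h2]; group
      exact mul_left_cancel this
    calc r * q = q * r * q * q := by rw [h3]
      _ = q * r * (q * q) := by group
      _ = q * r := by rw [H.hqq, mul_one]
  obtain ⟨r₁, hr₁, hr₁q⟩ := H.exists_r
  intro x hx
  rcases hcase x hx with h | h
  · exact h
  · exfalso
    have hxq := hcom x hx h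
    have h1 := (hcase r₁ hr₁).resolve_right fun h => hr₁q (hcom _ hr₁ h)
    have h2 : (r₁ * x) * q ≠ q * (r₁ * x) := by
      intro h3
      apply hr₁q
      have h4 : r₁ * q * x = q * r₁ * x := by
        calc r₁ * q * x = r₁ * (x * q) := by rw [hxq]; group
          _ = _ := by rw [← mul_assoc, h3]; group
      exact mul_right_cancel h4
    have h3 := (hcase (r₁ * x) (Q.mul_mem hr₁ hx)).resolve_right fun h => h2 (hcom _ (Q.mul_mem hr₁ hx) h)
    rw [map_mul] at h3
    have hxz := H.L.comm_z x hx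
    have hqz' := H.L.comm_z q H.hqQ
    -- compare
    have key : ∀ a b : K, (a = 1 ∨ a = z) → (b = 1 ∨ b = z) → r₁ * a * (x * (q * b)) = r₁ * x * 1 ∨
        r₁ * a * (x * (q * b)) = r₁ * x * z → False := by
      intro a b ha hb h
      have haz : a * x = x * a := by
        rcases ha with rfl | rfl
        · rw [one_mul, mul_one]
        · exact hxz.symm
      have hab : a * q = q * a := by
        rcases ha with rfl | rfl
        · rw [one_mul, mul_one]
        · exact hqz'.symm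
      have e : r₁ * a * (x * (q * b)) = r₁ * x * (q * (a * b)) := by
        calc r₁ * a * (x * (q * b)) = r₁ * (a * x) * (q * b) := by group
          _ = r₁ * x * (a * q) * b := by rw [haz]; group
          _ = _ := by rw [hab]; group
      have hzz := H.L.z_sq
      have hab' : a * b = 1 ∨ a * b = z := by
        rcases ha with rfl | rfl <;> rcases hb with rfl | rfl
        · left; rw [mul_one]
        · right; rw [one_mul]
        · right; rw [mul_one]
        · left; exact hzz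
      rw [e] at h
      rcases h with h | h <;> have h' := mul_left_cancel h
      · rcases hab' with h4 | h4
        · rw [h4, mul_one] at h'; exact H.hq1 h'
        · rw [h4, mul_eq_one_iff_eq_inv, H.L.z_inv] at h'; exact H.hqz h'
      · rcases hab' with h4 | h4
        · rw [h4, mul_one] at h'; exact H.hqz h'
        · rw [h4] at h'; exact H.hq1 (mul_eq_right.1 h')
    have h1' : ∃ a : K, (a = 1 ∨ a = z) ∧ β r₁ = r₁ * a := by
      rcases h1 with h1 | h1
      · exact ⟨1, Or.inl rfl, by rw [mul_one]; exact h1⟩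
      · exact ⟨z, Or.inr rfl, h1⟩
    have h' : ∃ b : K, (b = 1 ∨ b = z) ∧ β x = x * (q * b) := by
      rcases h with h | h
      · exact ⟨1, Or.inl rfl, by rw [mul_one]; exact h⟩
      · exact ⟨z, Or.inr rfl, h⟩
    obtain ⟨a, ha, ha'⟩ := h1'
    obtain ⟨b, hb, hb'⟩ := h'
    rw [ha', hb'] at h3
    refine key a b ha hb ?_
    rcases h3 with h3 | h3
    · left; rw [mul_one]; exact h3
    · right; exact h3

end Hyp

end Cfsg.Agent.KFacts.LargeOutTwo

end

-- merged: Cfsg.Agent.KFacts.HN.OutTwo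
section

/-!
# No outer involution of `Aut(HN)` fixes or multiplies by `w` every element of `C(w)`, `w` of type `2A`
-/

set_option autoImplicit false
set_option Elab.async false

namespace Cfsg.Agent.KFacts.HN

open Cfsg.Agent.HN Cfsg.Agent.HN.Pres Cfsg.Agent.HN.P1408 Cfsg.Agent.HN.H0Basic Cfsg.Agent.HN.XMat
open Cfsg.Agent.HN.XStruct Cfsg.Agent.HN.XWords Cfsg.Agent.HN.XQuot Cfsg.Agent.HN.XInst Cfsg.Agent.HN.FusGen
open Cfsg.Agent.SporadicA.PermTab (band_eq_true allB allB_iff)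
open Cfsg.Agent.KFacts.LargeOutTwo (Z2)

/-- the masks fixed up to `1` by the two matrices -/
def okm (M m : ℕ) : Bool := force (app M m) (fun x => Nat.beq x m || Nat.beq x (Nat.xor m 1))

theorem chkfix : allB (fun m => bif okm MY m then (bif okm MC m then (bif tst CF 0 m then true else
    (Nat.beq m 0 || Nat.beq m 1)) else true) else true) 256 = true := by decide +kernel

theorem app_one : app MY 1 = 1 ∧ app MC 1 = 1 := by
  constructor <;> decide +kernel

theorem mask_fix {m : ℕ} (hm : m < 256) (h0 : app MY m = m ∨ app MY m = m ^^^ 1)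
    (h1 : app MC m = m ∨ app MC m = m ^^^ 1) (hF : ¬ CF.testBit m = true) : m = 0 ∨ m = 1 := by
  have h := (allB_iff _ _).1 chkfix m hm
  have e0 : okm MY m = true := by
    unfold okm
    rw [force_eq, Bool.or_eq_true, Nat.beq_eq, Nat.beq_eq]
    exact h0
  have e1 : okm MC m = true := by
    unfold okm
    rw [force_eq, Bool.or_eq_true, Nat.beq_eq, Nat.beq_eq]
    exact h1
  have e2 : tst CF 0 m = false := by
    rw [← Bool.not_eq_true, tst_iff, Nat.zero_xor]
    exact hF
  rw [e0, e1, e2] at h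
  have h2 : (Nat.beq m 0 || Nat.beq m 1) = true := h
  rw [Bool.or_eq_true, Nat.beq_eq, Nat.beq_eq] at h2
  exact h2

theorem Q0_eq_r : r Q 1 = Q 0 := Bas.r_pow (i := 0) (by norm_num)

theorem Q0_ne_one : Q 0 ≠ 1 := by
  intro h
  have h1 : r Q 1 * sgn0 false = r Q 0 * sgn0 false := by
    rw [Q0_eq_r, h, Bas.r_zero]
  have := (r_sgn_inj (by norm_num) (by norm_num) h1).1
  omega

theorem Q0_ne_W0 : Q 0 ≠ W0 := by
  intro h
  have h1 : r Q 1 * sgn0 false = r Q 0 * sgn0 true := by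
    rw [Q0_eq_r, h, Bas.r_zero, one_mul]
    exact mul_one _
  have := (r_sgn_inj (by norm_num) (by norm_num) h1).1
  omega

theorem Q0_Q0 : Q 0 * Q 0 = 1 := Q_sq (by norm_num)

/-- an element of order 4 of `R` commuting with `Q 0` -/
theorem exists_four : ∃ x ∈ RS, x * Q 0 = Q 0 * x ∧ x * x = W0 := by
  refine ⟨r Q 28, r_mem_RS (by norm_num), CentTwoHN.r_comm_of (by norm_num) (by decide +kernel), ?_⟩
  have h := kind_F (m := 28) (by norm_num) (by decide +kernel) false
  rwa [show sgn0 false = 1 from rfl, mul_one] at h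

/-- the masks of the elements fixed modulo `⟨W0, Q 0⟩` -/
theorem z2_of_fix {e : Cfsg.Spor.HN} (he : e ∈ RS)
    (h : ∀ u : Cfsg.Spor.HN, u * W0 = W0 * u → u * Q 0 = Q 0 * u → Z2 W0 (Q 0) (e⁻¹ * (u⁻¹ * e * u)))
    (hee : e * e = 1) : Z2 W0 (Q 0) e := by
  obtain ⟨m, hm, b, rfl⟩ := mem_RS.1 he
  have hWW := W0_W0
  have hqW := cw (i := 0) (by norm_num)
  -- multiplication by `W0`
  have hmul : ∀ x : Cfsg.Spor.HN, Z2 W0 (Q 0) (x * W0) → Z2 W0 (Q 0) x := by
    intro x hx
    have e : x = x * W0 * W0 := by rw [mul_assoc, hWW, mul_one]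
    rcases hx with h | h | h | h
    · right; left; rw [e, h, one_mul]
    · left; rw [e, h, hWW]
    · right; right; right; rw [e, h]
    · right; right; left; rw [e, h, mul_assoc, hWW, mul_one]
  have key : ∀ (g P : ℕ), mw [g] = P → app P 1 = 1 → app P m = m ∨ app P m = m ^^^ 1 := by
    intro g P hP hP1
    have hu := e_mem_PP [g]
    have hA : Acts k (π W0 (evw _root_.Cfsg.Agent.HN.XWords.Γ [g])) P := by rw [← hP]; exact acts_e [g]
    obtain ⟨c, hc⟩ := r_conj hu hA 1
    rw [hP1, Q0_eq_r] at hc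
    obtain ⟨d, hd⟩ := r_conj hu hA m
    have hsg := csg b (evw Γ [g]) (mem_PP.1 hu)
    -- the conjugate of `e`
    have hce : (evw _root_.Cfsg.Agent.HN.XWords.Γ [g])⁻¹ * (r Q m * sgn0 b) * evw _root_.Cfsg.Agent.HN.XWords.Γ [g] = r Q (app P m) * sgn0 (d ^^ b) := by
      have e1 : (evw _root_.Cfsg.Agent.HN.XWords.Γ [g])⁻¹ * (r Q m * sgn0 b) * evw _root_.Cfsg.Agent.HN.XWords.Γ [g] = (evw _root_.Cfsg.Agent.HN.XWords.Γ [g])⁻¹ * r Q m * (sgn0 b * evw _root_.Cfsg.Agent.HN.XWords.Γ [g]) := by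
        group
      rw [e1, ← hsg]
      calc (evw _root_.Cfsg.Agent.HN.XWords.Γ [g])⁻¹ * r Q m * (evw _root_.Cfsg.Agent.HN.XWords.Γ [g] * sgn0 b) = ((evw _root_.Cfsg.Agent.HN.XWords.Γ [g])⁻¹ * r Q m * evw _root_.Cfsg.Agent.HN.XWords.Γ [g]) * sgn0 b := by group
        _ = _ := by rw [hd, mul_assoc, sgn0_mul]
    have hZ : Z2 W0 (Q 0) ((r Q m * sgn0 b)⁻¹ * ((evw _root_.Cfsg.Agent.HN.XWords.Γ [g])⁻¹ * (r Q m * sgn0 b) * evw _root_.Cfsg.Agent.HN.XWords.Γ [g])) := by
      cases c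
      · refine h _ (mem_PP.1 hu) ?_
        rw [show sgn0 false = 1 from rfl, mul_one, mul_assoc, inv_mul_eq_iff_eq_mul] at hc
        exact hc.symm
      · -- correct by an element of `R`
        obtain ⟨r₁, hr₁, hr₁q⟩ : ∃ r₁ ∈ RS, r₁ * Q 0 ≠ Q 0 * r₁ := by
          by_contra hcon
          push Not at hcon
          rcases cent_RS (fun y hy => (hcon y hy).symm) with h1 | h1
          · exact Q0_ne_one h1
          · exact Q0_ne_W0 h1
        have h1 := (large.comm r₁ hr₁ _ (Q_mem_RS (i := 0) (by norm_num))).resolve_left hr₁q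
        have hr₁W := large.comm_z r₁ hr₁
        have h2 := h (evw _root_.Cfsg.Agent.HN.XWords.Γ [g] * r₁) (by
          rw [mul_assoc, hr₁W, ← mul_assoc, mem_PP.1 hu, mul_assoc]) (by
          have h3 : Q 0 * evw _root_.Cfsg.Agent.HN.XWords.Γ [g] = evw _root_.Cfsg.Agent.HN.XWords.Γ [g] * Q 0 * W0 := by
            rw [mul_assoc, inv_mul_eq_iff_eq_mul] at hc
            rw [hc, mul_assoc]; rfl
          calc evw _root_.Cfsg.Agent.HN.XWords.Γ [g] * r₁ * Q 0 = evw _root_.Cfsg.Agent.HN.XWords.Γ [g] * (r₁ * Q 0) := by group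
            _ = evw _root_.Cfsg.Agent.HN.XWords.Γ [g] * Q 0 * (r₁ * W0) := by rw [h1]; group
            _ = evw _root_.Cfsg.Agent.HN.XWords.Γ [g] * Q 0 * W0 * r₁ := by rw [hr₁W]; group
            _ = Q 0 * (evw _root_.Cfsg.Agent.HN.XWords.Γ [g] * r₁) := by rw [← h3]; group)
        -- `r₁` changes the conjugate by at most `W0`
        have h4 : (evw _root_.Cfsg.Agent.HN.XWords.Γ [g])⁻¹ * (r Q m * sgn0 b) * evw _root_.Cfsg.Agent.HN.XWords.Γ [g] ∈ RS := by
          have := conj_RS (PP.inv_mem hu) he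
          rwa [inv_inv] at this
        rcases large.comm r₁ hr₁ _ h4 with h5 | h5
        · have e1 : (r Q m * sgn0 b)⁻¹ * ((evw _root_.Cfsg.Agent.HN.XWords.Γ [g] * r₁)⁻¹ * (r Q m * sgn0 b) * (evw _root_.Cfsg.Agent.HN.XWords.Γ [g] * r₁)) =
              (r Q m * sgn0 b)⁻¹ * ((evw _root_.Cfsg.Agent.HN.XWords.Γ [g])⁻¹ * (r Q m * sgn0 b) * evw _root_.Cfsg.Agent.HN.XWords.Γ [g]) := by
            calc (r Q m * sgn0 b)⁻¹ * ((evw _root_.Cfsg.Agent.HN.XWords.Γ [g] * r₁)⁻¹ * (r Q m * sgn0 b) * (evw _root_.Cfsg.Agent.HN.XWords.Γ [g] * r₁))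
                = (r Q m * sgn0 b)⁻¹ * (r₁⁻¹ * (((evw _root_.Cfsg.Agent.HN.XWords.Γ [g])⁻¹ * (r Q m * sgn0 b) * evw _root_.Cfsg.Agent.HN.XWords.Γ [g]) * r₁)) := by group
              _ = _ := by rw [← h5, inv_mul_cancel_left]
          rwa [e1] at h2
        · apply hmul
          have h6 : ((evw _root_.Cfsg.Agent.HN.XWords.Γ [g])⁻¹ * (r Q m * sgn0 b) * evw _root_.Cfsg.Agent.HN.XWords.Γ [g]) * r₁ =
              r₁ * ((evw _root_.Cfsg.Agent.HN.XWords.Γ [g])⁻¹ * (r Q m * sgn0 b) * evw _root_.Cfsg.Agent.HN.XWords.Γ [g]) * W0 := by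
            rw [h5, mul_assoc _ W0, hWW, mul_one]
          have e1 : (r Q m * sgn0 b)⁻¹ * ((evw _root_.Cfsg.Agent.HN.XWords.Γ [g] * r₁)⁻¹ * (r Q m * sgn0 b) * (evw _root_.Cfsg.Agent.HN.XWords.Γ [g] * r₁)) =
              (r Q m * sgn0 b)⁻¹ * ((evw _root_.Cfsg.Agent.HN.XWords.Γ [g])⁻¹ * (r Q m * sgn0 b) * evw _root_.Cfsg.Agent.HN.XWords.Γ [g]) * W0 := by
            calc (r Q m * sgn0 b)⁻¹ * ((evw _root_.Cfsg.Agent.HN.XWords.Γ [g] * r₁)⁻¹ * (r Q m * sgn0 b) * (evw _root_.Cfsg.Agent.HN.XWords.Γ [g] * r₁))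
                = (r Q m * sgn0 b)⁻¹ * (r₁⁻¹ * (((evw _root_.Cfsg.Agent.HN.XWords.Γ [g])⁻¹ * (r Q m * sgn0 b) * evw _root_.Cfsg.Agent.HN.XWords.Γ [g]) * r₁)) := by group
              _ = (r Q m * sgn0 b)⁻¹ * (r₁⁻¹ * (r₁ * ((evw _root_.Cfsg.Agent.HN.XWords.Γ [g])⁻¹ * (r Q m * sgn0 b) * evw _root_.Cfsg.Agent.HN.XWords.Γ [g]) * W0)) := by
                rw [h6]
              _ = _ := by group
          rwa [e1] at h2
    rw [hce] at hZ
    have hm1 : ∀ b' : Bool, ∃ c' : Bool, r Q m * sgn0 b * (Q 0 * sgn0 b') = r Q (m ^^^ 1) * sgn0 c' := by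
      intro b'
      obtain ⟨c₁, hc₁⟩ := r_mul (a := m) (b := 1)
      rw [Q0_eq_r] at hc₁
      refine ⟨c₁ ^^ (b ^^ b'), ?_⟩
      have h3 := csg b (Q 0) (comm_Q (by norm_num))
      calc r Q m * sgn0 b * (Q 0 * sgn0 b') = r Q m * (sgn0 b * Q 0) * sgn0 b' := by group
        _ = r Q m * Q 0 * (sgn0 b * sgn0 b') := by rw [← h3]; group
        _ = _ := by rw [hc₁, sgn0_mul, mul_assoc, sgn0_mul]
    have hlt : app P m < 256 := by
      rw [← hP]
      exact app_lt _ _
    rcases hZ with h1 | h1 | h1 | h1 <;> rw [inv_mul_eq_iff_eq_mul] at h1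
    · left
      rw [mul_one] at h1
      exact mask_unique hlt hm h1
    · left
      rw [show (W0 : Cfsg.Spor.HN) = sgn0 true from rfl, mul_assoc, sgn0_mul] at h1
      exact mask_unique hlt hm h1
    · right
      obtain ⟨c', hc'⟩ := hm1 false
      rw [show sgn0 false = 1 from rfl, mul_one] at hc'
      rw [hc'] at h1
      exact mask_unique hlt (Nat.xor_lt_two_pow (n := 8) hm (by norm_num)) h1
    · right
      obtain ⟨c', hc'⟩ := hm1 true
      rw [show sgn0 true = W0 from rfl] at hc'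
      rw [hc'] at h1
      exact mask_unique hlt (Nat.xor_lt_two_pow (n := 8) hm (by norm_num)) h1
  have k0 := key 0 MY (by decide +kernel) app_one.1
  have k1 := key 1 MC (by decide +kernel) app_one.2
  have hF : ¬ CF.testBit m = true := by
    intro hF
    have := kind_F hm hF b
    rw [hee] at this
    exact W0_ne this.symm
  rcases mask_fix hm k0 k1 hF with rfl | rfl
  · rw [show r Q 0 = 1 from Bas.r_zero, one_mul]
    cases b
    · exact Or.inl rfl
    · exact Or.inr (Or.inl rfl)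
  · rw [Q0_eq_r]
    cases b
    · right; right; left
      exact mul_one _
    · right; right; right
      rfl

/-- the case `w = Q 0` -/
theorem out2_Q0 (β : MulAut Cfsg.Spor.HN) (hββ : β * β = 1) (hq : β (Q 0) = Q 0)
    (h : ∀ c : Cfsg.Spor.HN, c * Q 0 = Q 0 * c → β c = c ∨ β c = Q 0 * c) : ∃ y ∈ RS, β = MulAut.conj y := by
  have hW : β W0 = W0 := by
    obtain ⟨x, _, hxq, hxx⟩ := exists_four
    rw [← hxx, map_mul]
    rcases h x hxq with h1 | h1
    · rw [h1]
    · rw [h1]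
      calc Q 0 * x * (Q 0 * x) = Q 0 * (x * Q 0) * x := by group
        _ = (Q 0 * Q 0) * (x * x) := by rw [hxq]; group
        _ = x * x := by rw [Q0_Q0, one_mul]
  have H : LargeOutTwo.Hyp RS W0 (Q 0) β :=
    { L := large
      hz := hW
      hQ := fun x hx => map_RS hW hx
      hqQ := Q_mem_RS (by norm_num)
      hq1 := Q0_ne_one
      hqz := Q0_ne_W0
      hqq := Q0_Q0
      hq := hq
      hD := fun c _ hc => h c hc }
  refine aut0 hW (H.triv (fun x _ => ?_) {u | u * W0 = W0 * u ∧ u * Q 0 = Q 0 * u}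
    (fun u hu => ⟨hu.1, hu.2, h u hu.2⟩) (fun e he _ hU hee => z2_of_fix he (fun u h1 h2 => hU u ⟨h1, h2⟩) hee))
  have : (β * β) x = x := by rw [hββ]; rfl
  exact this

/-- **no outer involution fixes or multiplies by `w` every element of `C(w)`**, `w` conjugate to `Q 0` -/
theorem out2 (α : MulAut Cfsg.Spor.HN) (hα : ∀ k : Cfsg.Spor.HN, α ≠ MulAut.conj k) (hαα : α * α = 1)
    {w : Cfsg.Spor.HN} (hw : IsConj (Q 0) w) (hαw : α w = w)
    (h : ∀ c : Cfsg.Spor.HN, c * w = w * c → α c = c ∨ α c = w * c) : False := by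
  obtain ⟨g, rfl⟩ := isConj_iff.1 hw
  let β : MulAut Cfsg.Spor.HN := (MulAut.conj g)⁻¹ * α * MulAut.conj g
  have hβ : ∀ x, β x = g⁻¹ * α (g * x * g⁻¹) * g := by
    intro x
    change (MulAut.conj g)⁻¹ (α (MulAut.conj g x)) = _
    rw [← map_inv, MulAut.conj_apply, MulAut.conj_apply, inv_inv]
  obtain ⟨y, -, hy⟩ := out2_Q0 β (by
      calc (MulAut.conj g)⁻¹ * α * MulAut.conj g * ((MulAut.conj g)⁻¹ * α * MulAut.conj g)
          = (MulAut.conj g)⁻¹ * (α * α) * MulAut.conj g := by group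
        _ = 1 := by rw [hαα]; group) (by
      rw [hβ, hαw]; group) (by
      intro c hc
      have h1 : (g * c * g⁻¹) * (g * Q 0 * g⁻¹) = (g * Q 0 * g⁻¹) * (g * c * g⁻¹) := by
        calc (g * c * g⁻¹) * (g * Q 0 * g⁻¹) = g * (c * Q 0) * g⁻¹ := by group
          _ = g * (Q 0 * c) * g⁻¹ := by rw [hc]
          _ = _ := by group
      rw [hβ]
      rcases h _ h1 with h2 | h2
      · left; rw [h2]; group
      · right; rw [h2]; group)
  apply hα (g * y * g⁻¹)
  have : α = MulAut.conj g * β * (MulAut.conj g)⁻¹ := by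
    change α = MulAut.conj g * ((MulAut.conj g)⁻¹ * α * MulAut.conj g) * (MulAut.conj g)⁻¹
    group
  rw [this, hy, ← map_mul, ← map_inv, ← map_mul]

end Cfsg.Agent.KFacts.HN

end

-- merged: Cfsg.Agent.OddHalf.D4.Spor.HN
section

/-!
# ODD half, D4, sporadic components: the sheet of the Harada-Norton group
-/

set_option autoImplicit false

namespace Cfsg.Agent.OddHalf.D4.Spor.HN

open Subgroup Cfsg.Agent.KFacts.HN Cfsg.Agent.HN.XWords Cfsg.Agent.HN.XStruct

theorem basic : Cfsg.Agent.OddHalf.D8.Sheet.Basic W0 MM := by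
  have := finite_HN
  exact sheetE.basic

theorem cen_W0 : Cen W0 := cen_z basic

/-- an involution is 2-central or conjugate to `Q 0` -/
theorem inv_cases {w : Cfsg.Spor.HN} (hw : w * w = 1) (hw1 : w ≠ 1) :
    (∃ g : Cfsg.Spor.HN, g * W0 * g⁻¹ = w) ∨ ∃ g : Cfsg.Spor.HN, g * Q 0 * g⁻¹ = w := by
  have h2 : orderOf w = 2 := orderOf_eq_prime (by rw [pow_two, hw]) hw1
  rcases Classes.inv_class h2 with h | h
  · right
    rw [← Q0_eq] at h
    exact isConj_iff.1 h.symm
  · left
    exact isConj_iff.1 h.symm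

theorem isConj_of_not_cen {w : Cfsg.Spor.HN} (hw : w * w = 1) (hw1 : w ≠ 1) (h : ¬ Cen w) : IsConj (Q 0) w := by
  rcases inv_cases hw hw1 with ⟨g, hg⟩ | ⟨g, hg⟩
  · exact absurd (cen_conj hg cen_W0) h
  · exact isConj_iff.2 ⟨g, hg⟩

/-- elements of odd order of `C(W0)` lie in `M` -/
theorem odd_mem {x : Cfsg.Spor.HN} (hx : x * W0 = W0 * x) (ho : Odd (orderOf x)) : x ∈ MM := by
  have hxP : x ∈ PP := mem_PP.2 hx
  have h2 : x ^ 2 ∈ MM := by
    by_cases h : x ∈ MM
    · exact MM.pow_mem h 2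
    · have := hidx (PP.inv_mem hxP) hxP (fun h1 => h (by simpa using MM.inv_mem h1)) h
      rwa [inv_inv, ← pow_two] at this
  obtain ⟨k, hk⟩ := ho
  have h3 : x = (x ^ 2) ^ (k + 1) := by
    rw [← pow_mul, show 2 * (k + 1) = orderOf x + 1 by omega, pow_succ, pow_orderOf_eq_one, one_mul]
  rw [h3]
  exact MM.pow_mem h2 _

theorem bal_W0 (I : Subgroup Cfsg.Spor.HN) (h1 : ∀ i ∈ I, i * W0 = W0 * i)
    (h2 : ∀ c : Cfsg.Spor.HN, c * W0 = W0 * c → ∀ i ∈ I, c * i * c⁻¹ ∈ I) (h3 : Odd (Nat.card ↥I)) : I = ⊥ :=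
  bal_of_sheetE sheetE (fun _ => odd_mem) I h1 h2 h3

/-- a subgroup of odd order contains no involution -/
theorem eq_one_of_odd {I : Subgroup Cfsg.Spor.HN} (h : Odd (Nat.card ↥I)) {x : Cfsg.Spor.HN} (hx : x ∈ I)
    (hxx : x * x = 1) : x = 1 := by
  by_contra hne
  have h2 : orderOf x = 2 := orderOf_eq_prime (by rw [pow_two, hxx]) hne
  have h4 : 2 ∣ Nat.card I := by
    have := _root_.orderOf_dvd_natCard (⟨x, hx⟩ : I)
    rwa [Subgroup.orderOf_mk, h2] at this
  obtain ⟨k, hk⟩ := h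
  omega

theorem bal_Q0 (I : Subgroup Cfsg.Spor.HN) (h1 : ∀ i ∈ I, i * Q 0 = Q 0 * i)
    (h2 : ∀ c : Cfsg.Spor.HN, c * Q 0 = Q 0 * c → ∀ i ∈ I, c * i * c⁻¹ ∈ I) (h3 : Odd (Nat.card ↥I)) : I = ⊥ := by
  have hW := W0_W0
  have hq := Q0_Q0
  have hc : W0 * Q 0 = Q 0 * W0 := cw (i := 0) (by norm_num)
  rcases normal_cases_Q0 I h1 h2 with h | h | h
  · rw [eq_bot_iff]
    intro x hx
    rw [mem_bot]
    rcases h x hx with h4 | h4
    · exact h4
    · exact eq_one_of_odd h3 hx (by rw [h4]; exact hq)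
  · exact absurd (eq_one_of_odd h3 h hW) W0_ne
  · have h4 := eq_one_of_odd h3 h (by
      calc W0 * Q 0 * (W0 * Q 0) = W0 * (Q 0 * W0) * Q 0 := by group
        _ = (W0 * W0) * (Q 0 * Q 0) := by rw [← hc]; group
        _ = 1 := by rw [hW, hq, one_mul])
    exfalso
    apply Q0_ne_W0
    rw [mul_eq_one_iff_eq_inv] at h4
    rw [h4]
    exact (inv_eq_of_mul_eq_one_left hq).symm

theorem not_bad (w : Cfsg.Spor.HN) (N : Subgroup Cfsg.Spor.HN) : ¬ Bad w N := by
  intro h
  have hw := isConj_of_not_cen h.sq h.ne (h.non w h.mem h.sq h.ne)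
  rcases normal_cases_w hw N h.le h.norm with h1 | ⟨b, hb, hbN, -⟩
  · classical
    have hle : (N : Set Cfsg.Spor.HN) ⊆ (({1, w} : Finset Cfsg.Spor.HN) : Set Cfsg.Spor.HN) := by
      intro n hn
      rcases h1 n hn with e | e <;> simp only [e, _root_.Finset.coe_insert, _root_.Finset.coe_singleton, _root_.Set.mem_insert_iff, _root_.Set.mem_singleton_iff, _root_.true_or, _root_.or_true]
    have h2 : Nat.card N ≤ 2 := by
      have := Nat.card_mono (Finset.finite_toSet _) hle
      refine this.trans ?_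
      rw [Nat.card_coe_set_eq, Set.ncard_coe_finset]
      exact Finset.card_le_two
    have := finite_HN
    have h3 := Nat.le_of_dvd Nat.card_pos h.four
    omega
  · have hbN' : b ∈ N := by
      rcases hbN with hbN | hbN
      · exact hbN
      · have := N.mul_mem hbN (N.inv_mem h.mem)
        rwa [mul_inv_cancel_right] at this
    obtain ⟨g, rfl⟩ := isConj_iff.1 hb
    refine h.non _ hbN' ?_ ?_ (cen_conj rfl cen_W0)
    · calc g * W0 * g⁻¹ * (g * W0 * g⁻¹) = g * (W0 * W0) * g⁻¹ := by group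
        _ = 1 := by rw [W0_W0]; group
    · intro h2
      apply W0_ne
      rw [mul_inv_eq_one, mul_eq_left] at h2
      exact h2

/-- **the sheet of the Harada-Norton group** -/
theorem sheet : Spor.Sheet Cfsg.Spor.HN := by
  have := finite_HN
  refine Sheet.of_basic_tab basic ?_ ?_ (tab_of_not_bad not_bad)
  · intro a ha ha1
    rcases inv_cases ha ha1 with ⟨g, hg⟩ | ⟨g, hg⟩
    · exact bal_of_one bal_W0 hg
    · exact bal_of_one bal_Q0 hg
  · intro α hα hαα w hw hw1 hwc hαw hC N _ _ _ _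
    exact out2 α (fun k hk => hα ⟨k, hk⟩) hαα (isConj_of_not_cen hw hw1 hwc) hαw hC

/-- the sheet of the groups isomorphic to the Harada-Norton group -/
theorem sheet_of_equiv {X : Type*} [Group X] (e : X ≃* Cfsg.Spor.HN) : Spor.Sheet X := sheet.of_equiv e.symm

end Cfsg.Agent.OddHalf.D4.Spor.HN

end
end

-- part: KFacts/J4/DFour
section
prune_inst 0x100001005400000000000000000000002000000000000000000000000008000000000000000000000000000000008000001000000020000020008000000000000400000000001000000000400000000000000000000000000000000000000000000000000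
set_option linter.all false
open scoped Cfsg.Agent.FastGrp

/-!
# The fourth Janko group: the sheet of D4

* `exists_conj_E` : every involution of a group with a `Compl` is conjugate into `E = 2^11`;
* `not_bad_duad` : no normal subgroup of order divisible by 4 of the centraliser `2^11.M22.2` of a duad, containing
  the duad, is without 2-central involutions;
* `exists_sheet` : the sheet.
-/

set_option autoImplicit false

open scoped Pointwise

namespace Cfsg.Agent.KFacts.J4.DFour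

open Cfsg Cfsg.Agent.J4Type Cfsg.Agent.J4Type.FinalRel Cfsg.Agent.J4Type.FinalTau
open Cfsg.Agent.J4Type.CloseInst Cfsg.Agent.KFacts.J4.Base
open Cfsg.Agent.SporadicA.GolayBase Cfsg.Agent.SporadicA.OctadFix
open Cfsg.Agent.OddHalf.D4

variable {G : Type*} [Group G]

/-- every involution is conjugate into `E` -/
theorem exists_conj_E [Finite G] [IsSimpleGroup G] (C : J4Type.Compl G) {u : G} (hu : u * u = 1)
    (hu1 : u ≠ 1) : ∃ g : G, g * u * g⁻¹ ∈ C.E hex0 := by
  have hJ := Cfsg.Agent.S1703.result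
  have hsimp := hJ.1
  have hfin : Finite Cfsg.Spor.J4 := Final.finite_J4 hJ
  obtain ⟨T, rfl⟩ := TauMain.exists_tau C
  have F := Tau.tauFam T (Rel2.relator2 T)
  obtain ⟨f, hphi, -, hs, -, -⟩ := F.exists_hom
  have hinj : Function.Injective f := FinalEmb.TauFam.injective hs
  have hcard : Nat.card Cfsg.Spor.J4 = Nat.card G := by
    obtain ⟨f', hf'⟩ := Top.exists_bijective_of_tau T (Rel2.relator2 T)
    exact Nat.card_congr (Equiv.ofBijective f' hf')
  have hsurj : Function.Surjective f :=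
    ((Nat.bijective_iff_injective_and_card f).2 ⟨hinj, hcard⟩).2
  obtain ⟨v, rfl⟩ := hsurj u
  have h3 : v * v = 1 := hinj (by rw [map_mul, hu, map_one])
  have h4 : v ≠ 1 := by
    rintro rfl
    exact hu1 (map_one f)
  obtain ⟨g, hg⟩ := Final.exists_mem_EJ hJ v h3 h4
  have hB : tetB.card = 4 := by decide +kernel
  have hE := ClosingJ4.map_EJ T.toCompl f hphi hB hs
  refine ⟨f g, ?_⟩
  rw [← map_inv, ← map_mul, ← map_mul]
  show _ ∈ EE T.toCompl.toFrame
  rw [← hE]
  exact ⟨_, hg, rfl⟩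

/-- the two classes of involutions -/
theorem classes [Finite G] [IsSimpleGroup G] (C : J4Type.Compl G) {u : G} (hu : u * u = 1)
    (hu1 : u ≠ 1) : (∃ g : G, g * C.z * g⁻¹ = u) ∨
      ∃ (p q : GolayPt) (g : G), p ≠ q ∧ g * C.ε {p, q} * g⁻¹ = u := by
  obtain ⟨g, hg⟩ := exists_conj_E C hu hu1
  have e0 : u = g⁻¹ * (g * u * g⁻¹) * g := by group
  rcases E_cases C.toFrame (a := g * u * g⁻¹) hg with h | ⟨p, q, hpq, h⟩ | ⟨S, hS, h⟩
  · exfalso
    apply hu1
    rw [e0, h]
    group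
  · right
    refine ⟨p, q, g⁻¹, hpq, ?_⟩
    show g⁻¹ * C.toFrame.ε {p, q} * g⁻¹⁻¹ = u
    rw [← h, inv_inv, ← e0]
  · left
    obtain ⟨n, hn⟩ := isConj_iff.1 (DuadCent.isConj_four C.toFrame hS)
    refine ⟨g⁻¹ * n, ?_⟩
    rw [e0, h, ← hn]
    show g⁻¹ * n * C.z * (g⁻¹ * n)⁻¹ = _
    group

section Frame

variable (K : Frame G)

theorem even_two {p q : GolayPt} (hpq : p ≠ q) : Even ({p, q} : Finset GolayPt).card := by
  rw [Finset.card_pair hpq]; decide

theorem sq_duad {p q : GolayPt} (hpq : p ≠ q) : K.ε {p, q} * K.ε {p, q} = 1 :=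
  (K.E_elem hex0 HexMax.hex0_isHex).1 _ (K.ε_mem _ (even_two hpq))

/-- different duads give different elements -/
theorem duad_inj {p q r s : GolayPt} (hpq : p ≠ q) (hrs : r ≠ s) (h : K.ε {p, q} = K.ε {r, s}) :
    ({p, q} : Finset GolayPt) = {r, s} := by
  have h1 : K.ε (symmDiff {p, q} {r, s}) = 1 := by
    rw [K.ε_mul _ _ (even_two hpq) (even_two hrs), h]
    exact sq_duad K hrs
  have h4 := Finset.card_le_card (Finset.symmDiff_subset_union (s := ({p, q} : Finset GolayPt)) (t := {r, s}))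
  have h5 := Finset.card_union_le ({p, q} : Finset GolayPt) {r, s}
  rw [Finset.card_pair hpq, Finset.card_pair hrs] at h5
  have hev : Even (symmDiff ({p, q} : Finset GolayPt) {r, s}).card := by
    rw [symmDiff_def, Finset.sup_eq_union, Finset.card_union_of_disjoint disjoint_sdiff_sdiff]
    have := Finset.card_pair hpq
    have := Finset.card_pair hrs
    have h6 := Finset.card_sdiff_add_card_inter ({p, q} : Finset GolayPt) {r, s}
    have h7 := Finset.card_sdiff_add_card_inter ({r, s} : Finset GolayPt) {p, q}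
    rw [Finset.inter_comm] at h7
    rw [Nat.even_iff]
    omega
  have h2 : IsCode _ := (K.ε_ker _ hev).1 h1
  have h3 := card_of_mem_supports h2
  have h8 : (symmDiff ({p, q} : Finset GolayPt) {r, s}).card = 0 := by omega
  rw [Finset.card_eq_zero] at h8
  exact symmDiff_eq_bot.1 h8

theorem ne_one_four {S : Finset GolayPt} (hS : S.card = 4) : K.ε S ≠ 1 := by
  intro h
  have h1 := DuadCent.isConj_four K hS
  rw [h] at h1
  exact z_ne_one K (isConj_one_left.1 h1)

/-- an element of `M24` fixing all the points but two is trivial -/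
theorem eq_one_of_fix {g : Equiv.Perm GolayPt} (hg : g ∈ M24) {a b : GolayPt} (hab : a ≠ b)
    (h : ∀ p, p ≠ a → p ≠ b → g p = p) : g = 1 := by
  classical
  obtain ⟨O₀, hO₀⟩ : ∃ O₀, O₀ ∈ octads := ⟨_, OctHex0.hex0_mem⟩
  have h8 := octad_card hO₀
  obtain ⟨c, hc, d, hd, hcd⟩ : ∃ c, c ∉ O₀ ∧ ∃ d, d ∉ O₀ ∧ c ≠ d := by
    have h1 : 1 < (Finset.univ \ O₀).card := by
      have h2 := Finset.card_sdiff_add_card_inter (Finset.univ : Finset GolayPt) O₀
      rw [Finset.univ_inter, h8, Finset.card_univ, HexMax.card24] at h2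
      omega
    obtain ⟨c, hc, d, hd, hcd⟩ := Finset.one_lt_card.1 h1
    exact ⟨c, (Finset.mem_sdiff.1 hc).2, d, (Finset.mem_sdiff.1 hd).2, hcd⟩
  obtain ⟨k, hka, hkb⟩ := exists_two hcd hab
  have hO : (k : Equiv.Perm GolayPt) • O₀ ∈ octads := HexMax.smul_octad k.2 hO₀
  have haO : a ∉ (k : Equiv.Perm GolayPt) • O₀ := by
    rw [← hka]
    intro h1
    exact hc (by simpa [Finset.mem_smul_finset] using h1)
  have hbO : b ∉ (k : Equiv.Perm GolayPt) • O₀ := by
    rw [← hkb]
    intro h1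
    exact hd (by simpa [Finset.mem_smul_finset] using h1)
  set O := (k : Equiv.Perm GolayPt) • O₀ with hOdef
  have hcardO := octad_card hO
  obtain ⟨p, hp⟩ : ∃ p, p ∉ O ∪ {a, b} := by
    by_contra hno
    push Not at hno
    have h1 : O ∪ {a, b} = Finset.univ := Finset.eq_univ_iff_forall.mpr hno
    have h2 := Finset.card_union_le O {a, b}
    rw [h1, Finset.card_univ, HexMax.card24, Finset.card_pair hab] at h2
    omega
  simp only [Finset.mem_union, Finset.mem_insert, Finset.mem_singleton, not_or] at hp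
  refine FusionComm.eq_one_of_fix_out hO (mem_fixOct.2 ⟨hg, fun x hx => h x ?_ ?_⟩) hp.1 (h p hp.2.1 hp.2.2)
  · rintro rfl
    exact haO hx
  · rintro rfl
    exact hbO hx

end Frame

/-! ### The centraliser of a duad -/

theorem exists_new (T : Finset GolayPt) (hT : T.card < 24) : ∃ x, x ∉ T := by
  by_contra hno
  push Not at hno
  have h1 : T = Finset.univ := Finset.eq_univ_iff_forall.mpr hno
  rw [h1, Finset.card_univ, HexMax.card24] at hT
  omega

theorem exists_map3 {a b c d : GolayPt} (hab : a ≠ b) (hac : a ≠ c) (hbc : b ≠ c) (had : a ≠ d) (hbd : b ≠ d) :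
    ∃ g : M24, (g : Equiv.Perm GolayPt) a = a ∧ (g : Equiv.Perm GolayPt) b = b ∧
      (g : Equiv.Perm GolayPt) c = d := by
  have h5 : MulAction.IsMultiplyPretransitive M24 GolayPt 5 := Cfsg.Agent.S0366.result
  have h3 : MulAction.IsMultiplyPretransitive M24 GolayPt 3 :=
    MulAction.isMultiplyPretransitive_of_le (n := 5) (by norm_num) (by simp [Cfsg.GolayPt])
  have inj : ∀ {x y z : GolayPt}, x ≠ y → x ≠ z → y ≠ z → Function.Injective ![x, y, z] := by
    intro x y z hxy hxz hyz i j hij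
    fin_cases i <;> fin_cases j <;> simp_all
  obtain ⟨g, hg⟩ := h3.exists_smul_eq ⟨![a, b, c], inj hab hac hbc⟩ ⟨![a, b, d], inj hab had hbd⟩
  refine ⟨g, ?_, ?_, ?_⟩
  · exact congrArg (fun f : Fin 3 ↪ GolayPt => f 0) hg
  · exact congrArg (fun f : Fin 3 ↪ GolayPt => f 1) hg
  · exact congrArg (fun f : Fin 3 ↪ GolayPt => f 2) hg

theorem smul_pair (g : Equiv.Perm GolayPt) (p q : GolayPt) : g • ({p, q} : Finset GolayPt) = {g p, g q} := by
  rw [Finset.smul_finset_insert, Finset.smul_finset_singleton]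
  rfl

section Duad

variable [Finite G] (C : J4Type.Compl G)

theorem bal_duad {p q : GolayPt} (hpq : p ≠ q) (I : Subgroup G)
    (h1 : ∀ i ∈ I, i * C.ε {p, q} = C.ε {p, q} * i)
    (h2 : ∀ c, c * C.ε {p, q} = C.ε {p, q} * c → ∀ i ∈ I, c * i * c⁻¹ ∈ I)
    (h3 : Odd (Nat.card I)) : I = ⊥ := by
  have hE := C.E_elem hex0 HexMax.hex0_isHex
  have hw : C.ε {p, q} ∈ C.E hex0 := C.ε_mem _ (even_two hpq)
  have hIE : ∀ x ∈ I, x ∈ C.E hex0 → x = 1 := by
    intro x hx hxE
    have e1 : x ^ 2 = 1 := by rw [pow_two]; exact hE.1 x hxE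
    have e2 : orderOf x ∣ Nat.card I := by
      have := orderOf_dvd_natCard (⟨x, hx⟩ : I)
      rwa [Subgroup.orderOf_mk] at this
    have e3 : orderOf x ∣ 2 := orderOf_dvd_of_pow_eq_one e1
    exact orderOf_eq_one_iff.1 (Nat.eq_one_of_dvd_coprimes h3.coprime_two_left e3 e2)
  rw [eq_bot_iff]
  intro x hx
  have hN := DuadCent.duad_cent C.toFrame hpq (h1 x hx)
  refine Subgroup.mem_bot.2 (hIE x hx (C.A_cent hex0 HexMax.hex0_isHex x fun a ha _ => ?_))
  have a1 : x * a * x⁻¹ ∈ C.E hex0 := (Subgroup.mem_normalizer_iff.1 hN a).1 ha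
  have a2 : x * a * x⁻¹ * a⁻¹ ∈ C.E hex0 := mul_mem a1 (inv_mem ha)
  have a3 : x * a * x⁻¹ * a⁻¹ ∈ I := by
    have := mul_mem hx (h2 a (hE.2 a ha _ hw) x⁻¹ (inv_mem hx))
    convert this using 1
    group
  have a4 := hIE _ a3 a2
  calc x * a = (x * a * x⁻¹ * a⁻¹) * a * x := by group
    _ = a * x := by rw [a4, one_mul]

theorem pair_symmDiff {p q a b : GolayPt} (hpa : p ≠ a) (hpb : p ≠ b) (hqa : q ≠ a)
    (hqb : q ≠ b) : symmDiff ({p, q} : Finset GolayPt) {a, b} = {p, q, a, b} := by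
  ext x
  simp only [Finset.mem_symmDiff, Finset.mem_insert, Finset.mem_singleton]
  constructor
  · rintro (⟨h | h, -⟩ | ⟨h | h, -⟩) <;> tauto
  · rintro (rfl | rfl | rfl | rfl)
    · exact Or.inl ⟨Or.inl rfl, by tauto⟩
    · exact Or.inl ⟨Or.inr rfl, by tauto⟩
    · exact Or.inr ⟨Or.inl rfl, by tauto⟩
    · exact Or.inr ⟨Or.inr rfl, by tauto⟩

theorem card_four {p q a b : GolayPt} (hpq : p ≠ q) (hab : a ≠ b) (hpa : p ≠ a) (hpb : p ≠ b) (hqa : q ≠ a)
    (hqb : q ≠ b) : ({p, q, a, b} : Finset GolayPt).card = 4 := by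
  rw [Finset.card_insert_of_notMem, Finset.card_insert_of_notMem, Finset.card_pair hab]
  · simp only [Finset.mem_insert, Finset.mem_singleton]
    tauto
  · simp only [Finset.mem_insert, Finset.mem_singleton]
    tauto

theorem pair_symmDiff' {a q r : GolayPt} (haq : a ≠ q) (har : a ≠ r) (hqr : q ≠ r) :
    symmDiff ({a, q} : Finset GolayPt) {a, r} = {q, r} := by
  ext x
  simp only [Finset.mem_symmDiff, Finset.mem_insert, Finset.mem_singleton]
  constructor
  · rintro (⟨h | h, h'⟩ | ⟨h | h, h'⟩) <;> tauto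
  · rintro (rfl | rfl)
    · exact Or.inl ⟨Or.inr rfl, by rintro (h | h); exacts [haq h.symm, hqr h]⟩
    · exact Or.inr ⟨Or.inr rfl, by rintro (h | h); exacts [har h.symm, hqr h.symm]⟩

theorem not_bad_duad (hz : Spor.Cen C.z) {a b : GolayPt} (hab : a ≠ b) (N : Subgroup G) :
    ¬ Spor.Bad (C.ε {a, b}) N := by
  intro hN
  have hE := C.E_elem hex0 HexMax.hex0_isHex
  have hwE : C.ε {a, b} ∈ C.E hex0 := C.ε_mem _ (even_two hab)
  have h4 : ∀ S : Finset GolayPt, S.card = 4 → C.ε S ∉ N := by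
    intro S hS hmem
    have hev : Even S.card := by rw [hS]; decide
    refine hN.non _ hmem (hE.1 _ (C.ε_mem _ hev)) (ne_one_four C.toFrame hS) ?_
    obtain ⟨n, hn⟩ := isConj_iff.1 (DuadCent.isConj_four C.toFrame hS)
    exact Spor.cen_conj hn hz
  have h5 : ∀ p q, p ≠ q → p ≠ a → p ≠ b → q ≠ a → q ≠ b → C.ε {p, q} ∉ N := by
    intro p q hpq h1 h2 h3 h6 hmem
    apply h4 _ (card_four hpq hab h1 h2 h3 h6)
    rw [← pair_symmDiff h1 h2 h3 h6, C.ε_mul _ _ (even_two hpq) (even_two hab)]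
    exact N.mul_mem hmem hN.mem
  have h6 : ∀ q, q ≠ a → q ≠ b → C.ε {a, q} ∉ N := by
    intro q hqa hqb hmem
    obtain ⟨r, hr⟩ := exists_new {a, b, q} (lt_of_le_of_lt Finset.card_le_three (by norm_num))
    simp only [Finset.mem_insert, Finset.mem_singleton, not_or] at hr
    obtain ⟨g, g1, g2, g3⟩ := exists_map3 hab hqa.symm hqb.symm (Ne.symm hr.1) (Ne.symm hr.2.1)
    have hc : C.φ g * C.ε {a, b} = C.ε {a, b} * C.φ g := by
      have := ClosingJ4.phi_conj C g (even_two hab)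
      rw [smul_pair, g1, g2] at this
      exact mul_inv_eq_iff_eq_mul.1 this
    have h7 := hN.norm _ hc _ hmem
    rw [ClosingJ4.phi_conj C g (even_two hqa.symm), smul_pair, g1, g3] at h7
    apply h5 q r (Ne.symm hr.2.2) hqa hqb hr.1 hr.2.1
    rw [← pair_symmDiff' hqa.symm (Ne.symm hr.1) (Ne.symm hr.2.2),
      C.ε_mul _ _ (even_two hqa.symm) (even_two (Ne.symm hr.1))]
    exact N.mul_mem hmem h7
  have h7 : ∀ q, q ≠ a → q ≠ b → C.ε {b, q} ∉ N := by
    intro q hqa hqb hmem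
    apply h6 q hqa hqb
    rw [← pair_symmDiff' hab.symm hqb.symm hqa.symm, C.ε_mul _ _ (even_two hab.symm) (even_two hqb.symm),
      Finset.pair_comm b a]
    exact N.mul_mem hN.mem hmem
  have h8 : ∀ x ∈ N, x ∈ C.E hex0 → x = 1 ∨ x = C.ε {a, b} := by
    intro x hx hxE
    rcases E_cases C.toFrame (a := x) hxE with h | ⟨p, q, hpq, h⟩ | ⟨S, hS, h⟩
    · exact Or.inl h
    · right
      have hx' : C.ε {p, q} ∈ N := by
        have : C.toFrame.ε {p, q} ∈ N := h ▸ hx
        exact this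
      by_cases hpa : p = a
      · subst hpa
        by_cases hqb : q = b
        · subst hqb
          exact h
        · exact absurd hx' (h6 q hpq.symm hqb)
      · by_cases hpb : p = b
        · subst hpb
          by_cases hqa : q = a
          · subst hqa
            rw [h, Finset.pair_comm p q]
          · exact absurd hx' (h7 q hqa hpq.symm)
        · by_cases hqa : q = a
          · subst hqa
            rw [Finset.pair_comm] at hx'
            exact absurd hx' (h6 p hpa hpb)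
          · by_cases hqb : q = b
            · subst hqb
              rw [Finset.pair_comm] at hx'
              exact absurd hx' (h7 p hpa hpb)
            · exact absurd hx' (h5 p q hpq hpa hpb hqa hqb)
    · exact absurd (h ▸ hx) (h4 S hS)
  have h9 : ∀ n ∈ N, n ∈ C.E hex0 := by
    intro n hn
    have hnN := DuadCent.duad_cent C.toFrame hab (hN.le n hn)
    have hpair : ∀ p q, p ≠ q → p ≠ a → p ≠ b → q ≠ a → q ≠ b →
        ({(C.π ⟨n, hnN⟩ : Equiv.Perm GolayPt) p, (C.π ⟨n, hnN⟩ : Equiv.Perm GolayPt) q} : Finset GolayPt) =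
          {p, q} := by
      intro p q hpq k1 k2 k3 k4
      have hg : (C.π ⟨n, hnN⟩ : Equiv.Perm GolayPt) p ≠ (C.π ⟨n, hnN⟩ : Equiv.Perm GolayPt) q :=
        fun h => hpq ((C.π ⟨n, hnN⟩ : Equiv.Perm GolayPt).injective h)
      have e1 : n * C.ε {p, q} * n⁻¹ =
          C.ε {(C.π ⟨n, hnN⟩ : Equiv.Perm GolayPt) p, (C.π ⟨n, hnN⟩ : Equiv.Perm GolayPt) q} := by
        rw [← smul_pair]
        exact C.π_smul ⟨n, hnN⟩ _ (even_two hpq)
      have hpE : C.ε {p, q} ∈ C.E hex0 := C.ε_mem _ (even_two hpq)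
      have e2 : n * C.ε {p, q} * n⁻¹ * (C.ε {p, q})⁻¹ ∈ N := by
        have := N.mul_mem hn (hN.norm (C.ε {p, q}) (hE.2 _ hpE _ hwE) n⁻¹ (N.inv_mem hn))
        convert this using 1
        group
      have e3 : n * C.ε {p, q} * n⁻¹ * (C.ε {p, q})⁻¹ ∈ C.E hex0 := by
        rw [e1]
        exact mul_mem (C.ε_mem _ (even_two hg)) (inv_mem hpE)
      rcases h8 _ e2 e3 with e | e
      · rw [mul_inv_eq_one, e1] at e
        exact duad_inj C.toFrame hg hpq e
      · exfalso
        rw [mul_inv_eq_iff_eq_mul, e1] at e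
        apply C.duad_not_conj _ _ hg
        rw [e, hE.2 _ hwE _ hpE, ← C.ε_mul _ _ (even_two hpq) (even_two hab), pair_symmDiff k1 k2 k3 k4]
        exact DuadCent.isConj_four C.toFrame (card_four hpq hab k1 k2 k3 k4)
    have hfix : ∀ p, p ≠ a → p ≠ b → (C.π ⟨n, hnN⟩ : Equiv.Perm GolayPt) p = p := by
      intro p hpa hpb
      obtain ⟨q, hq⟩ := exists_new {a, b, p} (lt_of_le_of_lt Finset.card_le_three (by norm_num))
      simp only [Finset.mem_insert, Finset.mem_singleton, not_or] at hq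
      obtain ⟨r, hr⟩ := exists_new {a, b, p, q} (lt_of_le_of_lt Finset.card_le_four (by norm_num))
      simp only [Finset.mem_insert, Finset.mem_singleton, not_or] at hr
      have k1 := hpair p q (Ne.symm hq.2.2) hpa hpb hq.1 hq.2.1
      have k2 := hpair p r (Ne.symm hr.2.2.1) hpa hpb hr.1 hr.2.1
      have k3 : (C.π ⟨n, hnN⟩ : Equiv.Perm GolayPt) p ∈ ({p, q} : Finset GolayPt) := by
        rw [← k1]; simp
      have k4 : (C.π ⟨n, hnN⟩ : Equiv.Perm GolayPt) p ∈ ({p, r} : Finset GolayPt) := by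
        rw [← k2]; simp
      simp only [Finset.mem_insert, Finset.mem_singleton] at k3 k4
      rcases k3 with k3 | k3
      · exact k3
      · rcases k4 with k4 | k4
        · exact k4
        · exact absurd (k4.symm.trans k3) hr.2.2.2
    exact (C.π_ker ⟨n, hnN⟩).1 (Subtype.ext (eq_one_of_fix (C.π ⟨n, hnN⟩).2 hab hfix))
  have h10 : Nat.card N ≤ Nat.card Bool := by
    classical
    apply Nat.card_le_card_of_injective (fun x : N => decide ((x : G) = 1))
    intro x y hxy
    have h3 : ((x : G) = 1) ↔ ((y : G) = 1) := by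
      have := congrArg (· = true) hxy
      simpa using this
    rcases h8 x x.2 (h9 x x.2) with hx | hx
    · exact Subtype.ext (hx.trans (h3.1 hx).symm)
    · rcases h8 y y.2 (h9 y y.2) with hy | hy
      · exact Subtype.ext ((h3.2 hy).trans hy.symm)
      · exact Subtype.ext (hx.trans hy.symm)
  rw [Nat.card_eq_fintype_card (α := Bool), Fintype.card_bool] at h10
  have := Nat.le_of_dvd Nat.card_pos hN.four
  omega

end Duad

/-! ### The sheet -/

/-- `Bad` and conjugation -/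
theorem Bad.conj {w g : G} {N : Subgroup G} (h : Spor.Bad (g * w * g⁻¹) N) :
    Spor.Bad w (N.map (MulAut.conj g⁻¹).toMonoidHom) := by
  have hmem : ∀ x : G, x ∈ N.map (MulAut.conj g⁻¹).toMonoidHom ↔ g * x * g⁻¹ ∈ N := by
    intro x
    constructor
    · rintro ⟨y, hy, rfl⟩
      show g * (g⁻¹ * y * g⁻¹⁻¹) * g⁻¹ ∈ N
      have e : g * (g⁻¹ * y * g⁻¹⁻¹) * g⁻¹ = y := by group
      rw [e]
      exact hy
    · intro hx
      refine ⟨_, hx, ?_⟩
      show g⁻¹ * (g * x * g⁻¹) * g⁻¹⁻¹ = x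
      group
  exact
    { sq := by
        have := h.sq
        calc w * w = g⁻¹ * (g * w * g⁻¹ * (g * w * g⁻¹)) * g := by group
          _ = 1 := by rw [this]; group
      ne := by
        rintro rfl
        apply h.ne
        group
      mem := (hmem _).2 h.mem
      le := by
        intro n hn
        have := h.le _ ((hmem n).1 hn)
        calc n * w = g⁻¹ * (g * n * g⁻¹ * (g * w * g⁻¹)) * g := by group
          _ = g⁻¹ * (g * w * g⁻¹ * (g * n * g⁻¹)) * g := by rw [this]
          _ = w * n := by group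
      norm := by
        intro c hc n hn
        rw [hmem] at hn ⊢
        have := h.norm (g * c * g⁻¹) (by
          calc g * c * g⁻¹ * (g * w * g⁻¹) = g * (c * w) * g⁻¹ := by group
            _ = g * (w * c) * g⁻¹ := by rw [hc]
            _ = _ := by group) _ hn
        convert this using 1
        group
      four := by
        rw [← Nat.card_congr (N.equivMapOfInjective _ (MulAut.conj g⁻¹).injective).toEquiv]
        exact h.four
      non := by
        intro b hb hbb hb1 hc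
        rw [hmem] at hb
        refine h.non _ hb ?_ ?_ (Spor.cen_conj rfl hc)
        · calc g * b * g⁻¹ * (g * b * g⁻¹) = g * (b * b) * g⁻¹ := by group
            _ = 1 := by rw [hbb]; group
        · intro e
          apply hb1
          calc b = g⁻¹ * (g * b * g⁻¹) * g := by group
            _ = 1 := by rw [e]; group }

/-- **The sheet of D4.** -/
theorem sheet [Finite G] [IsSimpleGroup G] (F : Full G) : Spor.Sheet G := by
  have hS := SheetJ4.sheet F
  have hcz : Spor.Cen F.C.z := Spor.cen_z hS.basic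
  refine Spor.Sheet.of_basic_tab hS.basic ?_ (Spor.out2_of_inn (SheetJ4.inner F)) (Spor.tab_of_not_bad ?_)
  · intro a haa ha1
    rcases classes F.C haa ha1 with ⟨g, hg⟩ | ⟨p, q, g, hpq, hg⟩
    · refine Spor.bal_of_one (Spor.bal_of_sheetE hS fun x hx hodd => ?_) hg
      exact mem_of_odd hx hodd (pow_orderOf_eq_one x)
    · exact Spor.bal_of_one (bal_duad F.C hpq) hg
  · intro w N hN
    rcases classes F.C hN.sq hN.ne with ⟨g, hg⟩ | ⟨p, q, g, hpq, hg⟩
    · exact hN.non w hN.mem hN.sq hN.ne (Spor.cen_conj hg hcz)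
    · rw [← hg] at hN
      exact not_bad_duad F.C hcz hpq _ (Bad.conj hN)

/-- **The sheet of D4 for every group isomorphic to `J4`.** -/
theorem exists_sheet {K : Type*} [Group K] (h : Cfsg.Spor.IsoJ4 K) : Spor.Sheet K := by
  obtain ⟨h1, h2, ⟨F⟩⟩ := exists_full h
  exact sheet F

end Cfsg.Agent.KFacts.J4.DFour
end
end
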